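import Cfsg.Agent.Fi24C.Bound
import Cfsg.Agent.Fi24C.Chain
import Cfsg.Prelude.Def_Spor_Fi24

set_option autoImplicit false
set_option Elab.async false
set_option maxRecDepth 100000
set_option linter.all false

namespace Cfsg.Agent.Fi24C
open Cfsg.Agent.CGT

open Cfsg.Spor
noncomputable def gens : List Fi24.Gen := [.l, .k, .a, .b, .c, .d, .e, .f, .g, .j, .h, .i]
theorem gens_all : ∀ x, x ∈ gens := by intro x; cases x <;> decide
theorem gens_nodup : gens.Nodup := by decide
/-- the generators of the full group -/
noncomputable abbrev δ : ℕ → Fi24 := pγ gens Fi24.edges Fi24.extra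
theorem rels : Holds (ext δ) RR := (pres_holds gens_all _ _).subR (by decide +kernel)
theorem gen_top0 : gp δ [0, 2, 4, 6, 8, 10, 12, 14, 16, 18, 20, 22] = ⊤ := pres_gen gens_all _ _ (by decide +kernel)
theorem bound0 : Finite Fi24 ∧ Nat.card Fi24 ≤ 2510411418381323442585600 := (bd0 rels).top gen_top0
theorem sq (j : ℕ) (hj : j < 12) : δ j * δ j = 1 := by
  have : [2 * j, 2 * j] ∈ RR := by interval_cases j <;> decide +kernel
  simpa [ext_two_mul] using rels _ this
theorem adj (i j : ℕ) (h : [2 * i, 2 * j, 2 * i, 2 * j, 2 * i, 2 * j] ∈ RR) (hi : i < 12) (hj : j < 12) :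
    Abelianization.of (δ i) = Abelianization.of (δ j) :=
  ab_eq (sq i hi) (sq j hj) (by simpa [ext_two_mul] using rels _ h)
theorem ab (j : ℕ) (hj : j < 12) : Abelianization.of (δ 0) = Abelianization.of (δ j) := by
  have h1 := adj 0 1 (by decide +kernel) (by decide) (by decide)
  have h2 := h1.trans (adj 1 2 (by decide +kernel) (by decide) (by decide))
  have h3 := h2.trans (adj 2 3 (by decide +kernel) (by decide) (by decide))
  have h4 := h3.trans (adj 3 4 (by decide +kernel) (by decide) (by decide))
  have h5 := h4.trans (adj 4 5 (by decide +kernel) (by decide) (by decide))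
  have h6 := h5.trans (adj 5 6 (by decide +kernel) (by decide) (by decide))
  have h7 := h6.trans (adj 6 7 (by decide +kernel) (by decide) (by decide))
  have h8 := h7.trans (adj 7 8 (by decide +kernel) (by decide) (by decide))
  have h9 := h8.trans (adj 8 9 (by decide +kernel) (by decide) (by decide))
  have h10 := h5.trans (adj 5 10 (by decide +kernel) (by decide) (by decide))
  have h11 := h10.trans (adj 10 11 (by decide +kernel) (by decide) (by decide))
  interval_cases j
  exacts [rfl, h1, h2, h3, h4, h5, h6, h7, h8, h9, h10, h11]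
/-- the generators of the simple group -/
noncomputable def γ (j : ℕ) : Fi24' := if h : j < 11 then
  ⟨δ 0 * δ (j + 1), mul_mem_commutator (sq _ (by omega)) (ab _ (by omega))⟩ else 1
theorem gam1 (j : ℕ) (hj : 11 ≤ j) : γ j = 1 := dif_neg (by omega)
theorem gam_val (j : ℕ) (hj : j < 11) : (γ j : Fi24) = δ 0 * δ (j + 1) := by rw [γ, dif_pos hj]
theorem bound : Finite Fi24' ∧ Nat.card Fi24' ≤ 1255205709190661721292800 := by
  haveI := bound0.1
  obtain ⟨f, hf⟩ := pres_lift gens_all gens_nodup (edges := Fi24.edges) (extra := Fi24.extra)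
    (p := fun j => if j < 12 then (-1 : ℤˣ) else 1) (fun j hj => if_neg (by change 12 ≤ j at hj; omega))
    (holds_parity (by decide +kernel))
  exact card_commutator_le bound0.2 f (x := δ 0) (by rw [hf]; decide)
theorem cert : ∃ φ, Cert φ γ 19 m_ns m_ts [0, 2, 4, 6, 8, 10, 12, 14, 16, 18, 20] c_ls := by
  obtain ⟨φ, hφ⟩ := pres_perm gens_all gens_nodup (edges := Fi24.edges) (extra := Fi24.extra)
    (ns := l0_ns) rfl l0_p (by decide +kernel)
  have M : Model (φ.comp (commutator Fi24).subtype) γ 19 m_ns m_ts := ⟨m_v, fun j => by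
    by_cases hj : j < 11
    · rw [MonoidHom.comp_apply, Subgroup.coe_subtype, gam_val j hj, map_mul, hφ, hφ, m_ns,
        netPerm_prodNets l0_ns (show j + 1 < 12 by omega)]
    · rw [gam1 j (by omega), map_one, netPerm_of_le m_ns (show 11 ≤ j by omega)], m_ts_ok⟩
  exact ⟨_, Cert.of_card M (c_sound M) bound (by decide +kernel)⟩
theorem card_eq : Nat.card Fi24' = 1255205709190661721292800 := by
  obtain ⟨φ, C⟩ := cert
  exact C.card.trans (by decide +kernel)

end Cfsg.Agent.Fi24C
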