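import Cfsg.Agent.Fi24C.L0D11

set_option autoImplicit false
set_option Elab.async false
set_option maxRecDepth 100000
set_option linter.all false

namespace Cfsg.Agent.Fi24C
open Cfsg.Agent.CGT

theorem l0_p0 : holdsB 19 l0_ns [[0, 0], [2, 2]] = true := by decide +kernel
theorem l0_p1 : holdsB 19 l0_ns [[4, 4], [6, 6]] = true := by decide +kernel
theorem l0_p2 : holdsB 19 l0_ns [[8, 8], [10, 10]] = true := by decide +kernel
theorem l0_p3 : holdsB 19 l0_ns [[12, 12], [14, 14]] = true := by decide +kernel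
theorem l0_p4 : holdsB 19 l0_ns [[16, 16], [18, 18]] = true := by decide +kernel
theorem l0_p5 : holdsB 19 l0_ns [[20, 20], [22, 22]] = true := by decide +kernel
theorem l0_p6 : holdsB 19 l0_ns [[0, 2, 0, 2, 0, 2]] = true := by decide +kernel
theorem l0_p7 : holdsB 19 l0_ns [[0, 4, 0, 4]] = true := by decide +kernel
theorem l0_p8 : holdsB 19 l0_ns [[0, 6, 0, 6]] = true := by decide +kernel
theorem l0_p9 : holdsB 19 l0_ns [[0, 8, 0, 8]] = true := by decide +kernel
theorem l0_p10 : holdsB 19 l0_ns [[0, 10, 0, 10]] = true := by decide +kernel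
theorem l0_p11 : holdsB 19 l0_ns [[0, 12, 0, 12]] = true := by decide +kernel
theorem l0_p12 : holdsB 19 l0_ns [[0, 14, 0, 14]] = true := by decide +kernel
theorem l0_p13 : holdsB 19 l0_ns [[0, 16, 0, 16]] = true := by decide +kernel
theorem l0_p14 : holdsB 19 l0_ns [[0, 18, 0, 18]] = true := by decide +kernel
theorem l0_p15 : holdsB 19 l0_ns [[0, 20, 0, 20]] = true := by decide +kernel
theorem l0_p16 : holdsB 19 l0_ns [[0, 22, 0, 22]] = true := by decide +kernel
theorem l0_p17 : holdsB 19 l0_ns [[2, 4, 2, 4, 2, 4]] = true := by decide +kernel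
theorem l0_p18 : holdsB 19 l0_ns [[2, 6, 2, 6]] = true := by decide +kernel
theorem l0_p19 : holdsB 19 l0_ns [[2, 8, 2, 8]] = true := by decide +kernel
theorem l0_p20 : holdsB 19 l0_ns [[2, 10, 2, 10]] = true := by decide +kernel
theorem l0_p21 : holdsB 19 l0_ns [[2, 12, 2, 12]] = true := by decide +kernel
theorem l0_p22 : holdsB 19 l0_ns [[2, 14, 2, 14]] = true := by decide +kernel
theorem l0_p23 : holdsB 19 l0_ns [[2, 16, 2, 16]] = true := by decide +kernel
theorem l0_p24 : holdsB 19 l0_ns [[2, 18, 2, 18]] = true := by decide +kernel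
theorem l0_p25 : holdsB 19 l0_ns [[2, 20, 2, 20]] = true := by decide +kernel
theorem l0_p26 : holdsB 19 l0_ns [[2, 22, 2, 22]] = true := by decide +kernel
theorem l0_p27 : holdsB 19 l0_ns [[4, 6, 4, 6, 4, 6]] = true := by decide +kernel
theorem l0_p28 : holdsB 19 l0_ns [[4, 8, 4, 8]] = true := by decide +kernel
theorem l0_p29 : holdsB 19 l0_ns [[4, 10, 4, 10]] = true := by decide +kernel
theorem l0_p30 : holdsB 19 l0_ns [[4, 12, 4, 12]] = true := by decide +kernel
theorem l0_p31 : holdsB 19 l0_ns [[4, 14, 4, 14]] = true := by decide +kernel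
theorem l0_p32 : holdsB 19 l0_ns [[4, 16, 4, 16]] = true := by decide +kernel
theorem l0_p33 : holdsB 19 l0_ns [[4, 18, 4, 18]] = true := by decide +kernel
theorem l0_p34 : holdsB 19 l0_ns [[4, 20, 4, 20]] = true := by decide +kernel
theorem l0_p35 : holdsB 19 l0_ns [[4, 22, 4, 22]] = true := by decide +kernel
theorem l0_p36 : holdsB 19 l0_ns [[6, 8, 6, 8, 6, 8]] = true := by decide +kernel
theorem l0_p37 : holdsB 19 l0_ns [[6, 10, 6, 10]] = true := by decide +kernel
theorem l0_p38 : holdsB 19 l0_ns [[6, 12, 6, 12]] = true := by decide +kernel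
theorem l0_p39 : holdsB 19 l0_ns [[6, 14, 6, 14]] = true := by decide +kernel
theorem l0_p40 : holdsB 19 l0_ns [[6, 16, 6, 16]] = true := by decide +kernel
theorem l0_p41 : holdsB 19 l0_ns [[6, 18, 6, 18]] = true := by decide +kernel
theorem l0_p42 : holdsB 19 l0_ns [[6, 20, 6, 20]] = true := by decide +kernel
theorem l0_p43 : holdsB 19 l0_ns [[6, 22, 6, 22]] = true := by decide +kernel
theorem l0_p44 : holdsB 19 l0_ns [[8, 10, 8, 10, 8, 10]] = true := by decide +kernel
theorem l0_p45 : holdsB 19 l0_ns [[8, 12, 8, 12]] = true := by decide +kernel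
theorem l0_p46 : holdsB 19 l0_ns [[8, 14, 8, 14]] = true := by decide +kernel
theorem l0_p47 : holdsB 19 l0_ns [[8, 16, 8, 16]] = true := by decide +kernel
theorem l0_p48 : holdsB 19 l0_ns [[8, 18, 8, 18]] = true := by decide +kernel
theorem l0_p49 : holdsB 19 l0_ns [[8, 20, 8, 20]] = true := by decide +kernel
theorem l0_p50 : holdsB 19 l0_ns [[8, 22, 8, 22]] = true := by decide +kernel
theorem l0_p51 : holdsB 19 l0_ns [[10, 12, 10, 12, 10, 12]] = true := by decide +kernel
theorem l0_p52 : holdsB 19 l0_ns [[10, 14, 10, 14]] = true := by decide +kernel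
theorem l0_p53 : holdsB 19 l0_ns [[10, 16, 10, 16]] = true := by decide +kernel
theorem l0_p54 : holdsB 19 l0_ns [[10, 18, 10, 18]] = true := by decide +kernel
theorem l0_p55 : holdsB 19 l0_ns [[10, 20, 10, 20, 10, 20]] = true := by decide +kernel
theorem l0_p56 : holdsB 19 l0_ns [[10, 22, 10, 22]] = true := by decide +kernel

end Cfsg.Agent.Fi24C
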