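import Cfsg.Agent.Fi24C.L0D11

set_option autoImplicit false
set_option Elab.async false
set_option maxRecDepth 100000
set_option linter.all false

namespace Cfsg.Agent.Fi24C
open Cfsg.Agent.CGT

theorem l0_p57 : holdsB 19 l0_ns [[12, 14, 12, 14, 12, 14]] = true := by decide +kernel
theorem l0_p58 : holdsB 19 l0_ns [[12, 16, 12, 16]] = true := by decide +kernel
theorem l0_p59 : holdsB 19 l0_ns [[12, 18, 12, 18]] = true := by decide +kernel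
theorem l0_p60 : holdsB 19 l0_ns [[12, 20, 12, 20]] = true := by decide +kernel
theorem l0_p61 : holdsB 19 l0_ns [[12, 22, 12, 22]] = true := by decide +kernel
theorem l0_p62 : holdsB 19 l0_ns [[14, 16, 14, 16, 14, 16]] = true := by decide +kernel
theorem l0_p63 : holdsB 19 l0_ns [[14, 18, 14, 18]] = true := by decide +kernel
theorem l0_p64 : holdsB 19 l0_ns [[14, 20, 14, 20]] = true := by decide +kernel
theorem l0_p65 : holdsB 19 l0_ns [[14, 22, 14, 22]] = true := by decide +kernel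
theorem l0_p66 : holdsB 19 l0_ns [[16, 18, 16, 18, 16, 18]] = true := by decide +kernel
theorem l0_p67 : holdsB 19 l0_ns [[16, 20, 16, 20]] = true := by decide +kernel
theorem l0_p68 : holdsB 19 l0_ns [[16, 22, 16, 22]] = true := by decide +kernel
theorem l0_p69 : holdsB 19 l0_ns [[18, 20, 18, 20]] = true := by decide +kernel
theorem l0_p70 : holdsB 19 l0_ns [[18, 22, 18, 22]] = true := by decide +kernel
theorem l0_p71 : holdsB 19 l0_ns [[20, 22, 20, 22, 20, 22]] = true := by decide +kernel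
theorem l0_f : allL l0_E.Sub (fixN l0_E.ns l0_E.b0) = true := by decide +kernel
theorem l0_r0 : l0_E.run [10, 4, 18, 8, 26, 12, 34, 16, 42, 20, 50, 24, 58, 28, 66, 32, 74, 36, 82, 40, 90, 44, 2, 0, 10, 4, 18, 8, 26, 12, 34, 16, 42, 20, 50, 24, 58, 28, 66, 32, 82, 40, 34, 16, 42, 20, 50, 24, 58, 28, 66, 32, 74, 36, 82, 40, 90, 44, 26, 12, 34, 16, 42, 20, 50, 24, 58, 28] (1 <<< 0) (List.replicate 24 0) (fun D K => Nat.beq D l0_D0 && beqL K [l0_K0_0, 0, l0_K0_2, 0, l0_K0_4, 0, l0_K0_6, 0, l0_K0_8, 0, l0_K0_10, 0, l0_K0_12, 0, l0_K0_14, 0, l0_K0_16, 0, l0_K0_18, 0, l0_K0_20, 0, l0_K0_22, 0]) = true := by decide +kernel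
theorem l0_r1 : l0_E.run [66, 32, 74, 36, 82, 40, 90, 44, 26, 12, 34, 16, 42, 20, 50, 24, 58, 28, 66, 32, 74, 36, 82, 40, 90, 44, 18, 8, 26, 12, 34, 16, 42, 20, 50, 24, 58, 28, 66, 32, 74, 36, 82, 40, 90, 44, 10, 4, 18, 8, 26, 12, 34, 16, 42, 20, 50, 24, 58, 28, 66, 32, 74, 36, 82, 40, 90, 44] l0_D0 [l0_K0_0, 0, l0_K0_2, 0, l0_K0_4, 0, l0_K0_6, 0, l0_K0_8, 0, l0_K0_10, 0, l0_K0_12, 0, l0_K0_14, 0, l0_K0_16, 0, l0_K0_18, 0, l0_K0_20, 0, l0_K0_22, 0] (fun D K => Nat.beq D l0_D1 && beqL K [l0_K0_0, 0, l0_K1_2, 0, l0_K1_4, 0, l0_K1_6, 0, l0_K1_8, 0, l0_K1_10, 0, l0_K1_12, 0, l0_K1_14, 0, l0_K1_16, 0, l0_K1_18, 0, l0_K1_20, 0, l0_K1_22, 0]) = true := by decide +kernel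
theorem l0_r2 : l0_E.run [2, 0, 18, 8, 26, 12, 34, 16, 18, 8, 26, 12, 4148, 4152, 4156, 64, 4160, 68, 4164, 72, 4168, 76, 4172, 4176, 84, 4180, 4184, 96, 4192, 100, 4196, 104, 4200, 108, 4204, 112, 4208, 116, 4212, 120] l0_D1 [l0_K0_0, 0, l0_K1_2, 0, l0_K1_4, 0, l0_K1_6, 0, l0_K1_8, 0, l0_K1_10, 0, l0_K1_12, 0, l0_K1_14, 0, l0_K1_16, 0, l0_K1_18, 0, l0_K1_20, 0, l0_K1_22, 0] (fun D K => Nat.beq D l0_D2 && beqL K [l0_K2_0, 0, l0_K2_2, 0, l0_K2_4, 0, l0_K2_6, 0, l0_K2_8, 0, l0_K2_10, 0, l0_K2_12, 0, l0_K2_14, 0, l0_K2_16, 0, l0_K2_18, 0, l0_K2_20, 0, l0_K2_22, 0]) = true := by decide +kernel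
theorem l0_r3 : l0_E.run [4216, 124, 4220, 128, 4224, 136, 4232, 140, 4236, 144, 4240, 148, 4244, 152, 4248, 156, 4252, 160, 4256, 4260, 172, 4268, 176, 4272, 180, 4276, 184, 4280, 4284, 192, 4288, 4292, 4300, 4304] l0_D2 [l0_K2_0, 0, l0_K2_2, 0, l0_K2_4, 0, l0_K2_6, 0, l0_K2_8, 0, l0_K2_10, 0, l0_K2_12, 0, l0_K2_14, 0, l0_K2_16, 0, l0_K2_18, 0, l0_K2_20, 0, l0_K2_22, 0] (fun D K => Nat.beq D l0_D2 && beqL K [l0_K2_0, 0, l0_K3_2, 0, l0_K3_4, 0, l0_K3_6, 0, l0_K3_8, 0, l0_K3_10, 0, l0_K3_12, 0, l0_K3_14, 0, l0_K3_16, 0, l0_K3_18, 0, l0_K3_20, 0, l0_K3_22, 0]) = true := by decide +kernel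
theorem l0_r4 : l0_E.run [4308, 4312, 4316, 4320, 4328, 4332, 4336, 4344, 4352, 4356, 264, 268, 4364, 4372, 280, 284, 4380, 292, 296, 4392, 300, 304, 4400, 60, 64, 68, 72, 4168, 76, 4172, 80, 4176, 84, 88] l0_D2 [l0_K2_0, 0, l0_K3_2, 0, l0_K3_4, 0, l0_K3_6, 0, l0_K3_8, 0, l0_K3_10, 0, l0_K3_12, 0, l0_K3_14, 0, l0_K3_16, 0, l0_K3_18, 0, l0_K3_20, 0, l0_K3_22, 0] (fun D K => Nat.beq D l0_D2 && beqL K [l0_K4_0, 0, l0_K3_2, 0, l0_K3_4, 0, l0_K3_6, 0, l0_K3_8, 0, l0_K3_10, 0, l0_K4_12, 0, l0_K4_14, 0, l0_K4_16, 0, l0_K4_18, 0, l0_K4_20, 0, l0_K4_22, 0]) = true := by decide +kernel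
theorem l0_r5 : l0_E.run [4184, 4192, 100, 104, 108, 4204, 112, 4208, 116, 4212, 120, 4216, 124, 4220, 128, 4224, 136, 140, 4236, 144, 4240, 148, 4244, 152, 4248, 156, 4252, 160, 4256, 164, 4260, 172, 176, 4272] l0_D2 [l0_K4_0, 0, l0_K3_2, 0, l0_K3_4, 0, l0_K3_6, 0, l0_K3_8, 0, l0_K3_10, 0, l0_K4_12, 0, l0_K4_14, 0, l0_K4_16, 0, l0_K4_18, 0, l0_K4_20, 0, l0_K4_22, 0] (fun D K => Nat.beq D l0_D2 && beqL K [l0_K4_0, 0, l0_K5_2, 0, l0_K5_4, 0, l0_K5_6, 0, l0_K3_8, 0, l0_K5_10, 0, l0_K5_12, 0, l0_K5_14, 0, l0_K5_16, 0, l0_K5_18, 0, l0_K5_20, 0, l0_K5_22, 0]) = true := by decide +kernel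
theorem l0_r6 : l0_E.run [180, 4276, 4280, 4284, 4288, 4292, 4304, 4308, 4312, 4320, 4328, 4332, 4336, 4344, 4352, 4356, 4364, 4372, 280, 284, 4380, 292, 296, 4392, 300, 304, 56, 60, 64, 68, 72, 4168, 76, 80] l0_D2 [l0_K4_0, 0, l0_K5_2, 0, l0_K5_4, 0, l0_K5_6, 0, l0_K3_8, 0, l0_K5_10, 0, l0_K5_12, 0, l0_K5_14, 0, l0_K5_16, 0, l0_K5_18, 0, l0_K5_20, 0, l0_K5_22, 0] (fun D K => Nat.beq D l0_D2 && beqL K [l0_K6_0, 0, l0_K5_2, 0, l0_K5_4, 0, l0_K6_6, 0, l0_K3_8, 0, l0_K5_10, 0, l0_K5_12, 0, l0_K6_14, 0, l0_K6_16, 0, l0_K6_18, 0, l0_K6_20, 0, l0_K6_22, 0]) = true := by decide +kernel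
theorem l0_r7 : l0_E.run [84, 88, 4184, 96, 100, 104, 108, 112, 4208, 116, 4212, 120, 4216, 124, 128, 4224, 136, 140, 144, 4240, 148, 4244, 152, 4248, 4252, 160, 4256, 164, 4260, 4276, 4280, 4284, 4292, 4304] l0_D2 [l0_K6_0, 0, l0_K5_2, 0, l0_K5_4, 0, l0_K6_6, 0, l0_K3_8, 0, l0_K5_10, 0, l0_K5_12, 0, l0_K6_14, 0, l0_K6_16, 0, l0_K6_18, 0, l0_K6_20, 0, l0_K6_22, 0] (fun D K => Nat.beq D l0_D2 && beqL K [l0_K7_0, 0, l0_K7_2, 0, l0_K7_4, 0, l0_K6_6, 0, l0_K3_8, 0, l0_K5_10, 0, l0_K7_12, 0, l0_K7_14, 0, l0_K7_16, 0, l0_K7_18, 0, l0_K7_20, 0, l0_K7_22, 0]) = true := by decide +kernel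
theorem l0_r8 : l0_E.run [4308, 4312, 4320, 4328, 4332, 4336, 4344, 4352, 4356, 4364, 4372, 280, 292, 296, 300, 304, 56, 60, 64, 68, 72, 76, 80, 84, 88, 96, 100, 104, 108, 112, 4208, 116, 4212, 120] l0_D2 [l0_K7_0, 0, l0_K7_2, 0, l0_K7_4, 0, l0_K6_6, 0, l0_K3_8, 0, l0_K5_10, 0, l0_K7_12, 0, l0_K7_14, 0, l0_K7_16, 0, l0_K7_18, 0, l0_K7_20, 0, l0_K7_22, 0] (fun D K => Nat.beq D l0_D2 && beqL K [l0_K8_0, 0, l0_K8_2, 0, l0_K7_4, 0, l0_K6_6, 0, l0_K3_8, 0, l0_K5_10, 0, l0_K7_12, 0, l0_K8_14, 0, l0_K8_16, 0, l0_K8_18, 0, l0_K7_20, 0, l0_K8_22, 0]) = true := by decide +kernel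
theorem l0_r9 : l0_E.run [4216, 124, 128, 140, 4244, 4248, 4252, 160, 4260, 4276, 4280, 4284, 4292, 4304, 4308, 4312, 4328, 4332, 4336, 4352, 4356, 4372, 292, 296, 300, 304, 52, 56, 60, 64, 68, 72, 76, 4172] l0_D2 [l0_K8_0, 0, l0_K8_2, 0, l0_K7_4, 0, l0_K6_6, 0, l0_K3_8, 0, l0_K5_10, 0, l0_K7_12, 0, l0_K8_14, 0, l0_K8_16, 0, l0_K8_18, 0, l0_K7_20, 0, l0_K8_22, 0] (fun D K => Nat.beq D l0_D2 && beqL K [l0_K9_0, 0, l0_K9_2, 0, l0_K9_4, 0, l0_K6_6, 0, l0_K3_8, 0, l0_K5_10, 0, l0_K7_12, 0, l0_K9_14, 0, l0_K9_16, 0, l0_K9_18, 0, l0_K7_20, 0, l0_K9_22, 0]) = true := by decide +kernel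
theorem l0_r10 : l0_E.run [80, 4176, 84, 88, 96, 100, 104, 108, 112, 116, 4212, 120, 4216, 124, 136, 140, 144, 4244, 4248, 4252, 4280, 4284, 4308, 4312, 4332, 4336, 4352, 4356, 4372, 292, 296, 300, 304, 52] l0_D2 [l0_K9_0, 0, l0_K9_2, 0, l0_K9_4, 0, l0_K6_6, 0, l0_K3_8, 0, l0_K5_10, 0, l0_K7_12, 0, l0_K9_14, 0, l0_K9_16, 0, l0_K9_18, 0, l0_K7_20, 0, l0_K9_22, 0] (fun D K => Nat.beq D l0_D2 && beqL K [l0_K10_0, 0, l0_K10_2, 0, l0_K10_4, 0, l0_K6_6, 0, l0_K3_8, 0, l0_K5_10, 0, l0_K7_12, 0, l0_K10_14, 0, l0_K10_16, 0, l0_K10_18, 0, l0_K7_20, 0, l0_K9_22, 0]) = true := by decide +kernel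
theorem l0_r11 : l0_E.run [56, 60, 64, 68, 72, 76, 4172, 80, 4176, 84, 88, 100, 104, 4248, 4252, 4280, 4284, 4308, 4312, 4332, 4336, 4356, 4372, 300, 304, 52, 56, 60, 96, 100, 4216, 4252, 4312, 4336] l0_D2 [l0_K10_0, 0, l0_K10_2, 0, l0_K10_4, 0, l0_K6_6, 0, l0_K3_8, 0, l0_K5_10, 0, l0_K7_12, 0, l0_K10_14, 0, l0_K10_16, 0, l0_K10_18, 0, l0_K7_20, 0, l0_K9_22, 0] (fun D K => Nat.beq D l0_D2 && beqL K [l0_K11_0, 0, l0_K11_2, 0, l0_K10_4, 0, l0_K6_6, 0, l0_K3_8, 0, l0_K5_10, 0, l0_K7_12, 0, l0_K10_14, 0, l0_K11_16, 0, l0_K11_18, 0, l0_K7_20, 0, l0_K9_22, 0]) = true := by decide +kernel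
theorem l0_r12 : l0_E.run [4356, 4188, 4228, 4264, 4296, 228, 4324, 244, 4340, 252, 4348, 272, 4368, 288, 308, 4404, 4160, 4180, 4200, 4204, 4220, 4232, 4236, 4240] l0_D2 [l0_K11_0, 0, l0_K11_2, 0, l0_K10_4, 0, l0_K6_6, 0, l0_K3_8, 0, l0_K5_10, 0, l0_K7_12, 0, l0_K10_14, 0, l0_K11_16, 0, l0_K11_18, 0, l0_K7_20, 0, l0_K9_22, 0] (fun D K => Nat.beq D l0_D2 && beqL K [l0_K11_0, 0, l0_K11_2, 0, l0_K12_4, 0, l0_K12_6, 0, l0_K12_8, 0, l0_K12_10, 0, l0_K12_12, 0, l0_K12_14, 0, l0_K12_16, 0, l0_K12_18, 0, l0_K12_20, 0, l0_K12_22, 0]) = true := by decide +kernel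
theorem l0_r13 : l0_E.run [4244, 4248, 4256, 4260, 4268, 4272, 4276, 4280, 4288, 4292, 4300, 4304, 4308, 4316, 4320, 232, 4328, 236, 4332, 240, 248, 4344, 256, 4352, 260, 264, 4360, 268, 4364, 276, 280, 4376, 284, 4380] l0_D2 [l0_K11_0, 0, l0_K11_2, 0, l0_K12_4, 0, l0_K12_6, 0, l0_K12_8, 0, l0_K12_10, 0, l0_K12_12, 0, l0_K12_14, 0, l0_K12_16, 0, l0_K12_18, 0, l0_K12_20, 0, l0_K12_22, 0] (fun D K => Nat.beq D l0_D2 && beqL K [l0_K11_0, 0, l0_K11_2, 0, l0_K12_4, 0, l0_K12_6, 0, l0_K12_8, 0, l0_K13_10, 0, l0_K13_12, 0, l0_K13_14, 0, l0_K13_16, 0, l0_K12_18, 0, l0_K13_20, 0, l0_K13_22, 0]) = true := by decide +kernel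
theorem l0_r14 : l0_E.run [292, 4388, 296, 4392, 4396, 4400, 4236, 4240, 4244, 4272, 4276, 4304, 4328, 4332, 4344, 4352, 4360, 4364, 280, 4376, 4380, 292, 4388, 4392, 4304, 4328, 4332, 200, 228, 4324, 244] l0_D2 [l0_K11_0, 0, l0_K11_2, 0, l0_K12_4, 0, l0_K12_6, 0, l0_K12_8, 0, l0_K13_10, 0, l0_K13_12, 0, l0_K13_14, 0, l0_K13_16, 0, l0_K12_18, 0, l0_K13_20, 0, l0_K13_22, 0] (fun D K => Nat.beq D l0_D2 && beqL K [l0_K11_0, 0, l0_K11_2, 0, l0_K12_4, 0, l0_K12_6, 0, l0_K14_8, 0, l0_K14_10, 0, l0_K14_12, 0, l0_K14_14, 0, l0_K14_16, 0, l0_K12_18, 0, l0_K14_20, 0, l0_K14_22, 0]) = true := by decide +kernel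
theorem l0_r15 : l0_E.run [4340, 252, 4348, 272, 308, 4160, 4196, 4200, 4220, 4232, 4236, 4240, 4256, 4268, 4288, 204, 4300, 208, 4304, 212, 216, 220, 4316, 224, 232, 4328, 236, 240, 248, 256] l0_D2 [l0_K11_0, 0, l0_K11_2, 0, l0_K12_4, 0, l0_K12_6, 0, l0_K14_8, 0, l0_K14_10, 0, l0_K14_12, 0, l0_K14_14, 0, l0_K14_16, 0, l0_K12_18, 0, l0_K14_20, 0, l0_K14_22, 0] (fun D K => Nat.beq D l0_D2 && beqL K [l0_K11_0, 0, l0_K11_2, 0, l0_K12_4, 0, l0_K12_6, 0, l0_K15_8, 0, l0_K15_10, 0, l0_K15_12, 0, l0_K15_14, 0, l0_K14_16, 0, l0_K12_18, 0, l0_K15_20, 0, l0_K14_22, 0]) = true := by decide +kernel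
theorem l0_r16 : l0_E.run [260, 264, 4360, 276, 280, 4376, 284, 4388, 4396, 4204, 4272, 4276, 4328, 4360, 4376, 4388, 4304, 168, 200, 4296, 228, 4324, 244, 4340, 252, 4348, 4368] l0_D2 [l0_K11_0, 0, l0_K11_2, 0, l0_K12_4, 0, l0_K12_6, 0, l0_K15_8, 0, l0_K15_10, 0, l0_K15_12, 0, l0_K15_14, 0, l0_K14_16, 0, l0_K12_18, 0, l0_K15_20, 0, l0_K14_22, 0] (fun D K => Nat.beq D l0_D2 && beqL K [l0_K11_0, 0, l0_K11_2, 0, l0_K12_4, 0, l0_K16_6, 0, l0_K16_8, 0, l0_K16_10, 0, l0_K16_12, 0, l0_K16_14, 0, l0_K16_16, 0, l0_K12_18, 0, l0_K16_20, 0, l0_K14_22, 0]) = true := by decide +kernel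
theorem l0_r17 : l0_E.run [4384, 4404, 4196, 4200, 4204, 4208, 4212, 4216, 4220, 4224, 4232, 4236, 4240, 4244, 4248, 4252, 4256, 4260, 172, 4268, 176, 4272, 180, 184, 192, 4288, 204, 4300, 208, 4304, 212, 4308] l0_D2 [l0_K11_0, 0, l0_K11_2, 0, l0_K12_4, 0, l0_K16_6, 0, l0_K16_8, 0, l0_K16_10, 0, l0_K16_12, 0, l0_K16_14, 0, l0_K16_16, 0, l0_K12_18, 0, l0_K16_20, 0, l0_K14_22, 0] (fun D K => Nat.beq D l0_D2 && beqL K [l0_K11_0, 0, l0_K11_2, 0, l0_K12_4, 0, l0_K17_6, 0, l0_K17_8, 0, l0_K17_10, 0, l0_K17_12, 0, l0_K17_14, 0, l0_K17_16, 0, l0_K17_18, 0, l0_K17_20, 0, l0_K17_22, 0]) = true := by decide +kernel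
theorem l0_r18 : l0_E.run [216, 4312, 220, 4316, 224, 4320, 232, 4328, 236, 4332, 240, 4336, 248, 4344, 256, 4352, 260, 4356, 4360, 4364, 280, 4376, 284, 4380, 292, 4388, 296, 4392, 300, 4396, 304, 4400, 4272, 4276] l0_D2 [l0_K11_0, 0, l0_K11_2, 0, l0_K12_4, 0, l0_K17_6, 0, l0_K17_8, 0, l0_K17_10, 0, l0_K17_12, 0, l0_K17_14, 0, l0_K17_16, 0, l0_K17_18, 0, l0_K17_20, 0, l0_K17_22, 0] (fun D K => Nat.beq D l0_D2 && beqL K [l0_K11_0, 0, l0_K11_2, 0, l0_K12_4, 0, l0_K17_6, 0, l0_K18_8, 0, l0_K18_10, 0, l0_K18_12, 0, l0_K18_14, 0, l0_K18_16, 0, l0_K18_18, 0, l0_K18_20, 0, l0_K18_22, 0]) = true := by decide +kernel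
theorem l0_r19 : l0_E.run [4280, 4284, 4288, 4304, 4308, 4312, 4360, 4364, 4240, 4244, 4248, 4256, 4276, 4280, 168, 200, 4296, 228, 4324, 244, 4340, 252, 4348, 272, 4368, 4200] l0_D2 [l0_K11_0, 0, l0_K11_2, 0, l0_K12_4, 0, l0_K17_6, 0, l0_K18_8, 0, l0_K18_10, 0, l0_K18_12, 0, l0_K18_14, 0, l0_K18_16, 0, l0_K18_18, 0, l0_K18_20, 0, l0_K18_22, 0] (fun D K => Nat.beq D l0_D2 && beqL K [l0_K11_0, 0, l0_K11_2, 0, l0_K12_4, 0, l0_K19_6, 0, l0_K19_8, 0, l0_K19_10, 0, l0_K19_12, 0, l0_K19_14, 0, l0_K19_16, 0, l0_K19_18, 0, l0_K19_20, 0, l0_K19_22, 0]) = true := by decide +kernel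
theorem l0_r20 : l0_E.run [4204, 4220, 172, 4268, 176, 4272, 180, 184, 188, 192, 4288, 204, 4300, 220, 4316, 224, 232, 236, 256, 260, 264, 4360, 276, 280, 4376, 292, 228, 244, 232, 3, 7, 11, 15, 19, 23, 27, 31, 35, 39, 43] l0_D2 [l0_K11_0, 0, l0_K11_2, 0, l0_K12_4, 0, l0_K19_6, 0, l0_K19_8, 0, l0_K19_10, 0, l0_K19_12, 0, l0_K19_14, 0, l0_K19_16, 0, l0_K19_18, 0, l0_K19_20, 0, l0_K19_22, 0] (fun D K => Nat.beq D l0_D2 && beqL K [l0_K20_0, 0, l0_K11_2, 0, l0_K20_4, 0, l0_K20_6, 0, l0_K20_8, 0, l0_K20_10, 0, l0_K20_12, 0, l0_K20_14, 0, l0_K20_16, 0, l0_K20_18, 0, l0_K20_20, 0, l0_K20_22, 0]) = true := by decide +kernel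
theorem l0_r21 : l0_E.run [4192, 4196, 4200, 4204, 4208, 4212, 4216, 4220, 4224, 4232, 4236, 4240, 4244, 4248, 4252, 4256, 4260, 4268, 4272, 4276, 4280, 4284, 4288, 4292, 4300, 4304, 4308, 4312, 4316, 4320, 4328, 4332, 4336, 4344] l0_D2 [l0_K20_0, 0, l0_K11_2, 0, l0_K20_4, 0, l0_K20_6, 0, l0_K20_8, 0, l0_K20_10, 0, l0_K20_12, 0, l0_K20_14, 0, l0_K20_16, 0, l0_K20_18, 0, l0_K20_20, 0, l0_K20_22, 0] (fun D K => Nat.beq D l0_D2 && beqL K [l0_K20_0, 0, l0_K11_2, 0, l0_K20_4, 0, l0_K21_6, 0, l0_K21_8, 0, l0_K21_10, 0, l0_K21_12, 0, l0_K21_14, 0, l0_K21_16, 0, l0_K21_18, 0, l0_K21_20, 0, l0_K21_22, 0]) = true := by decide +kernel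
theorem l0_r22 : l0_E.run [4352, 4356, 4364, 4372, 280, 284, 4380, 292, 296, 4392, 300, 304, 4400, 4152, 4156, 4160, 4164, 4168, 4172, 4176, 4180, 4184, 4196, 4200, 4204, 4208, 4212, 4216, 4220, 4224, 4236, 4240, 4244, 4248] l0_D2 [l0_K20_0, 0, l0_K11_2, 0, l0_K20_4, 0, l0_K21_6, 0, l0_K21_8, 0, l0_K21_10, 0, l0_K21_12, 0, l0_K21_14, 0, l0_K21_16, 0, l0_K21_18, 0, l0_K21_20, 0, l0_K21_22, 0] (fun D K => Nat.beq D l0_D2 && beqL K [l0_K20_0, 0, l0_K11_2, 0, l0_K20_4, 0, l0_K22_6, 0, l0_K22_8, 0, l0_K22_10, 0, l0_K22_12, 0, l0_K22_14, 0, l0_K22_16, 0, l0_K22_18, 0, l0_K22_20, 0, l0_K22_22, 0]) = true := by decide +kernel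
theorem l0_r23 : l0_E.run [4252, 4256, 4260, 4272, 4276, 4280, 4284, 4288, 4292, 4304, 4308, 4312, 4320, 4328, 4332, 4336, 4344, 4356, 4364, 280, 4380, 292, 4392, 300, 4308, 4312, 4332, 4336, 4352, 4356, 4372, 300, 304, 4280] l0_D2 [l0_K20_0, 0, l0_K11_2, 0, l0_K20_4, 0, l0_K22_6, 0, l0_K22_8, 0, l0_K22_10, 0, l0_K22_12, 0, l0_K22_14, 0, l0_K22_16, 0, l0_K22_18, 0, l0_K22_20, 0, l0_K22_22, 0] (fun D K => Nat.beq D l0_D2 && beqL K [l0_K20_0, 0, l0_K11_2, 0, l0_K20_4, 0, l0_K22_6, 0, l0_K22_8, 0, l0_K22_10, 0, l0_K23_12, 0, l0_K23_14, 0, l0_K23_16, 0, l0_K23_18, 0, l0_K23_20, 0, l0_K23_22, 0]) = true := by decide +kernel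
theorem l0_r24 : l0_E.run [4284, 4308, 4312, 4332, 4336, 4356, 4372, 300, 4284, 4312, 4336, 4356, 4252, 4284, 4312, 4336, 4144, 92, 4188, 132, 4228, 168, 4264, 200, 4296, 228] l0_D2 [l0_K20_0, 0, l0_K11_2, 0, l0_K20_4, 0, l0_K22_6, 0, l0_K22_8, 0, l0_K22_10, 0, l0_K23_12, 0, l0_K23_14, 0, l0_K23_16, 0, l0_K23_18, 0, l0_K23_20, 0, l0_K23_22, 0] (fun D K => Nat.beq D l0_D2 && beqL K [l0_K20_0, 0, l0_K24_2, 0, l0_K24_4, 0, l0_K24_6, 0, l0_K24_8, 0, l0_K24_10, 0, l0_K23_12, 0, l0_K23_14, 0, l0_K24_16, 0, l0_K24_18, 0, l0_K23_20, 0, l0_K23_22, 0]) = true := by decide +kernel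
theorem l0_r25 : l0_E.run [4324, 244, 4340, 252, 4348, 272, 4368, 288, 4384, 308, 4404, 96, 100, 104, 108, 112, 116, 120, 124, 128, 136, 140, 144, 148, 152, 156] l0_D2 [l0_K20_0, 0, l0_K24_2, 0, l0_K24_4, 0, l0_K24_6, 0, l0_K24_8, 0, l0_K24_10, 0, l0_K23_12, 0, l0_K23_14, 0, l0_K24_16, 0, l0_K24_18, 0, l0_K23_20, 0, l0_K23_22, 0] (fun D K => Nat.beq D l0_D2 && beqL K [l0_K20_0, 0, l0_K25_2, 0, l0_K25_4, 0, l0_K24_6, 0, l0_K24_8, 0, l0_K25_10, 0, l0_K25_12, 0, l0_K25_14, 0, l0_K25_16, 0, l0_K25_18, 0, l0_K25_20, 0, l0_K25_22, 0]) = true := by decide +kernel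
theorem l0_r26 : l0_E.run [160, 164, 172, 176, 180, 184, 188, 192, 196, 204, 208, 212, 216, 220, 4316, 224, 4320, 232, 236, 240, 248, 4344, 256, 260, 4364, 276, 4376, 4380, 4388, 4392, 4396, 4400, 104, 108] l0_D2 [l0_K20_0, 0, l0_K25_2, 0, l0_K25_4, 0, l0_K24_6, 0, l0_K24_8, 0, l0_K25_10, 0, l0_K25_12, 0, l0_K25_14, 0, l0_K25_16, 0, l0_K25_18, 0, l0_K25_20, 0, l0_K25_22, 0] (fun D K => Nat.beq D l0_D2 && beqL K [l0_K20_0, 0, l0_K26_2, 0, l0_K26_4, 0, l0_K26_6, 0, l0_K26_8, 0, l0_K26_10, 0, l0_K26_12, 0, l0_K26_14, 0, l0_K25_16, 0, l0_K25_18, 0, l0_K26_20, 0, l0_K26_22, 0]) = true := by decide +kernel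
theorem l0_r27 : l0_E.run [112, 116, 124, 140, 144, 148, 152, 160, 172, 176, 180, 184, 192, 4288, 4292, 4320, 4344, 4360, 4364, 4376, 4380, 4388, 4392, 100, 104, 108, 112, 116, 120, 124, 128, 136, 140, 144] l0_D2 [l0_K20_0, 0, l0_K26_2, 0, l0_K26_4, 0, l0_K26_6, 0, l0_K26_8, 0, l0_K26_10, 0, l0_K26_12, 0, l0_K26_14, 0, l0_K25_16, 0, l0_K25_18, 0, l0_K26_20, 0, l0_K26_22, 0] (fun D K => Nat.beq D l0_D2 && beqL K [l0_K20_0, 0, l0_K27_2, 0, l0_K27_4, 0, l0_K27_6, 0, l0_K26_8, 0, l0_K26_10, 0, l0_K26_12, 0, l0_K26_14, 0, l0_K25_16, 0, l0_K25_18, 0, l0_K27_20, 0, l0_K27_22, 0]) = true := by decide +kernel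
theorem l0_r28 : l0_E.run [148, 152, 156, 160, 164, 172, 176, 180, 4344, 4364, 4380, 96, 100, 104, 108, 112, 116, 120, 124, 128, 136, 140, 144, 148, 152, 160, 164, 4320, 4344, 4364, 96, 100, 104, 108] l0_D2 [l0_K20_0, 0, l0_K27_2, 0, l0_K27_4, 0, l0_K27_6, 0, l0_K26_8, 0, l0_K26_10, 0, l0_K26_12, 0, l0_K26_14, 0, l0_K25_16, 0, l0_K25_18, 0, l0_K27_20, 0, l0_K27_22, 0] (fun D K => Nat.beq D l0_D2 && beqL K [l0_K20_0, 0, l0_K28_2, 0, l0_K28_4, 0, l0_K28_6, 0, l0_K26_8, 0, l0_K26_10, 0, l0_K26_12, 0, l0_K26_14, 0, l0_K25_16, 0, l0_K25_18, 0, l0_K27_20, 0, l0_K28_22, 0]) = true := by decide +kernel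
theorem l0_r29 : l0_E.run [112, 116, 120, 124, 128, 136, 140, 144, 148, 152, 160, 4292, 4320, 4344, 96, 100, 104, 108, 112, 116, 120, 124, 128, 136, 140, 144, 4260, 4292, 4320, 96, 100, 104, 96, 100] l0_D2 [l0_K20_0, 0, l0_K28_2, 0, l0_K28_4, 0, l0_K28_6, 0, l0_K26_8, 0, l0_K26_10, 0, l0_K26_12, 0, l0_K26_14, 0, l0_K25_16, 0, l0_K25_18, 0, l0_K27_20, 0, l0_K28_22, 0] (fun D K => Nat.beq D l0_D2 && beqL K [l0_K20_0, 0, l0_K29_2, 0, l0_K29_4, 0, l0_K28_6, 0, l0_K26_8, 0, l0_K26_10, 0, l0_K26_12, 0, l0_K26_14, 0, l0_K25_16, 0, l0_K25_18, 0, l0_K27_20, 0, l0_K29_22, 0]) = true := by decide +kernel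
theorem l0_r30 : l0_E.run [48, 92, 4188, 132, 4228, 168, 4264, 200, 4296, 228, 4324, 244, 4340, 252, 4348, 272, 4368, 4384, 308, 4404] l0_D2 [l0_K20_0, 0, l0_K29_2, 0, l0_K29_4, 0, l0_K28_6, 0, l0_K26_8, 0, l0_K26_10, 0, l0_K26_12, 0, l0_K26_14, 0, l0_K25_16, 0, l0_K25_18, 0, l0_K27_20, 0, l0_K29_22, 0] (fun D K => Nat.beq D l0_D2 && beqL K [l0_K30_0, 0, l0_K30_2, 0, l0_K30_4, 0, l0_K30_6, 0, l0_K30_8, 0, l0_K30_10, 0, l0_K30_12, 0, l0_K30_14, 0, l0_K30_16, 0, l0_K30_18, 0, l0_K30_20, 0, l0_K30_22, 0]) = true := by decide +kernel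
theorem l0_r31 : l0_E.run [52, 56, 60, 64, 68, 72, 76, 84, 88, 96, 100, 104, 108, 112, 116, 124, 4220, 128, 4224, 136, 4232, 140, 4236, 144, 4240, 148, 4244, 152, 4248, 156, 4252, 160, 4256, 164] l0_D2 [l0_K30_0, 0, l0_K30_2, 0, l0_K30_4, 0, l0_K30_6, 0, l0_K30_8, 0, l0_K30_10, 0, l0_K30_12, 0, l0_K30_14, 0, l0_K30_16, 0, l0_K30_18, 0, l0_K30_20, 0, l0_K30_22, 0] (fun D K => Nat.beq D l0_D2 && beqL K [l0_K31_0, 0, l0_K31_2, 0, l0_K31_4, 0, l0_K30_6, 0, l0_K31_8, 0, l0_K31_10, 0, l0_K31_12, 0, l0_K31_14, 0, l0_K31_16, 0, l0_K31_18, 0, l0_K31_20, 0, l0_K31_22, 0]) = true := by decide +kernel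
theorem l0_r32 : l0_E.run [4260, 172, 4268, 176, 4272, 180, 4276, 184, 4280, 4284, 192, 4288, 4292, 204, 4300, 208, 4304, 212, 4308, 4312, 220, 4316, 4320, 232, 4328, 236, 4332, 4336, 248, 4344, 256, 4352, 4356, 264] l0_D2 [l0_K31_0, 0, l0_K31_2, 0, l0_K31_4, 0, l0_K30_6, 0, l0_K31_8, 0, l0_K31_10, 0, l0_K31_12, 0, l0_K31_14, 0, l0_K31_16, 0, l0_K31_18, 0, l0_K31_20, 0, l0_K31_22, 0] (fun D K => Nat.beq D l0_D2 && beqL K [l0_K31_0, 0, l0_K31_2, 0, l0_K31_4, 0, l0_K32_6, 0, l0_K32_8, 0, l0_K32_10, 0, l0_K32_12, 0, l0_K32_14, 0, l0_K32_16, 0, l0_K32_18, 0, l0_K32_20, 0, l0_K32_22, 0]) = true := by decide +kernel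
theorem l0_r33 : l0_E.run [4360, 268, 4364, 4372, 280, 4376, 284, 4380, 292, 4388, 296, 4392, 300, 4396, 304, 4400, 64, 84, 104, 124, 140, 160, 4272, 4276, 4280, 4284, 4288, 4304, 4308, 4312, 4328, 4332, 4336, 4344] l0_D2 [l0_K31_0, 0, l0_K31_2, 0, l0_K31_4, 0, l0_K32_6, 0, l0_K32_8, 0, l0_K32_10, 0, l0_K32_12, 0, l0_K32_14, 0, l0_K32_16, 0, l0_K32_18, 0, l0_K32_20, 0, l0_K32_22, 0] (fun D K => Nat.beq D l0_D2 && beqL K [l0_K33_0, 0, l0_K33_2, 0, l0_K33_4, 0, l0_K32_6, 0, l0_K32_8, 0, l0_K32_10, 0, l0_K33_12, 0, l0_K33_14, 0, l0_K33_16, 0, l0_K33_18, 0, l0_K33_20, 0, l0_K33_22, 0]) = true := by decide +kernel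
theorem l0_r34 : l0_E.run [4352, 4356, 4360, 4364, 4372, 280, 4376, 4380, 292, 4392, 300, 60, 64, 68, 72, 76, 80, 100, 104, 108, 112, 116, 120, 136, 140, 144, 148, 4244, 152, 4248, 156, 4252, 4256, 4304] l0_D2 [l0_K33_0, 0, l0_K33_2, 0, l0_K33_4, 0, l0_K32_6, 0, l0_K32_8, 0, l0_K32_10, 0, l0_K33_12, 0, l0_K33_14, 0, l0_K33_16, 0, l0_K33_18, 0, l0_K33_20, 0, l0_K33_22, 0] (fun D K => Nat.beq D l0_D2 && beqL K [l0_K34_0, 0, l0_K34_2, 0, l0_K34_4, 0, l0_K32_6, 0, l0_K32_8, 0, l0_K32_10, 0, l0_K33_12, 0, l0_K34_14, 0, l0_K34_16, 0, l0_K34_18, 0, l0_K34_20, 0, l0_K34_22, 0]) = true := by decide +kernel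
theorem l0_r35 : l0_E.run [4308, 4312, 4328, 4332, 4336, 4352, 4356, 4372, 292, 296, 300, 304, 4208, 4212, 4216, 4276, 4280, 4284, 4308, 4312, 4332, 4336, 4352, 4356, 4372, 292, 300, 304, 4244, 4248, 4252, 4280, 4284, 4308] l0_D2 [l0_K34_0, 0, l0_K34_2, 0, l0_K34_4, 0, l0_K32_6, 0, l0_K32_8, 0, l0_K32_10, 0, l0_K33_12, 0, l0_K34_14, 0, l0_K34_16, 0, l0_K34_18, 0, l0_K34_20, 0, l0_K34_22, 0] (fun D K => Nat.beq D l0_D2 && beqL K [l0_K34_0, 0, l0_K34_2, 0, l0_K34_4, 0, l0_K32_6, 0, l0_K32_8, 0, l0_K32_10, 0, l0_K33_12, 0, l0_K35_14, 0, l0_K35_16, 0, l0_K35_18, 0, l0_K34_20, 0, l0_K34_22, 0]) = true := by decide +kernel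

end Cfsg.Agent.Fi24C
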