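import Cfsg.Agent.Fi24C.L0D11

set_option autoImplicit false
set_option Elab.async false
set_option maxRecDepth 100000
set_option linter.all false

namespace Cfsg.Agent.Fi24C
open Cfsg.Agent.CGT

theorem l0_r36 : l0_E.run [4312, 4332, 4336, 4352, 4356, 4372, 300, 304, 4216, 4252, 4284, 4312, 4336, 4356, 4372, 300, 304, 4176, 4252, 200, 228, 4324, 244, 4340, 252, 4348, 272, 4368] l0_D2 [l0_K34_0, 0, l0_K34_2, 0, l0_K34_4, 0, l0_K32_6, 0, l0_K32_8, 0, l0_K32_10, 0, l0_K33_12, 0, l0_K35_14, 0, l0_K35_16, 0, l0_K35_18, 0, l0_K34_20, 0, l0_K34_22, 0] (fun D K => Nat.beq D l0_D2 && beqL K [l0_K34_0, 0, l0_K34_2, 0, l0_K34_4, 0, l0_K32_6, 0, l0_K36_8, 0, l0_K36_10, 0, l0_K36_12, 0, l0_K36_14, 0, l0_K36_16, 0, l0_K36_18, 0, l0_K36_20, 0, l0_K34_22, 0]) = true := by decide +kernel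
theorem l0_r37 : l0_E.run [288, 308, 4404, 4200, 4236, 4268, 204, 4300, 208, 4304, 212, 4308, 216, 220, 4316, 224, 4320, 232, 4328, 236, 4332, 240, 248, 4344, 256, 4352, 260, 264, 4360, 4364, 276, 280] l0_D2 [l0_K34_0, 0, l0_K34_2, 0, l0_K34_4, 0, l0_K32_6, 0, l0_K36_8, 0, l0_K36_10, 0, l0_K36_12, 0, l0_K36_14, 0, l0_K36_16, 0, l0_K36_18, 0, l0_K36_20, 0, l0_K34_22, 0] (fun D K => Nat.beq D l0_D2 && beqL K [l0_K34_0, 0, l0_K34_2, 0, l0_K34_4, 0, l0_K32_6, 0, l0_K37_8, 0, l0_K37_10, 0, l0_K37_12, 0, l0_K37_14, 0, l0_K37_16, 0, l0_K36_18, 0, l0_K37_20, 0, l0_K37_22, 0]) = true := by decide +kernel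
theorem l0_r38 : l0_E.run [4376, 284, 4380, 292, 4388, 296, 4392, 4272, 4276, 4280, 4288, 4292, 4304, 4308, 4328, 4332, 4352, 4360, 4364, 280, 292, 296, 4240, 4244, 4248, 4276, 4280, 4304, 4308, 4328, 4332, 4344, 4352, 4320] l0_D2 [l0_K34_0, 0, l0_K34_2, 0, l0_K34_4, 0, l0_K32_6, 0, l0_K37_8, 0, l0_K37_10, 0, l0_K37_12, 0, l0_K37_14, 0, l0_K37_16, 0, l0_K36_18, 0, l0_K37_20, 0, l0_K37_22, 0] (fun D K => Nat.beq D l0_D2 && beqL K [l0_K34_0, 0, l0_K34_2, 0, l0_K34_4, 0, l0_K32_6, 0, l0_K37_8, 0, l0_K37_10, 0, l0_K38_12, 0, l0_K38_14, 0, l0_K38_16, 0, l0_K36_18, 0, l0_K38_20, 0, l0_K38_22, 0]) = true := by decide +kernel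
theorem l0_r39 : l0_E.run [168, 200, 4296, 228, 4324, 244, 4340, 252, 4348, 272, 4368, 4384, 308, 4404, 4196, 4200, 4204, 4208, 4212, 4216, 4220, 4224, 4232, 4240] l0_D2 [l0_K34_0, 0, l0_K34_2, 0, l0_K34_4, 0, l0_K32_6, 0, l0_K37_8, 0, l0_K37_10, 0, l0_K38_12, 0, l0_K38_14, 0, l0_K38_16, 0, l0_K36_18, 0, l0_K38_20, 0, l0_K38_22, 0] (fun D K => Nat.beq D l0_D2 && beqL K [l0_K34_0, 0, l0_K34_2, 0, l0_K34_4, 0, l0_K39_6, 0, l0_K39_8, 0, l0_K39_10, 0, l0_K39_12, 0, l0_K39_14, 0, l0_K39_16, 0, l0_K39_18, 0, l0_K39_20, 0, l0_K39_22, 0]) = true := by decide +kernel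
theorem l0_r40 : l0_E.run [4256, 4260, 172, 4268, 176, 4272, 180, 4276, 184, 188, 192, 4288, 4292, 204, 4300, 208, 4304, 212, 4308, 216, 4312, 220, 4316, 224, 4320, 232, 4328, 236, 4332, 240, 4336, 248, 4344, 256] l0_D2 [l0_K34_0, 0, l0_K34_2, 0, l0_K34_4, 0, l0_K39_6, 0, l0_K39_8, 0, l0_K39_10, 0, l0_K39_12, 0, l0_K39_14, 0, l0_K39_16, 0, l0_K39_18, 0, l0_K39_20, 0, l0_K39_22, 0] (fun D K => Nat.beq D l0_D2 && beqL K [l0_K34_0, 0, l0_K34_2, 0, l0_K34_4, 0, l0_K40_6, 0, l0_K40_8, 0, l0_K40_10, 0, l0_K40_12, 0, l0_K40_14, 0, l0_K40_16, 0, l0_K40_18, 0, l0_K40_20, 0, l0_K40_22, 0]) = true := by decide +kernel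
theorem l0_r41 : l0_E.run [4352, 260, 4356, 264, 4360, 4364, 276, 4372, 280, 4376, 284, 4380, 292, 4388, 296, 4392, 300, 4396, 304, 4400, 4204, 4220, 4224, 4256, 4260, 172, 4272, 4276, 4280, 4284, 4288, 4292, 4304, 4308] l0_D2 [l0_K34_0, 0, l0_K34_2, 0, l0_K34_4, 0, l0_K40_6, 0, l0_K40_8, 0, l0_K40_10, 0, l0_K40_12, 0, l0_K40_14, 0, l0_K40_16, 0, l0_K40_18, 0, l0_K40_20, 0, l0_K40_22, 0] (fun D K => Nat.beq D l0_D2 && beqL K [l0_K34_0, 0, l0_K34_2, 0, l0_K34_4, 0, l0_K41_6, 0, l0_K40_8, 0, l0_K40_10, 0, l0_K41_12, 0, l0_K41_14, 0, l0_K41_16, 0, l0_K41_18, 0, l0_K41_20, 0, l0_K41_22, 0]) = true := by decide +kernel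
theorem l0_r42 : l0_E.run [4312, 4320, 4328, 4332, 4336, 4344, 4352, 4356, 4360, 4364, 4372, 280, 4376, 4380, 292, 296, 4392, 300, 304, 4208, 4212, 4216, 4244, 4248, 4252, 4276, 4280, 4284, 4304, 4308, 4312, 4320, 4332, 4336] l0_D2 [l0_K34_0, 0, l0_K34_2, 0, l0_K34_4, 0, l0_K41_6, 0, l0_K40_8, 0, l0_K40_10, 0, l0_K41_12, 0, l0_K41_14, 0, l0_K41_16, 0, l0_K41_18, 0, l0_K41_20, 0, l0_K41_22, 0] (fun D K => Nat.beq D l0_D2 && beqL K [l0_K34_0, 0, l0_K34_2, 0, l0_K34_4, 0, l0_K41_6, 0, l0_K40_8, 0, l0_K40_10, 0, l0_K41_12, 0, l0_K42_14, 0, l0_K42_16, 0, l0_K42_18, 0, l0_K42_20, 0, l0_K42_22, 0]) = true := by decide +kernel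
theorem l0_r43 : l0_E.run [4344, 4356, 4364, 292, 300, 4276, 4280, 4284, 168, 4264, 200, 4296, 228, 4324, 244, 4340, 252, 4348, 272, 4368, 288, 4384, 308] l0_D2 [l0_K34_0, 0, l0_K34_2, 0, l0_K34_4, 0, l0_K41_6, 0, l0_K40_8, 0, l0_K40_10, 0, l0_K41_12, 0, l0_K42_14, 0, l0_K42_16, 0, l0_K42_18, 0, l0_K42_20, 0, l0_K42_22, 0] (fun D K => Nat.beq D l0_D2 && beqL K [l0_K34_0, 0, l0_K34_2, 0, l0_K34_4, 0, l0_K43_6, 0, l0_K43_8, 0, l0_K43_10, 0, l0_K43_12, 0, l0_K43_14, 0, l0_K43_16, 0, l0_K43_18, 0, l0_K43_20, 0, l0_K43_22, 0]) = true := by decide +kernel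
theorem l0_r44 : l0_E.run [4404, 4200, 4204, 4208, 4212, 4216, 4220, 4224, 4232, 4236, 4240, 4256, 4260, 172, 4268, 176, 4272, 180, 4276, 184, 188, 192, 4288, 196, 4292, 204, 4300, 208, 4304, 212, 4308, 4312, 220] l0_D2 [l0_K34_0, 0, l0_K34_2, 0, l0_K34_4, 0, l0_K43_6, 0, l0_K43_8, 0, l0_K43_10, 0, l0_K43_12, 0, l0_K43_14, 0, l0_K43_16, 0, l0_K43_18, 0, l0_K43_20, 0, l0_K43_22, 0] (fun D K => Nat.beq D l0_D2 && beqL K [l0_K34_0, 0, l0_K34_2, 0, l0_K34_4, 0, l0_K44_6, 0, l0_K44_8, 0, l0_K44_10, 0, l0_K44_12, 0, l0_K44_14, 0, l0_K44_16, 0, l0_K44_18, 0, l0_K44_20, 0, l0_K44_22, 0]) = true := by decide +kernel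
theorem l0_r45 : l0_E.run [4316, 224, 4320, 232, 4328, 236, 240, 248, 4344, 256, 260, 264, 4360, 4364, 276, 280, 4376, 4380, 292, 4388, 4392, 300, 4396, 4400, 172, 176, 192, 4328, 4332, 4336, 4344, 4352, 4356, 4360] l0_D2 [l0_K34_0, 0, l0_K34_2, 0, l0_K34_4, 0, l0_K44_6, 0, l0_K44_8, 0, l0_K44_10, 0, l0_K44_12, 0, l0_K44_14, 0, l0_K44_16, 0, l0_K44_18, 0, l0_K44_20, 0, l0_K44_22, 0] (fun D K => Nat.beq D l0_D2 && beqL K [l0_K34_0, 0, l0_K34_2, 0, l0_K34_4, 0, l0_K45_6, 0, l0_K45_8, 0, l0_K45_10, 0, l0_K45_12, 0, l0_K45_14, 0, l0_K45_16, 0, l0_K45_18, 0, l0_K45_20, 0, l0_K45_22, 0]) = true := by decide +kernel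
theorem l0_r46 : l0_E.run [4364, 4376, 4380, 4392, 4224, 4320, 4344, 4364, 132, 168, 4264, 200, 4296, 228, 4324, 244, 4340, 252, 4348, 272, 4368, 4384, 308] l0_D2 [l0_K34_0, 0, l0_K34_2, 0, l0_K34_4, 0, l0_K45_6, 0, l0_K45_8, 0, l0_K45_10, 0, l0_K45_12, 0, l0_K45_14, 0, l0_K45_16, 0, l0_K45_18, 0, l0_K45_20, 0, l0_K45_22, 0] (fun D K => Nat.beq D l0_D2 && beqL K [l0_K34_0, 0, l0_K34_2, 0, l0_K46_4, 0, l0_K46_6, 0, l0_K46_8, 0, l0_K46_10, 0, l0_K46_12, 0, l0_K46_14, 0, l0_K46_16, 0, l0_K46_18, 0, l0_K46_20, 0, l0_K46_22, 0]) = true := by decide +kernel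
theorem l0_r47 : l0_E.run [4404, 4160, 4180, 4200, 4204, 4208, 4212, 4216, 4220, 136, 140, 4236, 144, 148, 152, 156, 160, 4256, 164, 172, 4268, 176, 180, 184, 188, 192, 4288, 196, 204, 208, 212, 216, 220] l0_D2 [l0_K34_0, 0, l0_K34_2, 0, l0_K46_4, 0, l0_K46_6, 0, l0_K46_8, 0, l0_K46_10, 0, l0_K46_12, 0, l0_K46_14, 0, l0_K46_16, 0, l0_K46_18, 0, l0_K46_20, 0, l0_K46_22, 0] (fun D K => Nat.beq D l0_D2 && beqL K [l0_K34_0, 0, l0_K34_2, 0, l0_K47_4, 0, l0_K47_6, 0, l0_K47_8, 0, l0_K47_10, 0, l0_K47_12, 0, l0_K47_14, 0, l0_K47_16, 0, l0_K47_18, 0, l0_K47_20, 0, l0_K47_22, 0]) = true := by decide +kernel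
theorem l0_r48 : l0_E.run [224, 232, 236, 248, 256, 264, 4360, 280, 4376, 4380, 292, 4388, 300, 4192, 136, 172, 176, 180, 184, 4360, 4364, 4376, 132, 168, 200, 228, 4324, 244, 252] l0_D2 [l0_K34_0, 0, l0_K34_2, 0, l0_K47_4, 0, l0_K47_6, 0, l0_K47_8, 0, l0_K47_10, 0, l0_K47_12, 0, l0_K47_14, 0, l0_K47_16, 0, l0_K47_18, 0, l0_K47_20, 0, l0_K47_22, 0] (fun D K => Nat.beq D l0_D2 && beqL K [l0_K34_0, 0, l0_K34_2, 0, l0_K48_4, 0, l0_K48_6, 0, l0_K48_8, 0, l0_K48_10, 0, l0_K48_12, 0, l0_K48_14, 0, l0_K48_16, 0, l0_K48_18, 0, l0_K48_20, 0, l0_K48_22, 0]) = true := by decide +kernel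
theorem l0_r49 : l0_E.run [4348, 4368, 4196, 4200, 4204, 4208, 4212, 4232, 4236, 172, 176, 180, 184, 188, 192, 196, 204, 208, 212, 216, 220, 232, 264, 280, 292, 168, 200, 4296, 4324] l0_D2 [l0_K34_0, 0, l0_K34_2, 0, l0_K48_4, 0, l0_K48_6, 0, l0_K48_8, 0, l0_K48_10, 0, l0_K48_12, 0, l0_K48_14, 0, l0_K48_16, 0, l0_K48_18, 0, l0_K48_20, 0, l0_K48_22, 0] (fun D K => Nat.beq D l0_D2 && beqL K [l0_K34_0, 0, l0_K34_2, 0, l0_K48_4, 0, l0_K49_6, 0, l0_K49_8, 0, l0_K49_10, 0, l0_K49_12, 0, l0_K49_14, 0, l0_K49_16, 0, l0_K48_18, 0, l0_K48_20, 0, l0_K48_22, 0]) = true := by decide +kernel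
theorem l0_r50 : l0_E.run [4340, 4348, 4368, 4204, 4208, 4212, 204, 132, 28984, 8, 148, 152] l0_D2 [l0_K34_0, 0, l0_K34_2, 0, l0_K48_4, 0, l0_K49_6, 0, l0_K49_8, 0, l0_K49_10, 0, l0_K49_12, 0, l0_K49_14, 0, l0_K49_16, 0, l0_K48_18, 0, l0_K48_20, 0, l0_K48_22, 0] (fun D K => Nat.beq D l0_D2 && beqL K [l0_K34_0, 0, l0_K34_2, 0, l0_K50_4, 0, l0_K49_6, 0, l0_K50_8, 0, l0_K49_10, 0, l0_K50_12, 0, l0_K50_14, 0, l0_K50_16, 0, l0_K48_18, 0, l0_K50_20, 0, l0_K48_22, 0]) = true := by decide +kernel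
theorem l0_r51 : l0_E.run [4248, 156, 164, 296, 4212, 144, 148, 4244, 152, 4208, 140, 144, 4240, 148, 160, 164, 4204, 140, 4236, 144, 148, 152, 156, 160, 4256, 4260, 4316, 4320, 4344, 4364, 4380, 4392, 4200, 4220] l0_D2 [l0_K34_0, 0, l0_K34_2, 0, l0_K50_4, 0, l0_K49_6, 0, l0_K50_8, 0, l0_K49_10, 0, l0_K50_12, 0, l0_K50_14, 0, l0_K50_16, 0, l0_K48_18, 0, l0_K50_20, 0, l0_K48_22, 0] (fun D K => Nat.beq D l0_D2 && beqL K [l0_K34_0, 0, l0_K34_2, 0, l0_K51_4, 0, l0_K49_6, 0, l0_K50_8, 0, l0_K51_10, 0, l0_K51_12, 0, l0_K51_14, 0, l0_K51_16, 0, l0_K48_18, 0, l0_K51_20, 0, l0_K51_22, 0]) = true := by decide +kernel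
theorem l0_r52 : l0_E.run [4224, 136, 4232, 140, 4236, 144, 4240, 148, 4244, 152, 4248, 4252, 160, 164, 4268, 4272, 4276, 4280, 4284, 4288, 4292, 4300, 4304, 4308, 4312, 4320, 264, 268, 280, 284, 292, 296, 300, 304] l0_D2 [l0_K34_0, 0, l0_K34_2, 0, l0_K51_4, 0, l0_K49_6, 0, l0_K50_8, 0, l0_K51_10, 0, l0_K51_12, 0, l0_K51_14, 0, l0_K51_16, 0, l0_K48_18, 0, l0_K51_20, 0, l0_K51_22, 0] (fun D K => Nat.beq D l0_D2 && beqL K [l0_K34_0, 0, l0_K34_2, 0, l0_K52_4, 0, l0_K49_6, 0, l0_K52_8, 0, l0_K52_10, 0, l0_K52_12, 0, l0_K52_14, 0, l0_K52_16, 0, l0_K52_18, 0, l0_K52_20, 0, l0_K52_22, 0]) = true := by decide +kernel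
theorem l0_r53 : l0_E.run [4196, 4200, 4204, 4208, 4212, 4216, 136, 140, 4236, 144, 4240, 148, 4244, 4248, 4252, 160, 4256, 4268, 4272, 4276, 4280, 4284, 4288, 4300, 4304, 4308, 4312, 4316, 4328, 4332, 4336, 4352, 4356, 264] l0_D2 [l0_K34_0, 0, l0_K34_2, 0, l0_K52_4, 0, l0_K49_6, 0, l0_K52_8, 0, l0_K52_10, 0, l0_K52_12, 0, l0_K52_14, 0, l0_K52_16, 0, l0_K52_18, 0, l0_K52_20, 0, l0_K52_22, 0] (fun D K => Nat.beq D l0_D2 && beqL K [l0_K34_0, 0, l0_K34_2, 0, l0_K53_4, 0, l0_K49_6, 0, l0_K53_8, 0, l0_K53_10, 0, l0_K53_12, 0, l0_K53_14, 0, l0_K53_16, 0, l0_K53_18, 0, l0_K53_20, 0, l0_K52_22, 0]) = true := by decide +kernel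
theorem l0_r54 : l0_E.run [4372, 280, 284, 292, 296, 300, 304, 4200, 4204, 4208, 4212, 4220, 136, 140, 4236, 4240, 4244, 4248, 4252, 4268, 4272, 4276, 4280, 4284, 4328, 4332, 4336, 4352, 4356, 4372, 4200, 4204, 4188] l0_D2 [l0_K34_0, 0, l0_K34_2, 0, l0_K53_4, 0, l0_K49_6, 0, l0_K53_8, 0, l0_K53_10, 0, l0_K53_12, 0, l0_K53_14, 0, l0_K53_16, 0, l0_K53_18, 0, l0_K53_20, 0, l0_K52_22, 0] (fun D K => Nat.beq D l0_D2 && beqL K [l0_K34_0, 0, l0_K34_2, 0, l0_K54_4, 0, l0_K49_6, 0, l0_K53_8, 0, l0_K54_10, 0, l0_K54_12, 0, l0_K54_14, 0, l0_K54_16, 0, l0_K54_18, 0, l0_K54_20, 0, l0_K52_22, 0]) = true := by decide +kernel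
theorem l0_r55 : l0_E.run [4228, 168, 4264, 4296, 228, 4324, 4340, 252, 4348, 4368, 4384, 4404, 4200, 4204, 4208, 4212, 4216, 4220, 4224, 140, 4236, 144, 4240, 148, 4244, 152] l0_D2 [l0_K34_0, 0, l0_K34_2, 0, l0_K54_4, 0, l0_K49_6, 0, l0_K53_8, 0, l0_K54_10, 0, l0_K54_12, 0, l0_K54_14, 0, l0_K54_16, 0, l0_K54_18, 0, l0_K54_20, 0, l0_K52_22, 0] (fun D K => Nat.beq D l0_D2 && beqL K [l0_K34_0, 0, l0_K34_2, 0, l0_K55_4, 0, l0_K55_6, 0, l0_K55_8, 0, l0_K55_10, 0, l0_K55_12, 0, l0_K55_14, 0, l0_K55_16, 0, l0_K55_18, 0, l0_K55_20, 0, l0_K55_22, 0]) = true := by decide +kernel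
theorem l0_r56 : l0_E.run [4248, 4252, 160, 4256, 4260, 172, 176, 4272, 180, 4276, 184, 4280, 4284, 192, 4288, 4292, 220, 4316, 4320, 232, 264, 4360, 268, 4364, 280, 4376, 284, 4380, 292, 4388, 296, 4392, 300, 4396] l0_D2 [l0_K34_0, 0, l0_K34_2, 0, l0_K55_4, 0, l0_K55_6, 0, l0_K55_8, 0, l0_K55_10, 0, l0_K55_12, 0, l0_K55_14, 0, l0_K55_16, 0, l0_K55_18, 0, l0_K55_20, 0, l0_K55_22, 0] (fun D K => Nat.beq D l0_D2 && beqL K [l0_K34_0, 0, l0_K34_2, 0, l0_K56_4, 0, l0_K56_6, 0, l0_K56_8, 0, l0_K56_10, 0, l0_K56_12, 0, l0_K56_14, 0, l0_K56_16, 0, l0_K56_18, 0, l0_K56_20, 0, l0_K56_22, 0]) = true := by decide +kernel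
theorem l0_r57 : l0_E.run [304, 4400, 140, 144, 172, 176, 4328, 4332, 4336, 4344, 4364, 4380, 4392, 4184, 136, 140, 4260, 4296, 228, 4324, 244, 4340, 252, 4348, 308, 4268, 4272, 4276] l0_D2 [l0_K34_0, 0, l0_K34_2, 0, l0_K56_4, 0, l0_K56_6, 0, l0_K56_8, 0, l0_K56_10, 0, l0_K56_12, 0, l0_K56_14, 0, l0_K56_16, 0, l0_K56_18, 0, l0_K56_20, 0, l0_K56_22, 0] (fun D K => Nat.beq D l0_D2 && beqL K [l0_K34_0, 0, l0_K34_2, 0, l0_K57_4, 0, l0_K57_6, 0, l0_K56_8, 0, l0_K57_10, 0, l0_K57_12, 0, l0_K57_14, 0, l0_K57_16, 0, l0_K57_18, 0, l0_K57_20, 0, l0_K57_22, 0]) = true := by decide +kernel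
theorem l0_r58 : l0_E.run [232, 236, 240, 248, 256, 260, 264, 268, 280, 284, 4328, 280, 4304, 4328, 200, 252, 204, 208, 220, 256, 260] l0_D2 [l0_K34_0, 0, l0_K34_2, 0, l0_K57_4, 0, l0_K57_6, 0, l0_K56_8, 0, l0_K57_10, 0, l0_K57_12, 0, l0_K57_14, 0, l0_K57_16, 0, l0_K57_18, 0, l0_K57_20, 0, l0_K57_22, 0] (fun D K => Nat.beq D l0_D2 && beqL K [l0_K34_0, 0, l0_K34_2, 0, l0_K57_4, 0, l0_K57_6, 0, l0_K58_8, 0, l0_K58_10, 0, l0_K58_12, 0, l0_K58_14, 0, l0_K57_16, 0, l0_K57_18, 0, l0_K57_20, 0, l0_K57_22, 0]) = true := by decide +kernel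
theorem l0_r59 : l0_E.run [8512, 12, 172, 176, 180, 184] l0_D2 [l0_K34_0, 0, l0_K34_2, 0, l0_K57_4, 0, l0_K57_6, 0, l0_K58_8, 0, l0_K58_10, 0, l0_K58_12, 0, l0_K58_14, 0, l0_K57_16, 0, l0_K57_18, 0, l0_K57_20, 0, l0_K57_22, 0] (fun D K => Nat.beq D l0_D2 && beqL K [l0_K34_0, 0, l0_K34_2, 0, l0_K57_4, 0, l0_K59_6, 0, l0_K58_8, 0, l0_K58_10, 0, l0_K58_12, 0, l0_K58_14, 0, l0_K57_16, 0, l0_K57_18, 0, l0_K57_20, 0, l0_K57_22, 0]) = true := by decide +kernel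
theorem l0_r60 : l0_E.run [188, 192, 4268, 180, 184, 232, 236, 140, 176, 180, 172, 4268, 176, 192, 196, 172, 4268, 4272, 192, 264, 132, 136, 4232, 140, 4236, 144, 4240, 148, 4244, 152, 4248, 156, 4252] l0_D2 [l0_K34_0, 0, l0_K34_2, 0, l0_K57_4, 0, l0_K59_6, 0, l0_K58_8, 0, l0_K58_10, 0, l0_K58_12, 0, l0_K58_14, 0, l0_K57_16, 0, l0_K57_18, 0, l0_K57_20, 0, l0_K57_22, 0] (fun D K => Nat.beq D l0_D2 && beqL K [l0_K34_0, 0, l0_K34_2, 0, l0_K60_4, 0, l0_K60_6, 0, l0_K60_8, 0, l0_K60_10, 0, l0_K60_12, 0, l0_K60_14, 0, l0_K60_16, 0, l0_K60_18, 0, l0_K57_20, 0, l0_K57_22, 0]) = true := by decide +kernel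
theorem l0_r61 : l0_E.run [160, 4256, 164, 204, 208, 264, 268, 280, 284, 292, 296, 300, 304, 4196, 4200, 4204, 4208, 4212, 4216, 4220, 4232, 140, 4236, 144, 4240, 148, 4244, 152, 4248, 4252, 160, 4256, 4268, 4272] l0_D2 [l0_K34_0, 0, l0_K34_2, 0, l0_K60_4, 0, l0_K60_6, 0, l0_K60_8, 0, l0_K60_10, 0, l0_K60_12, 0, l0_K60_14, 0, l0_K60_16, 0, l0_K60_18, 0, l0_K57_20, 0, l0_K57_22, 0] (fun D K => Nat.beq D l0_D2 && beqL K [l0_K34_0, 0, l0_K34_2, 0, l0_K61_4, 0, l0_K60_6, 0, l0_K61_8, 0, l0_K61_10, 0, l0_K61_12, 0, l0_K61_14, 0, l0_K61_16, 0, l0_K61_18, 0, l0_K61_20, 0, l0_K57_22, 0]) = true := by decide +kernel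
theorem l0_r62 : l0_E.run [4276, 4280, 4284, 4288, 4300, 4304, 4308, 4312, 4316, 4328, 4332, 4336, 4352, 4356, 4372, 280, 292, 300, 4156, 4160, 4164, 4168, 4172, 4176, 4180, 104, 4200, 108, 4204, 112, 116, 124, 140, 4236] l0_D2 [l0_K34_0, 0, l0_K34_2, 0, l0_K61_4, 0, l0_K60_6, 0, l0_K61_8, 0, l0_K61_10, 0, l0_K61_12, 0, l0_K61_14, 0, l0_K61_16, 0, l0_K61_18, 0, l0_K61_20, 0, l0_K57_22, 0] (fun D K => Nat.beq D l0_D2 && beqL K [l0_K34_0, 0, l0_K62_2, 0, l0_K62_4, 0, l0_K60_6, 0, l0_K62_8, 0, l0_K62_10, 0, l0_K62_12, 0, l0_K62_14, 0, l0_K62_16, 0, l0_K62_18, 0, l0_K62_20, 0, l0_K57_22, 0]) = true := by decide +kernel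
theorem l0_r63 : l0_E.run [144, 4240, 148, 4256, 4268, 4272, 4288, 4316, 264, 4160, 4164, 4200, 136, 4236, 4268, 4288, 4256, 192, 92, 200, 4296, 228, 4324, 4340, 252, 272, 288] l0_D2 [l0_K34_0, 0, l0_K62_2, 0, l0_K62_4, 0, l0_K60_6, 0, l0_K62_8, 0, l0_K62_10, 0, l0_K62_12, 0, l0_K62_14, 0, l0_K62_16, 0, l0_K62_18, 0, l0_K62_20, 0, l0_K57_22, 0] (fun D K => Nat.beq D l0_D2 && beqL K [l0_K34_0, 0, l0_K63_2, 0, l0_K63_4, 0, l0_K63_6, 0, l0_K63_8, 0, l0_K63_10, 0, l0_K63_12, 0, l0_K63_14, 0, l0_K63_16, 0, l0_K62_18, 0, l0_K63_20, 0, l0_K57_22, 0]) = true := by decide +kernel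
theorem l0_r64 : l0_E.run [308, 96, 100, 4196, 104, 4200, 108, 4204, 112, 4208, 116, 120, 124, 4220, 128, 204, 208, 212, 216, 220, 232, 236, 240, 256, 260, 276, 4376, 4388, 4396, 4180, 100, 4196, 104] l0_D2 [l0_K34_0, 0, l0_K63_2, 0, l0_K63_4, 0, l0_K63_6, 0, l0_K63_8, 0, l0_K63_10, 0, l0_K63_12, 0, l0_K63_14, 0, l0_K63_16, 0, l0_K62_18, 0, l0_K63_20, 0, l0_K57_22, 0] (fun D K => Nat.beq D l0_D2 && beqL K [l0_K34_0, 0, l0_K64_2, 0, l0_K63_4, 0, l0_K63_6, 0, l0_K64_8, 0, l0_K64_10, 0, l0_K64_12, 0, l0_K64_14, 0, l0_K63_16, 0, l0_K62_18, 0, l0_K64_20, 0, l0_K57_22, 0]) = true := by decide +kernel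
theorem l0_r65 : l0_E.run [4200, 108, 112, 116, 120, 124, 4220, 4268, 204, 208, 212, 220, 64, 4160, 68, 72, 76, 80, 84, 88, 4196, 104, 4200, 108, 4220, 52, 60, 64, 4160, 68, 72, 76, 80, 84] l0_D2 [l0_K34_0, 0, l0_K64_2, 0, l0_K63_4, 0, l0_K63_6, 0, l0_K64_8, 0, l0_K64_10, 0, l0_K64_12, 0, l0_K64_14, 0, l0_K63_16, 0, l0_K62_18, 0, l0_K64_20, 0, l0_K57_22, 0] (fun D K => Nat.beq D l0_D2 && beqL K [l0_K65_0, 0, l0_K65_2, 0, l0_K63_4, 0, l0_K63_6, 0, l0_K65_8, 0, l0_K65_10, 0, l0_K64_12, 0, l0_K64_14, 0, l0_K63_16, 0, l0_K62_18, 0, l0_K65_20, 0, l0_K57_22, 0]) = true := by decide +kernel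
theorem l0_r66 : l0_E.run [88, 4156, 64, 68, 72, 76, 80, 84, 200, 60, 68, 72, 76, 80, 4232, 204, 208, 212, 216, 64] l0_D2 [l0_K65_0, 0, l0_K65_2, 0, l0_K63_4, 0, l0_K63_6, 0, l0_K65_8, 0, l0_K65_10, 0, l0_K64_12, 0, l0_K64_14, 0, l0_K63_16, 0, l0_K62_18, 0, l0_K65_20, 0, l0_K57_22, 0] (fun D K => Nat.beq D l0_D2 && beqL K [l0_K66_0, 0, l0_K65_2, 0, l0_K63_4, 0, l0_K63_6, 0, l0_K66_8, 0, l0_K65_10, 0, l0_K64_12, 0, l0_K64_14, 0, l0_K63_16, 0, l0_K62_18, 0, l0_K65_20, 0, l0_K57_22, 0]) = true := by decide +kernel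
theorem l0_r67 : l0_E.run [4408, 40, 4220, 160, 4256, 192, 4288, 4316, 4360, 4376, 4388, 4396, 4148, 4152] l0_D2 [l0_K66_0, 0, l0_K65_2, 0, l0_K63_4, 0, l0_K63_6, 0, l0_K66_8, 0, l0_K65_10, 0, l0_K64_12, 0, l0_K64_14, 0, l0_K63_16, 0, l0_K62_18, 0, l0_K65_20, 0, l0_K57_22, 0] (fun D K => Nat.beq D l0_D2 && beqL K [l0_K66_0, 0, l0_K65_2, 0, l0_K67_4, 0, l0_K67_6, 0, l0_K66_8, 0, l0_K65_10, 0, l0_K64_12, 0, l0_K64_14, 0, l0_K63_16, 0, l0_K62_18, 0, l0_K67_20, 0, l0_K57_22, 0]) = true := by decide +kernel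
theorem l0_r68 : l0_E.run [4180, 96, 100, 104, 108, 116, 120, 124, 4220, 140, 144, 148, 152, 156, 4256, 172, 184, 188, 4288, 4360, 4376, 4388, 4180, 104, 112, 116, 148, 152, 180, 184, 4360, 4376, 108, 112] l0_D2 [l0_K66_0, 0, l0_K65_2, 0, l0_K67_4, 0, l0_K67_6, 0, l0_K66_8, 0, l0_K65_10, 0, l0_K64_12, 0, l0_K64_14, 0, l0_K63_16, 0, l0_K62_18, 0, l0_K67_20, 0, l0_K57_22, 0] (fun D K => Nat.beq D l0_D2 && beqL K [l0_K66_0, 0, l0_K68_2, 0, l0_K68_4, 0, l0_K68_6, 0, l0_K66_8, 0, l0_K65_10, 0, l0_K64_12, 0, l0_K64_14, 0, l0_K63_16, 0, l0_K62_18, 0, l0_K68_20, 0, l0_K57_22, 0]) = true := by decide +kernel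
theorem l0_r69 : l0_E.run [144, 148, 176, 180, 104, 108, 124, 128, 140, 144, 160, 164, 172, 176, 192, 196, 100, 104, 4200, 108, 4204, 112, 124, 140, 4236, 4240, 160, 172, 4268, 4272, 192, 204, 4300, 208] l0_D2 [l0_K66_0, 0, l0_K68_2, 0, l0_K68_4, 0, l0_K68_6, 0, l0_K66_8, 0, l0_K65_10, 0, l0_K64_12, 0, l0_K64_14, 0, l0_K63_16, 0, l0_K62_18, 0, l0_K68_20, 0, l0_K57_22, 0] (fun D K => Nat.beq D l0_D2 && beqL K [l0_K66_0, 0, l0_K69_2, 0, l0_K69_4, 0, l0_K69_6, 0, l0_K69_8, 0, l0_K69_10, 0, l0_K69_12, 0, l0_K64_14, 0, l0_K63_16, 0, l0_K62_18, 0, l0_K68_20, 0, l0_K57_22, 0]) = true := by decide +kernel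
theorem l0_r70 : l0_E.run [212, 220, 264, 4160, 4164, 4196, 4200, 4204, 136, 4232, 140, 4240, 4272, 204, 208, 212, 216, 220, 4156, 4196, 4232, 168, 4264, 200, 4296, 228, 4324, 244] l0_D2 [l0_K66_0, 0, l0_K69_2, 0, l0_K69_4, 0, l0_K69_6, 0, l0_K69_8, 0, l0_K69_10, 0, l0_K69_12, 0, l0_K64_14, 0, l0_K63_16, 0, l0_K62_18, 0, l0_K68_20, 0, l0_K57_22, 0] (fun D K => Nat.beq D l0_D2 && beqL K [l0_K66_0, 0, l0_K69_2, 0, l0_K70_4, 0, l0_K70_6, 0, l0_K70_8, 0, l0_K70_10, 0, l0_K70_12, 0, l0_K64_14, 0, l0_K63_16, 0, l0_K62_18, 0, l0_K68_20, 0, l0_K57_22, 0]) = true := by decide +kernel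
theorem l0_r71 : l0_E.run [4340, 252, 4348, 4368, 4384, 4404, 4196, 4200, 4204, 4208, 4220, 4224, 4232, 4240, 4244, 4248, 172, 176, 180, 184, 188, 192, 4288, 196, 4292, 204, 208, 212, 216, 220] l0_D2 [l0_K66_0, 0, l0_K69_2, 0, l0_K70_4, 0, l0_K70_6, 0, l0_K70_8, 0, l0_K70_10, 0, l0_K70_12, 0, l0_K64_14, 0, l0_K63_16, 0, l0_K62_18, 0, l0_K68_20, 0, l0_K57_22, 0] (fun D K => Nat.beq D l0_D2 && beqL K [l0_K66_0, 0, l0_K69_2, 0, l0_K70_4, 0, l0_K71_6, 0, l0_K71_8, 0, l0_K71_10, 0, l0_K71_12, 0, l0_K71_14, 0, l0_K71_16, 0, l0_K71_18, 0, l0_K71_20, 0, l0_K71_22, 0]) = true := by decide +kernel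
theorem l0_r72 : l0_E.run [4316, 4320, 232, 236, 240, 256, 260, 264, 4360, 268, 4364, 280, 4376, 284, 4380, 292, 4388, 296, 4392, 300, 4396, 4400, 4192, 4196, 4220, 4256, 4268, 4288, 4292, 4360, 4364, 4376, 4380, 4388] l0_D2 [l0_K66_0, 0, l0_K69_2, 0, l0_K70_4, 0, l0_K71_6, 0, l0_K71_8, 0, l0_K71_10, 0, l0_K71_12, 0, l0_K71_14, 0, l0_K71_16, 0, l0_K71_18, 0, l0_K71_20, 0, l0_K71_22, 0] (fun D K => Nat.beq D l0_D2 && beqL K [l0_K66_0, 0, l0_K69_2, 0, l0_K70_4, 0, l0_K72_6, 0, l0_K72_8, 0, l0_K72_10, 0, l0_K72_12, 0, l0_K72_14, 0, l0_K72_16, 0, l0_K72_18, 0, l0_K72_20, 0, l0_K72_22, 0]) = true := by decide +kernel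
theorem l0_r73 : l0_E.run [4392, 4256, 4344, 4364, 4320, 168, 200, 4296, 228, 244, 4160, 4192, 4200, 4236, 172, 4268, 176, 180, 184, 192, 196, 204, 208, 212, 220, 232, 236, 168, 4264] l0_D2 [l0_K66_0, 0, l0_K69_2, 0, l0_K70_4, 0, l0_K72_6, 0, l0_K72_8, 0, l0_K72_10, 0, l0_K72_12, 0, l0_K72_14, 0, l0_K72_16, 0, l0_K72_18, 0, l0_K72_20, 0, l0_K72_22, 0] (fun D K => Nat.beq D l0_D2 && beqL K [l0_K66_0, 0, l0_K69_2, 0, l0_K70_4, 0, l0_K73_6, 0, l0_K73_8, 0, l0_K73_10, 0, l0_K72_12, 0, l0_K72_14, 0, l0_K72_16, 0, l0_K72_18, 0, l0_K73_20, 0, l0_K73_22, 0]) = true := by decide +kernel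
theorem l0_r74 : l0_E.run [200, 172, 176, 180, 204, 208, 212, 168] l0_D2 [l0_K66_0, 0, l0_K69_2, 0, l0_K70_4, 0, l0_K73_6, 0, l0_K73_8, 0, l0_K73_10, 0, l0_K72_12, 0, l0_K72_14, 0, l0_K72_16, 0, l0_K72_18, 0, l0_K73_20, 0, l0_K73_22, 0] (fun D K => Nat.beq D l0_D2 && beqL K [l0_K66_0, 0, l0_K69_2, 0, l0_K70_4, 0, l0_K74_6, 0, l0_K74_8, 0, l0_K73_10, 0, l0_K72_12, 0, l0_K72_14, 0, l0_K72_16, 0, l0_K72_18, 0, l0_K73_20, 0, l0_K73_22, 0]) = true := by decide +kernel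
theorem l0_r75 : l0_E.run [4416, 16] l0_D2 [l0_K66_0, 0, l0_K69_2, 0, l0_K70_4, 0, l0_K74_6, 0, l0_K74_8, 0, l0_K73_10, 0, l0_K72_12, 0, l0_K72_14, 0, l0_K72_16, 0, l0_K72_18, 0, l0_K73_20, 0, l0_K73_22, 0] (fun D K => Nat.beq D l0_D2 && beqL K [l0_K66_0, 0, l0_K69_2, 0, l0_K70_4, 0, l0_K74_6, 0, l0_K75_8, 0, l0_K73_10, 0, l0_K72_12, 0, l0_K72_14, 0, l0_K72_16, 0, l0_K72_18, 0, l0_K73_20, 0, l0_K73_22, 0]) = true := by decide +kernel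
theorem l0_r76 : l0_E.run [12608, 20, 136, 4232, 140, 4236] l0_D2 [l0_K66_0, 0, l0_K69_2, 0, l0_K70_4, 0, l0_K74_6, 0, l0_K75_8, 0, l0_K73_10, 0, l0_K72_12, 0, l0_K72_14, 0, l0_K72_16, 0, l0_K72_18, 0, l0_K73_20, 0, l0_K73_22, 0] (fun D K => Nat.beq D l0_D2 && beqL K [l0_K66_0, 0, l0_K69_2, 0, l0_K76_4, 0, l0_K74_6, 0, l0_K76_8, 0, l0_K76_10, 0, l0_K72_12, 0, l0_K72_14, 0, l0_K72_16, 0, l0_K72_18, 0, l0_K73_20, 0, l0_K73_22, 0]) = true := by decide +kernel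
theorem l0_r77 : l0_E.run [144, 4240, 148, 152, 4248, 156, 4252, 160, 164, 172, 176, 180, 184, 188, 192, 196, 204, 208, 212, 216, 220, 224, 232, 236, 240, 248, 256, 4192, 4196, 4200, 4204, 4212, 4216, 4236] l0_D2 [l0_K66_0, 0, l0_K69_2, 0, l0_K76_4, 0, l0_K74_6, 0, l0_K76_8, 0, l0_K76_10, 0, l0_K72_12, 0, l0_K72_14, 0, l0_K72_16, 0, l0_K72_18, 0, l0_K73_20, 0, l0_K73_22, 0] (fun D K => Nat.beq D l0_D2 && beqL K [l0_K66_0, 0, l0_K69_2, 0, l0_K77_4, 0, l0_K77_6, 0, l0_K77_8, 0, l0_K77_10, 0, l0_K77_12, 0, l0_K72_14, 0, l0_K77_16, 0, l0_K77_18, 0, l0_K73_20, 0, l0_K73_22, 0]) = true := by decide +kernel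
theorem l0_r78 : l0_E.run [144, 148, 4244, 152, 160, 172, 4268, 176, 180, 208, 4304, 220, 232, 4152, 4156, 4160, 4164, 4168, 4172, 4176, 140, 4236, 144, 4240, 148, 4244, 4248, 4268, 176, 4272, 4276, 4280, 204, 4300] l0_D2 [l0_K66_0, 0, l0_K69_2, 0, l0_K77_4, 0, l0_K77_6, 0, l0_K77_8, 0, l0_K77_10, 0, l0_K77_12, 0, l0_K72_14, 0, l0_K77_16, 0, l0_K77_18, 0, l0_K73_20, 0, l0_K73_22, 0] (fun D K => Nat.beq D l0_D2 && beqL K [l0_K66_0, 0, l0_K69_2, 0, l0_K78_4, 0, l0_K78_6, 0, l0_K78_8, 0, l0_K78_10, 0, l0_K78_12, 0, l0_K78_14, 0, l0_K78_16, 0, l0_K78_18, 0, l0_K73_20, 0, l0_K73_22, 0]) = true := by decide +kernel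
theorem l0_r79 : l0_E.run [208, 212, 216, 220, 224, 4328, 4332, 4376, 4388, 4196, 140, 4236, 4240, 160, 4256, 4260, 172, 4268, 4272, 192, 4288, 4292, 204, 208, 212, 220, 264, 4360, 4200, 4220, 4224, 4232, 4160, 4180] l0_D2 [l0_K66_0, 0, l0_K69_2, 0, l0_K78_4, 0, l0_K78_6, 0, l0_K78_8, 0, l0_K78_10, 0, l0_K78_12, 0, l0_K78_14, 0, l0_K78_16, 0, l0_K78_18, 0, l0_K73_20, 0, l0_K73_22, 0] (fun D K => Nat.beq D l0_D2 && beqL K [l0_K66_0, 0, l0_K69_2, 0, l0_K79_4, 0, l0_K79_6, 0, l0_K79_8, 0, l0_K79_10, 0, l0_K79_12, 0, l0_K79_14, 0, l0_K79_16, 0, l0_K78_18, 0, l0_K79_20, 0, l0_K79_22, 0]) = true := by decide +kernel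
theorem l0_r80 : l0_E.run [4184, 168, 4264, 200, 4296, 228, 4324, 244, 4340, 4348, 96, 100, 4196, 104, 4200, 108, 112, 116, 120, 124, 128, 136, 140, 144, 148, 152, 156, 160] l0_D2 [l0_K66_0, 0, l0_K69_2, 0, l0_K79_4, 0, l0_K79_6, 0, l0_K79_8, 0, l0_K79_10, 0, l0_K79_12, 0, l0_K79_14, 0, l0_K79_16, 0, l0_K78_18, 0, l0_K79_20, 0, l0_K79_22, 0] (fun D K => Nat.beq D l0_D2 && beqL K [l0_K66_0, 0, l0_K80_2, 0, l0_K80_4, 0, l0_K80_6, 0, l0_K80_8, 0, l0_K80_10, 0, l0_K80_12, 0, l0_K80_14, 0, l0_K79_16, 0, l0_K78_18, 0, l0_K80_20, 0, l0_K80_22, 0]) = true := by decide +kernel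
theorem l0_r81 : l0_E.run [4256, 164, 172, 4268, 176, 180, 184, 188, 192, 4288, 196, 204, 208, 212, 216, 220, 4316, 224, 232, 236, 240, 248, 4360, 4376, 4388, 4396, 104, 4200, 108, 112, 124, 136, 140, 4236] l0_D2 [l0_K66_0, 0, l0_K80_2, 0, l0_K80_4, 0, l0_K80_6, 0, l0_K80_8, 0, l0_K80_10, 0, l0_K80_12, 0, l0_K80_14, 0, l0_K79_16, 0, l0_K78_18, 0, l0_K80_20, 0, l0_K80_22, 0] (fun D K => Nat.beq D l0_D2 && beqL K [l0_K66_0, 0, l0_K81_2, 0, l0_K81_4, 0, l0_K81_6, 0, l0_K81_8, 0, l0_K81_10, 0, l0_K80_12, 0, l0_K80_14, 0, l0_K79_16, 0, l0_K78_18, 0, l0_K81_20, 0, l0_K80_22, 0]) = true := by decide +kernel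
theorem l0_r82 : l0_E.run [144, 148, 152, 160, 4256, 164, 172, 4268, 176, 180, 184, 192, 4288, 196, 204, 208, 220, 224, 232, 236, 4360, 4376, 96, 100, 104, 4200, 108, 4204, 112, 4208, 116, 4212, 120, 124] l0_D2 [l0_K66_0, 0, l0_K81_2, 0, l0_K81_4, 0, l0_K81_6, 0, l0_K81_8, 0, l0_K81_10, 0, l0_K80_12, 0, l0_K80_14, 0, l0_K79_16, 0, l0_K78_18, 0, l0_K81_20, 0, l0_K80_22, 0] (fun D K => Nat.beq D l0_D2 && beqL K [l0_K66_0, 0, l0_K82_2, 0, l0_K82_4, 0, l0_K82_6, 0, l0_K82_8, 0, l0_K82_10, 0, l0_K82_12, 0, l0_K82_14, 0, l0_K82_16, 0, l0_K78_18, 0, l0_K82_20, 0, l0_K80_22, 0]) = true := by decide +kernel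
theorem l0_r83 : l0_E.run [4220, 128, 4224, 136, 4232, 140, 4236, 144, 4240, 148, 4244, 152, 4248, 156, 160, 4256, 164, 172, 4268, 176, 4272, 180, 4276, 4280, 4288, 204, 4300, 208, 4304, 212, 4308, 216, 220, 4316] l0_D2 [l0_K66_0, 0, l0_K82_2, 0, l0_K82_4, 0, l0_K82_6, 0, l0_K82_8, 0, l0_K82_10, 0, l0_K82_12, 0, l0_K82_14, 0, l0_K82_16, 0, l0_K78_18, 0, l0_K82_20, 0, l0_K80_22, 0] (fun D K => Nat.beq D l0_D2 && beqL K [l0_K66_0, 0, l0_K83_2, 0, l0_K83_4, 0, l0_K83_6, 0, l0_K83_8, 0, l0_K83_10, 0, l0_K83_12, 0, l0_K83_14, 0, l0_K83_16, 0, l0_K78_18, 0, l0_K83_20, 0, l0_K83_22, 0]) = true := by decide +kernel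
theorem l0_r84 : l0_E.run [224, 232, 4328, 236, 4332, 240, 264, 4360, 268, 280, 4376, 284, 292, 4388, 296, 4396, 4148, 4156, 4160, 4164, 4168, 4172, 4180, 4184, 96, 100, 4196, 104, 4200, 4204, 136, 4232, 140, 4236] l0_D2 [l0_K66_0, 0, l0_K83_2, 0, l0_K83_4, 0, l0_K83_6, 0, l0_K83_8, 0, l0_K83_10, 0, l0_K83_12, 0, l0_K83_14, 0, l0_K83_16, 0, l0_K78_18, 0, l0_K83_20, 0, l0_K83_22, 0] (fun D K => Nat.beq D l0_D2 && beqL K [l0_K66_0, 0, l0_K84_2, 0, l0_K84_4, 0, l0_K83_6, 0, l0_K84_8, 0, l0_K84_10, 0, l0_K84_12, 0, l0_K84_14, 0, l0_K84_16, 0, l0_K78_18, 0, l0_K84_20, 0, l0_K84_22, 0]) = true := by decide +kernel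
theorem l0_r85 : l0_E.run [144, 4240, 148, 4244, 152, 4248, 4256, 4260, 4268, 4272, 4276, 4280, 4288, 4292, 204, 4300, 208, 4304, 212, 4308, 4316, 232, 236, 240, 4376, 4388, 52, 4156, 4160, 4164, 96, 100, 4200, 4220] l0_D2 [l0_K66_0, 0, l0_K84_2, 0, l0_K84_4, 0, l0_K83_6, 0, l0_K84_8, 0, l0_K84_10, 0, l0_K84_12, 0, l0_K84_14, 0, l0_K84_16, 0, l0_K78_18, 0, l0_K84_20, 0, l0_K84_22, 0] (fun D K => Nat.beq D l0_D2 && beqL K [l0_K85_0, 0, l0_K85_2, 0, l0_K85_4, 0, l0_K83_6, 0, l0_K85_8, 0, l0_K85_10, 0, l0_K85_12, 0, l0_K85_14, 0, l0_K85_16, 0, l0_K78_18, 0, l0_K85_20, 0, l0_K85_22, 0]) = true := by decide +kernel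
theorem l0_r86 : l0_E.run [4232, 4236, 4240, 4244, 4248, 4256, 4268, 4276, 4280, 4288, 232, 132, 4228, 168, 4264, 200, 4296, 228, 4324, 244, 4340, 252, 4348, 272] l0_D2 [l0_K85_0, 0, l0_K85_2, 0, l0_K85_4, 0, l0_K83_6, 0, l0_K85_8, 0, l0_K85_10, 0, l0_K85_12, 0, l0_K85_14, 0, l0_K85_16, 0, l0_K78_18, 0, l0_K85_20, 0, l0_K85_22, 0] (fun D K => Nat.beq D l0_D2 && beqL K [l0_K85_0, 0, l0_K85_2, 0, l0_K86_4, 0, l0_K86_6, 0, l0_K86_8, 0, l0_K86_10, 0, l0_K86_12, 0, l0_K86_14, 0, l0_K86_16, 0, l0_K78_18, 0, l0_K86_20, 0, l0_K85_22, 0]) = true := by decide +kernel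
theorem l0_r87 : l0_E.run [4368, 4384, 4404, 52, 4156, 4160, 68, 96, 4192, 100, 4196, 104, 4200, 108, 4204, 112, 4208, 116, 4212, 120, 4216, 124, 4220, 128, 4224, 136, 4232, 140, 4236, 144, 4240, 148] l0_D2 [l0_K85_0, 0, l0_K85_2, 0, l0_K86_4, 0, l0_K86_6, 0, l0_K86_8, 0, l0_K86_10, 0, l0_K86_12, 0, l0_K86_14, 0, l0_K86_16, 0, l0_K78_18, 0, l0_K86_20, 0, l0_K85_22, 0] (fun D K => Nat.beq D l0_D2 && beqL K [l0_K87_0, 0, l0_K87_2, 0, l0_K87_4, 0, l0_K87_6, 0, l0_K87_8, 0, l0_K87_10, 0, l0_K87_12, 0, l0_K87_14, 0, l0_K87_16, 0, l0_K87_18, 0, l0_K87_20, 0, l0_K87_22, 0]) = true := by decide +kernel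
theorem l0_r88 : l0_E.run [4244, 152, 4248, 156, 4252, 160, 4256, 164, 4260, 172, 4268, 176, 4272, 180, 4276, 184, 4280, 188, 4284, 192, 4288, 196, 4292, 204, 4300, 208, 4304, 212, 4308, 216, 4312, 220, 4316, 224] l0_D2 [l0_K87_0, 0, l0_K87_2, 0, l0_K87_4, 0, l0_K87_6, 0, l0_K87_8, 0, l0_K87_10, 0, l0_K87_12, 0, l0_K87_14, 0, l0_K87_16, 0, l0_K87_18, 0, l0_K87_20, 0, l0_K87_22, 0] (fun D K => Nat.beq D l0_D2 && beqL K [l0_K87_0, 0, l0_K87_2, 0, l0_K88_4, 0, l0_K88_6, 0, l0_K88_8, 0, l0_K88_10, 0, l0_K88_12, 0, l0_K88_14, 0, l0_K88_16, 0, l0_K88_18, 0, l0_K88_20, 0, l0_K88_22, 0]) = true := by decide +kernel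

end Cfsg.Agent.Fi24C
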