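import Cfsg.Agent.Fi24C.L0D11

set_option autoImplicit false
set_option Elab.async false
set_option maxRecDepth 100000
set_option linter.all false

namespace Cfsg.Agent.Fi24C
open Cfsg.Agent.CGT

theorem l0_r89 : l0_E.run [4320, 232, 4328, 236, 4332, 240, 4336, 248, 256, 4352, 260, 4356, 264, 4360, 268, 276, 280, 4376, 284, 292, 4388, 296, 300, 4396, 304, 52, 4148, 56, 4152, 60, 4156, 64, 4160, 68] l0_D2 [l0_K87_0, 0, l0_K87_2, 0, l0_K88_4, 0, l0_K88_6, 0, l0_K88_8, 0, l0_K88_10, 0, l0_K88_12, 0, l0_K88_14, 0, l0_K88_16, 0, l0_K88_18, 0, l0_K88_20, 0, l0_K88_22, 0] (fun D K => Nat.beq D l0_D2 && beqL K [l0_K89_0, 0, l0_K87_2, 0, l0_K89_4, 0, l0_K89_6, 0, l0_K89_8, 0, l0_K89_10, 0, l0_K89_12, 0, l0_K89_14, 0, l0_K89_16, 0, l0_K89_18, 0, l0_K89_20, 0, l0_K89_22, 0]) = true := by decide +kernel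
theorem l0_r90 : l0_E.run [4164, 72, 4168, 76, 4172, 80, 84, 4180, 88, 4184, 96, 4192, 100, 4196, 104, 4200, 108, 4204, 112, 4208, 116, 120, 124, 4220, 128, 4224, 136, 4232, 140, 4236, 144, 4240, 148, 152] l0_D2 [l0_K89_0, 0, l0_K87_2, 0, l0_K89_4, 0, l0_K89_6, 0, l0_K89_8, 0, l0_K89_10, 0, l0_K89_12, 0, l0_K89_14, 0, l0_K89_16, 0, l0_K89_18, 0, l0_K89_20, 0, l0_K89_22, 0] (fun D K => Nat.beq D l0_D2 && beqL K [l0_K90_0, 0, l0_K90_2, 0, l0_K90_4, 0, l0_K90_6, 0, l0_K90_8, 0, l0_K90_10, 0, l0_K90_12, 0, l0_K90_14, 0, l0_K90_16, 0, l0_K89_18, 0, l0_K90_20, 0, l0_K90_22, 0]) = true := by decide +kernel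
theorem l0_r91 : l0_E.run [156, 160, 4256, 164, 172, 4268, 176, 4272, 180, 184, 188, 192, 196, 204, 208, 212, 216, 220, 224, 232, 236, 240, 256, 264, 4360, 268, 4376, 4388, 52, 4148, 4152, 60, 4156, 64] l0_D2 [l0_K90_0, 0, l0_K90_2, 0, l0_K90_4, 0, l0_K90_6, 0, l0_K90_8, 0, l0_K90_10, 0, l0_K90_12, 0, l0_K90_14, 0, l0_K90_16, 0, l0_K89_18, 0, l0_K90_20, 0, l0_K90_22, 0] (fun D K => Nat.beq D l0_D2 && beqL K [l0_K91_0, 0, l0_K90_2, 0, l0_K91_4, 0, l0_K91_6, 0, l0_K91_8, 0, l0_K91_10, 0, l0_K91_12, 0, l0_K90_14, 0, l0_K90_16, 0, l0_K89_18, 0, l0_K91_20, 0, l0_K90_22, 0]) = true := by decide +kernel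
theorem l0_r92 : l0_E.run [4160, 68, 4164, 72, 4168, 76, 80, 84, 4180, 88, 100, 4196, 104, 4200, 108, 112, 116, 120, 124, 128, 136, 4232, 140, 4236, 144, 4240, 148, 152, 156, 160, 4256, 164, 172, 4268] l0_D2 [l0_K91_0, 0, l0_K90_2, 0, l0_K91_4, 0, l0_K91_6, 0, l0_K91_8, 0, l0_K91_10, 0, l0_K91_12, 0, l0_K90_14, 0, l0_K90_16, 0, l0_K89_18, 0, l0_K91_20, 0, l0_K90_22, 0] (fun D K => Nat.beq D l0_D2 && beqL K [l0_K92_0, 0, l0_K92_2, 0, l0_K92_4, 0, l0_K92_6, 0, l0_K92_8, 0, l0_K92_10, 0, l0_K92_12, 0, l0_K92_14, 0, l0_K90_16, 0, l0_K89_18, 0, l0_K92_20, 0, l0_K90_22, 0]) = true := by decide +kernel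
theorem l0_r93 : l0_E.run [176, 4272, 180, 4288, 204, 208, 212, 220, 264, 56, 60, 4156, 64, 4160, 68, 4164, 72, 76, 80, 84, 4180, 88, 96, 100, 4196, 104, 4200, 108, 112, 116, 120, 124, 4220, 128] l0_D2 [l0_K92_0, 0, l0_K92_2, 0, l0_K92_4, 0, l0_K92_6, 0, l0_K92_8, 0, l0_K92_10, 0, l0_K92_12, 0, l0_K92_14, 0, l0_K90_16, 0, l0_K89_18, 0, l0_K92_20, 0, l0_K90_22, 0] (fun D K => Nat.beq D l0_D2 && beqL K [l0_K93_0, 0, l0_K93_2, 0, l0_K92_4, 0, l0_K93_6, 0, l0_K93_8, 0, l0_K93_10, 0, l0_K93_12, 0, l0_K92_14, 0, l0_K90_16, 0, l0_K89_18, 0, l0_K93_20, 0, l0_K90_22, 0]) = true := by decide +kernel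
theorem l0_r94 : l0_E.run [4232, 140, 4236, 144, 148, 152, 160, 4256, 172, 4268, 52, 4156, 64, 4160, 68, 4180, 100, 4200, 4144, 200, 4296, 228, 244, 252, 204, 208, 212, 216, 256, 260] l0_D2 [l0_K93_0, 0, l0_K93_2, 0, l0_K92_4, 0, l0_K93_6, 0, l0_K93_8, 0, l0_K93_10, 0, l0_K93_12, 0, l0_K92_14, 0, l0_K90_16, 0, l0_K89_18, 0, l0_K93_20, 0, l0_K90_22, 0] (fun D K => Nat.beq D l0_D2 && beqL K [l0_K94_0, 0, l0_K94_2, 0, l0_K94_4, 0, l0_K94_6, 0, l0_K94_8, 0, l0_K94_10, 0, l0_K94_12, 0, l0_K92_14, 0, l0_K90_16, 0, l0_K89_18, 0, l0_K94_20, 0, l0_K90_22, 0]) = true := by decide +kernel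
theorem l0_r95 : l0_E.run [4408, 40] l0_D2 [l0_K94_0, 0, l0_K94_2, 0, l0_K94_4, 0, l0_K94_6, 0, l0_K94_8, 0, l0_K94_10, 0, l0_K94_12, 0, l0_K92_14, 0, l0_K90_16, 0, l0_K89_18, 0, l0_K94_20, 0, l0_K90_22, 0] (fun D K => Nat.beq D l0_D2 && beqL K [l0_K94_0, 0, l0_K94_2, 0, l0_K94_4, 0, l0_K94_6, 0, l0_K94_8, 0, l0_K94_10, 0, l0_K94_12, 0, l0_K92_14, 0, l0_K90_16, 0, l0_K89_18, 0, l0_K95_20, 0, l0_K90_22, 0]) = true := by decide +kernel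
theorem l0_r96 : l0_E.run [8504, 28] l0_D2 [l0_K94_0, 0, l0_K94_2, 0, l0_K94_4, 0, l0_K94_6, 0, l0_K94_8, 0, l0_K94_10, 0, l0_K94_12, 0, l0_K92_14, 0, l0_K90_16, 0, l0_K89_18, 0, l0_K95_20, 0, l0_K90_22, 0] (fun D K => Nat.beq D l0_D2 && beqL K [l0_K94_0, 0, l0_K94_2, 0, l0_K94_4, 0, l0_K94_6, 0, l0_K94_8, 0, l0_K94_10, 0, l0_K94_12, 0, l0_K96_14, 0, l0_K90_16, 0, l0_K89_18, 0, l0_K95_20, 0, l0_K90_22, 0]) = true := by decide +kernel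
theorem l0_r97 : l0_E.run [12600, 24] l0_D2 [l0_K94_0, 0, l0_K94_2, 0, l0_K94_4, 0, l0_K94_6, 0, l0_K94_8, 0, l0_K94_10, 0, l0_K94_12, 0, l0_K96_14, 0, l0_K90_16, 0, l0_K89_18, 0, l0_K95_20, 0, l0_K90_22, 0] (fun D K => Nat.beq D l0_D2 && beqL K [l0_K94_0, 0, l0_K94_2, 0, l0_K94_4, 0, l0_K94_6, 0, l0_K94_8, 0, l0_K94_10, 0, l0_K97_12, 0, l0_K96_14, 0, l0_K90_16, 0, l0_K89_18, 0, l0_K95_20, 0, l0_K90_22, 0]) = true := by decide +kernel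
theorem l0_r98 : l0_E.run [16696, 20] l0_D2 [l0_K94_0, 0, l0_K94_2, 0, l0_K94_4, 0, l0_K94_6, 0, l0_K94_8, 0, l0_K94_10, 0, l0_K97_12, 0, l0_K96_14, 0, l0_K90_16, 0, l0_K89_18, 0, l0_K95_20, 0, l0_K90_22, 0] (fun D K => Nat.beq D l0_D2 && beqL K [l0_K94_0, 0, l0_K94_2, 0, l0_K94_4, 0, l0_K94_6, 0, l0_K94_8, 0, l0_K98_10, 0, l0_K97_12, 0, l0_K96_14, 0, l0_K90_16, 0, l0_K89_18, 0, l0_K95_20, 0, l0_K90_22, 0]) = true := by decide +kernel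
theorem l0_r99 : l0_E.run [20792, 16] l0_D2 [l0_K94_0, 0, l0_K94_2, 0, l0_K94_4, 0, l0_K94_6, 0, l0_K94_8, 0, l0_K98_10, 0, l0_K97_12, 0, l0_K96_14, 0, l0_K90_16, 0, l0_K89_18, 0, l0_K95_20, 0, l0_K90_22, 0] (fun D K => Nat.beq D l0_D2 && beqL K [l0_K94_0, 0, l0_K94_2, 0, l0_K94_4, 0, l0_K94_6, 0, l0_K99_8, 0, l0_K98_10, 0, l0_K97_12, 0, l0_K96_14, 0, l0_K90_16, 0, l0_K89_18, 0, l0_K95_20, 0, l0_K90_22, 0]) = true := by decide +kernel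
theorem l0_r100 : l0_E.run [24888, 12] l0_D2 [l0_K94_0, 0, l0_K94_2, 0, l0_K94_4, 0, l0_K94_6, 0, l0_K99_8, 0, l0_K98_10, 0, l0_K97_12, 0, l0_K96_14, 0, l0_K90_16, 0, l0_K89_18, 0, l0_K95_20, 0, l0_K90_22, 0] (fun D K => Nat.beq D l0_D2 && beqL K [l0_K94_0, 0, l0_K94_2, 0, l0_K94_4, 0, l0_K100_6, 0, l0_K99_8, 0, l0_K98_10, 0, l0_K97_12, 0, l0_K96_14, 0, l0_K90_16, 0, l0_K89_18, 0, l0_K95_20, 0, l0_K90_22, 0]) = true := by decide +kernel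
theorem l0_r101 : l0_E.run [28984, 8] l0_D2 [l0_K94_0, 0, l0_K94_2, 0, l0_K94_4, 0, l0_K100_6, 0, l0_K99_8, 0, l0_K98_10, 0, l0_K97_12, 0, l0_K96_14, 0, l0_K90_16, 0, l0_K89_18, 0, l0_K95_20, 0, l0_K90_22, 0] (fun D K => Nat.beq D l0_D2 && beqL K [l0_K94_0, 0, l0_K94_2, 0, l0_K101_4, 0, l0_K100_6, 0, l0_K99_8, 0, l0_K98_10, 0, l0_K97_12, 0, l0_K96_14, 0, l0_K90_16, 0, l0_K89_18, 0, l0_K95_20, 0, l0_K90_22, 0]) = true := by decide +kernel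
theorem l0_r102 : l0_E.run [53560, 12, 56, 4156, 4160, 72, 76, 80, 84, 88, 96, 4192, 100, 4196] l0_D2 [l0_K94_0, 0, l0_K94_2, 0, l0_K101_4, 0, l0_K100_6, 0, l0_K99_8, 0, l0_K98_10, 0, l0_K97_12, 0, l0_K96_14, 0, l0_K90_16, 0, l0_K89_18, 0, l0_K95_20, 0, l0_K90_22, 0] (fun D K => Nat.beq D l0_D2 && beqL K [l0_K102_0, 0, l0_K102_2, 0, l0_K101_4, 0, l0_K102_6, 0, l0_K102_8, 0, l0_K102_10, 0, l0_K97_12, 0, l0_K96_14, 0, l0_K90_16, 0, l0_K89_18, 0, l0_K95_20, 0, l0_K90_22, 0]) = true := by decide +kernel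
theorem l0_r103 : l0_E.run [104, 4200, 108, 4204, 112, 4208, 116, 4212, 120, 124, 4220, 128, 136, 4232, 140, 4236, 144, 4240, 148, 4244, 152, 4248, 156, 160, 4256, 164, 172, 4268, 176, 180, 184, 188, 192, 196] l0_D2 [l0_K102_0, 0, l0_K102_2, 0, l0_K101_4, 0, l0_K102_6, 0, l0_K102_8, 0, l0_K102_10, 0, l0_K97_12, 0, l0_K96_14, 0, l0_K90_16, 0, l0_K89_18, 0, l0_K95_20, 0, l0_K90_22, 0] (fun D K => Nat.beq D l0_D2 && beqL K [l0_K102_0, 0, l0_K103_2, 0, l0_K103_4, 0, l0_K103_6, 0, l0_K103_8, 0, l0_K103_10, 0, l0_K103_12, 0, l0_K103_14, 0, l0_K103_16, 0, l0_K89_18, 0, l0_K103_20, 0, l0_K90_22, 0]) = true := by decide +kernel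
theorem l0_r104 : l0_E.run [204, 208, 212, 4308, 216, 220, 4316, 224, 232, 236, 4332, 240, 248, 256, 260, 264, 4360, 268, 4376, 284, 292, 4388, 296, 4396, 4148, 56, 4152, 60, 4156, 64, 4160, 68, 4164, 72] l0_D2 [l0_K102_0, 0, l0_K103_2, 0, l0_K103_4, 0, l0_K103_6, 0, l0_K103_8, 0, l0_K103_10, 0, l0_K103_12, 0, l0_K103_14, 0, l0_K103_16, 0, l0_K89_18, 0, l0_K103_20, 0, l0_K90_22, 0] (fun D K => Nat.beq D l0_D2 && beqL K [l0_K104_0, 0, l0_K103_2, 0, l0_K104_4, 0, l0_K104_6, 0, l0_K104_8, 0, l0_K104_10, 0, l0_K104_12, 0, l0_K104_14, 0, l0_K104_16, 0, l0_K89_18, 0, l0_K104_20, 0, l0_K90_22, 0]) = true := by decide +kernel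
theorem l0_r105 : l0_E.run [76, 80, 84, 4180, 88, 96, 4192, 100, 4196, 104, 4200, 108, 4204, 112, 4208, 116, 120, 124, 4220, 128, 4224, 136, 4232, 140, 4236, 144, 4240, 148, 4244, 152, 156, 160, 4256, 164] l0_D2 [l0_K104_0, 0, l0_K103_2, 0, l0_K104_4, 0, l0_K104_6, 0, l0_K104_8, 0, l0_K104_10, 0, l0_K104_12, 0, l0_K104_14, 0, l0_K104_16, 0, l0_K89_18, 0, l0_K104_20, 0, l0_K90_22, 0] (fun D K => Nat.beq D l0_D2 && beqL K [l0_K105_0, 0, l0_K105_2, 0, l0_K105_4, 0, l0_K105_6, 0, l0_K105_8, 0, l0_K105_10, 0, l0_K105_12, 0, l0_K105_14, 0, l0_K104_16, 0, l0_K89_18, 0, l0_K105_20, 0, l0_K105_22, 0]) = true := by decide +kernel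
theorem l0_r106 : l0_E.run [172, 4268, 176, 4272, 180, 184, 188, 192, 196, 204, 208, 4304, 212, 216, 220, 224, 232, 236, 248, 4344, 264, 4364, 280, 4380, 292, 4392, 4400, 52, 4148, 56, 64, 4160, 68, 4164] l0_D2 [l0_K105_0, 0, l0_K105_2, 0, l0_K105_4, 0, l0_K105_6, 0, l0_K105_8, 0, l0_K105_10, 0, l0_K105_12, 0, l0_K105_14, 0, l0_K104_16, 0, l0_K89_18, 0, l0_K105_20, 0, l0_K105_22, 0] (fun D K => Nat.beq D l0_D2 && beqL K [l0_K106_0, 0, l0_K105_2, 0, l0_K106_4, 0, l0_K106_6, 0, l0_K106_8, 0, l0_K106_10, 0, l0_K106_12, 0, l0_K106_14, 0, l0_K106_16, 0, l0_K89_18, 0, l0_K105_20, 0, l0_K106_22, 0]) = true := by decide +kernel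
theorem l0_r107 : l0_E.run [72, 76, 80, 84, 4180, 88, 96, 4192, 100, 4196, 104, 4200, 108, 4204, 112, 4208, 116, 4212, 120, 124, 4220, 128, 136, 4232, 140, 4236, 144, 4240, 148, 4244, 152, 4248, 156, 160] l0_D2 [l0_K106_0, 0, l0_K105_2, 0, l0_K106_4, 0, l0_K106_6, 0, l0_K106_8, 0, l0_K106_10, 0, l0_K106_12, 0, l0_K106_14, 0, l0_K106_16, 0, l0_K89_18, 0, l0_K105_20, 0, l0_K106_22, 0] (fun D K => Nat.beq D l0_D2 && beqL K [l0_K107_0, 0, l0_K107_2, 0, l0_K107_4, 0, l0_K107_6, 0, l0_K107_8, 0, l0_K107_10, 0, l0_K107_12, 0, l0_K107_14, 0, l0_K107_16, 0, l0_K89_18, 0, l0_K107_20, 0, l0_K106_22, 0]) = true := by decide +kernel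
theorem l0_r108 : l0_E.run [4256, 164, 4260, 172, 4268, 176, 4272, 180, 184, 188, 192, 4288, 196, 204, 4300, 208, 4304, 212, 4308, 216, 220, 4316, 224, 232, 4328, 236, 4332, 248, 256, 264, 4360, 268, 4376, 4388] l0_D2 [l0_K107_0, 0, l0_K107_2, 0, l0_K107_4, 0, l0_K107_6, 0, l0_K107_8, 0, l0_K107_10, 0, l0_K107_12, 0, l0_K107_14, 0, l0_K107_16, 0, l0_K89_18, 0, l0_K107_20, 0, l0_K106_22, 0] (fun D K => Nat.beq D l0_D2 && beqL K [l0_K107_0, 0, l0_K107_2, 0, l0_K108_4, 0, l0_K108_6, 0, l0_K108_8, 0, l0_K108_10, 0, l0_K108_12, 0, l0_K108_14, 0, l0_K108_16, 0, l0_K89_18, 0, l0_K108_20, 0, l0_K108_22, 0]) = true := by decide +kernel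
theorem l0_r109 : l0_E.run [52, 4148, 56, 60, 4156, 64, 4160, 68, 4164, 72, 76, 80, 4180, 96, 4192, 100, 4196, 104, 4200, 108, 4204, 112, 4208, 116, 4212, 120, 4220, 4224, 136, 4232, 140, 4236, 144, 4240] l0_D2 [l0_K107_0, 0, l0_K107_2, 0, l0_K108_4, 0, l0_K108_6, 0, l0_K108_8, 0, l0_K108_10, 0, l0_K108_12, 0, l0_K108_14, 0, l0_K108_16, 0, l0_K89_18, 0, l0_K108_20, 0, l0_K108_22, 0] (fun D K => Nat.beq D l0_D2 && beqL K [l0_K109_0, 0, l0_K109_2, 0, l0_K109_4, 0, l0_K109_6, 0, l0_K109_8, 0, l0_K109_10, 0, l0_K109_12, 0, l0_K109_14, 0, l0_K109_16, 0, l0_K89_18, 0, l0_K109_20, 0, l0_K109_22, 0]) = true := by decide +kernel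
theorem l0_r110 : l0_E.run [148, 4244, 152, 4248, 156, 4252, 160, 4256, 164, 4260, 172, 4268, 176, 4272, 180, 4276, 184, 4280, 188, 4284, 192, 4288, 196, 204, 4300, 208, 4304, 212, 4308, 216, 4312, 220, 4316, 224] l0_D2 [l0_K109_0, 0, l0_K109_2, 0, l0_K109_4, 0, l0_K109_6, 0, l0_K109_8, 0, l0_K109_10, 0, l0_K109_12, 0, l0_K109_14, 0, l0_K109_16, 0, l0_K89_18, 0, l0_K109_20, 0, l0_K109_22, 0] (fun D K => Nat.beq D l0_D2 && beqL K [l0_K109_0, 0, l0_K109_2, 0, l0_K110_4, 0, l0_K110_6, 0, l0_K110_8, 0, l0_K110_10, 0, l0_K110_12, 0, l0_K110_14, 0, l0_K110_16, 0, l0_K110_18, 0, l0_K110_20, 0, l0_K110_22, 0]) = true := by decide +kernel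
theorem l0_r111 : l0_E.run [4320, 232, 4328, 236, 4332, 240, 4336, 248, 4344, 256, 260, 264, 4360, 268, 280, 4376, 292, 4388, 300, 4396, 52, 4148, 56, 4152, 60, 4156, 64, 4160, 68, 4164, 72, 4168, 76, 80] l0_D2 [l0_K109_0, 0, l0_K109_2, 0, l0_K110_4, 0, l0_K110_6, 0, l0_K110_8, 0, l0_K110_10, 0, l0_K110_12, 0, l0_K110_14, 0, l0_K110_16, 0, l0_K110_18, 0, l0_K110_20, 0, l0_K110_22, 0] (fun D K => Nat.beq D l0_D2 && beqL K [l0_K111_0, 0, l0_K109_2, 0, l0_K111_4, 0, l0_K111_6, 0, l0_K111_8, 0, l0_K111_10, 0, l0_K111_12, 0, l0_K111_14, 0, l0_K111_16, 0, l0_K111_18, 0, l0_K111_20, 0, l0_K111_22, 0]) = true := by decide +kernel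
theorem l0_r112 : l0_E.run [84, 4180, 88, 96, 4192, 100, 4196, 104, 4200, 108, 4204, 112, 4208, 116, 4212, 4216, 124, 4220, 128, 136, 4232, 140, 4236, 144, 4240, 148, 4244, 152, 156, 160, 4256, 164, 4260, 172] l0_D2 [l0_K111_0, 0, l0_K109_2, 0, l0_K111_4, 0, l0_K111_6, 0, l0_K111_8, 0, l0_K111_10, 0, l0_K111_12, 0, l0_K111_14, 0, l0_K111_16, 0, l0_K111_18, 0, l0_K111_20, 0, l0_K111_22, 0] (fun D K => Nat.beq D l0_D2 && beqL K [l0_K112_0, 0, l0_K112_2, 0, l0_K112_4, 0, l0_K112_6, 0, l0_K112_8, 0, l0_K112_10, 0, l0_K112_12, 0, l0_K112_14, 0, l0_K112_16, 0, l0_K112_18, 0, l0_K112_20, 0, l0_K112_22, 0]) = true := by decide +kernel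
theorem l0_r113 : l0_E.run [4268, 176, 4272, 180, 4276, 184, 4280, 188, 4284, 192, 4288, 196, 4292, 204, 4300, 4304, 4308, 4312, 220, 4316, 224, 4320, 248, 264, 4360, 268, 280, 4376, 4388, 52, 4148, 4152, 4156, 4160] l0_D2 [l0_K112_0, 0, l0_K112_2, 0, l0_K112_4, 0, l0_K112_6, 0, l0_K112_8, 0, l0_K112_10, 0, l0_K112_12, 0, l0_K112_14, 0, l0_K112_16, 0, l0_K112_18, 0, l0_K112_20, 0, l0_K112_22, 0] (fun D K => Nat.beq D l0_D2 && beqL K [l0_K113_0, 0, l0_K112_2, 0, l0_K113_4, 0, l0_K113_6, 0, l0_K113_8, 0, l0_K113_10, 0, l0_K113_12, 0, l0_K113_14, 0, l0_K113_16, 0, l0_K113_18, 0, l0_K113_20, 0, l0_K113_22, 0]) = true := by decide +kernel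
theorem l0_r114 : l0_E.run [4164, 84, 4180, 88, 96, 4192, 100, 4196, 104, 4200, 108, 4204, 112, 116, 120, 124, 4220, 128, 4224, 136, 4232, 140, 4236, 144, 4240, 148, 4244, 152, 4248, 156, 4252, 160, 4256, 164] l0_D2 [l0_K113_0, 0, l0_K112_2, 0, l0_K113_4, 0, l0_K113_6, 0, l0_K113_8, 0, l0_K113_10, 0, l0_K113_12, 0, l0_K113_14, 0, l0_K113_16, 0, l0_K113_18, 0, l0_K113_20, 0, l0_K113_22, 0] (fun D K => Nat.beq D l0_D2 && beqL K [l0_K114_0, 0, l0_K114_2, 0, l0_K114_4, 0, l0_K114_6, 0, l0_K114_8, 0, l0_K114_10, 0, l0_K114_12, 0, l0_K114_14, 0, l0_K114_16, 0, l0_K114_18, 0, l0_K114_20, 0, l0_K114_22, 0]) = true := by decide +kernel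
theorem l0_r115 : l0_E.run [4260, 172, 4268, 176, 4272, 180, 4276, 184, 4280, 188, 4284, 192, 4288, 196, 4292, 204, 208, 212, 216, 220, 224, 232, 236, 240, 248, 52, 4148, 4152, 4156, 64, 4160, 68, 72, 76] l0_D2 [l0_K114_0, 0, l0_K114_2, 0, l0_K114_4, 0, l0_K114_6, 0, l0_K114_8, 0, l0_K114_10, 0, l0_K114_12, 0, l0_K114_14, 0, l0_K114_16, 0, l0_K114_18, 0, l0_K114_20, 0, l0_K114_22, 0] (fun D K => Nat.beq D l0_D2 && beqL K [l0_K115_0, 0, l0_K114_2, 0, l0_K115_4, 0, l0_K115_6, 0, l0_K115_8, 0, l0_K115_10, 0, l0_K115_12, 0, l0_K115_14, 0, l0_K115_16, 0, l0_K115_18, 0, l0_K115_20, 0, l0_K115_22, 0]) = true := by decide +kernel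
theorem l0_r116 : l0_E.run [80, 84, 4180, 4184, 96, 100, 4196, 104, 4200, 108, 112, 116, 120, 124, 4232, 140, 4236, 144, 148, 152, 156, 160, 4268, 176, 180, 184, 204, 208, 212, 216, 220, 224, 248, 4156] l0_D2 [l0_K115_0, 0, l0_K114_2, 0, l0_K115_4, 0, l0_K115_6, 0, l0_K115_8, 0, l0_K115_10, 0, l0_K115_12, 0, l0_K115_14, 0, l0_K115_16, 0, l0_K115_18, 0, l0_K115_20, 0, l0_K115_22, 0] (fun D K => Nat.beq D l0_D2 && beqL K [l0_K116_0, 0, l0_K116_2, 0, l0_K116_4, 0, l0_K116_6, 0, l0_K116_8, 0, l0_K116_10, 0, l0_K115_12, 0, l0_K115_14, 0, l0_K115_16, 0, l0_K115_18, 0, l0_K116_20, 0, l0_K116_22, 0]) = true := by decide +kernel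
theorem l0_r117 : l0_E.run [4160, 104, 108, 4204, 112, 4208, 116, 4212, 4216, 4236, 4200, 168, 4264, 200, 4296, 228, 4324, 244, 4340, 252, 4348, 4368, 4384, 4152, 60, 68] l0_D2 [l0_K116_0, 0, l0_K116_2, 0, l0_K116_4, 0, l0_K116_6, 0, l0_K116_8, 0, l0_K116_10, 0, l0_K115_12, 0, l0_K115_14, 0, l0_K115_16, 0, l0_K115_18, 0, l0_K116_20, 0, l0_K116_22, 0] (fun D K => Nat.beq D l0_D2 && beqL K [l0_K117_0, 0, l0_K117_2, 0, l0_K116_4, 0, l0_K117_6, 0, l0_K117_8, 0, l0_K117_10, 0, l0_K117_12, 0, l0_K117_14, 0, l0_K117_16, 0, l0_K117_18, 0, l0_K117_20, 0, l0_K116_22, 0]) = true := by decide +kernel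
theorem l0_r118 : l0_E.run [4164, 72, 4168, 76, 80, 84, 4180, 88, 4184, 4192, 100, 108, 4204, 112, 4208, 116, 120, 124, 4220, 128, 4224, 136, 4232, 4236, 144, 148, 152, 156, 160, 4256, 164, 172, 4268, 176] l0_D2 [l0_K117_0, 0, l0_K117_2, 0, l0_K116_4, 0, l0_K117_6, 0, l0_K117_8, 0, l0_K117_10, 0, l0_K117_12, 0, l0_K117_14, 0, l0_K117_16, 0, l0_K117_18, 0, l0_K117_20, 0, l0_K116_22, 0] (fun D K => Nat.beq D l0_D2 && beqL K [l0_K118_0, 0, l0_K118_2, 0, l0_K118_4, 0, l0_K118_6, 0, l0_K118_8, 0, l0_K118_10, 0, l0_K118_12, 0, l0_K118_14, 0, l0_K117_16, 0, l0_K117_18, 0, l0_K118_20, 0, l0_K118_22, 0]) = true := by decide +kernel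
theorem l0_r119 : l0_E.run [4272, 180, 4276, 184, 188, 192, 196, 204, 4300, 208, 4304, 212, 216, 220, 4316, 224, 232, 236, 240, 248, 264, 268, 280, 284, 292, 296, 300, 304, 4148, 4152, 4156, 4160, 4200, 4236] l0_D2 [l0_K118_0, 0, l0_K118_2, 0, l0_K118_4, 0, l0_K118_6, 0, l0_K118_8, 0, l0_K118_10, 0, l0_K118_12, 0, l0_K118_14, 0, l0_K117_16, 0, l0_K117_18, 0, l0_K118_20, 0, l0_K118_22, 0] (fun D K => Nat.beq D l0_D2 && beqL K [l0_K118_0, 0, l0_K118_2, 0, l0_K119_4, 0, l0_K119_6, 0, l0_K119_8, 0, l0_K119_10, 0, l0_K119_12, 0, l0_K119_14, 0, l0_K119_16, 0, l0_K119_18, 0, l0_K119_20, 0, l0_K118_22, 0]) = true := by decide +kernel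
theorem l0_r120 : l0_E.run [316] l0_D2 [l0_K118_0, 0, l0_K118_2, 0, l0_K119_4, 0, l0_K119_6, 0, l0_K119_8, 0, l0_K119_10, 0, l0_K119_12, 0, l0_K119_14, 0, l0_K119_16, 0, l0_K119_18, 0, l0_K119_20, 0, l0_K118_22, 0] (fun D K => Nat.beq D l0_D2 && beqL K [l0_K118_0, 0, l0_K118_2, 0, l0_K119_4, 0, l0_K119_6, 0, l0_K119_8, 0, l0_K120_10, 0, l0_K119_12, 0, l0_K119_14, 0, l0_K119_16, 0, l0_K119_18, 0, l0_K119_20, 0, l0_K118_22, 0]) = true := by decide +kernel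
theorem l0_r121 : l0_E.run [4412] l0_D2 [l0_K118_0, 0, l0_K118_2, 0, l0_K119_4, 0, l0_K119_6, 0, l0_K119_8, 0, l0_K120_10, 0, l0_K119_12, 0, l0_K119_14, 0, l0_K119_16, 0, l0_K119_18, 0, l0_K119_20, 0, l0_K118_22, 0] (fun D K => Nat.beq D l0_D2 && beqL K [l0_K118_0, 0, l0_K118_2, 0, l0_K119_4, 0, l0_K119_6, 0, l0_K121_8, 0, l0_K120_10, 0, l0_K119_12, 0, l0_K119_14, 0, l0_K119_16, 0, l0_K119_18, 0, l0_K119_20, 0, l0_K118_22, 0]) = true := by decide +kernel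
theorem l0_r122 : l0_E.run [8508] l0_D2 [l0_K118_0, 0, l0_K118_2, 0, l0_K119_4, 0, l0_K119_6, 0, l0_K121_8, 0, l0_K120_10, 0, l0_K119_12, 0, l0_K119_14, 0, l0_K119_16, 0, l0_K119_18, 0, l0_K119_20, 0, l0_K118_22, 0] (fun D K => Nat.beq D l0_D2 && beqL K [l0_K118_0, 0, l0_K118_2, 0, l0_K119_4, 0, l0_K122_6, 0, l0_K121_8, 0, l0_K120_10, 0, l0_K119_12, 0, l0_K119_14, 0, l0_K119_16, 0, l0_K119_18, 0, l0_K119_20, 0, l0_K118_22, 0]) = true := by decide +kernel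
theorem l0_r123 : l0_E.run [12604] l0_D2 [l0_K118_0, 0, l0_K118_2, 0, l0_K119_4, 0, l0_K122_6, 0, l0_K121_8, 0, l0_K120_10, 0, l0_K119_12, 0, l0_K119_14, 0, l0_K119_16, 0, l0_K119_18, 0, l0_K119_20, 0, l0_K118_22, 0] (fun D K => Nat.beq D l0_D2 && beqL K [l0_K118_0, 0, l0_K118_2, 0, l0_K123_4, 0, l0_K122_6, 0, l0_K121_8, 0, l0_K120_10, 0, l0_K119_12, 0, l0_K119_14, 0, l0_K119_16, 0, l0_K119_18, 0, l0_K119_20, 0, l0_K118_22, 0]) = true := by decide +kernel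
theorem l0_r124 : l0_E.run [16700] l0_D2 [l0_K118_0, 0, l0_K118_2, 0, l0_K123_4, 0, l0_K122_6, 0, l0_K121_8, 0, l0_K120_10, 0, l0_K119_12, 0, l0_K119_14, 0, l0_K119_16, 0, l0_K119_18, 0, l0_K119_20, 0, l0_K118_22, 0] (fun D K => Nat.beq D l0_D2 && beqL K [l0_K118_0, 0, l0_K124_2, 0, l0_K123_4, 0, l0_K122_6, 0, l0_K121_8, 0, l0_K120_10, 0, l0_K119_12, 0, l0_K119_14, 0, l0_K119_16, 0, l0_K119_18, 0, l0_K119_20, 0, l0_K118_22, 0]) = true := by decide +kernel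
theorem l0_r125 : l0_E.run [24892] l0_D2 [l0_K118_0, 0, l0_K124_2, 0, l0_K123_4, 0, l0_K122_6, 0, l0_K121_8, 0, l0_K120_10, 0, l0_K119_12, 0, l0_K119_14, 0, l0_K119_16, 0, l0_K119_18, 0, l0_K119_20, 0, l0_K118_22, 0] (fun D K => Nat.beq D l0_D2 && beqL K [l0_K118_0, 0, l0_K124_2, 0, l0_K123_4, 0, l0_K122_6, 0, l0_K121_8, 0, l0_K125_10, 0, l0_K119_12, 0, l0_K119_14, 0, l0_K119_16, 0, l0_K119_18, 0, l0_K119_20, 0, l0_K118_22, 0]) = true := by decide +kernel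
theorem l0_r126 : l0_E.run [28988] l0_D2 [l0_K118_0, 0, l0_K124_2, 0, l0_K123_4, 0, l0_K122_6, 0, l0_K121_8, 0, l0_K125_10, 0, l0_K119_12, 0, l0_K119_14, 0, l0_K119_16, 0, l0_K119_18, 0, l0_K119_20, 0, l0_K118_22, 0] (fun D K => Nat.beq D l0_D2 && beqL K [l0_K118_0, 0, l0_K124_2, 0, l0_K123_4, 0, l0_K122_6, 0, l0_K121_8, 0, l0_K125_10, 0, l0_K126_12, 0, l0_K119_14, 0, l0_K119_16, 0, l0_K119_18, 0, l0_K119_20, 0, l0_K118_22, 0]) = true := by decide +kernel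
theorem l0_r127 : l0_E.run [33084] l0_D2 [l0_K118_0, 0, l0_K124_2, 0, l0_K123_4, 0, l0_K122_6, 0, l0_K121_8, 0, l0_K125_10, 0, l0_K126_12, 0, l0_K119_14, 0, l0_K119_16, 0, l0_K119_18, 0, l0_K119_20, 0, l0_K118_22, 0] (fun D K => Nat.beq D l0_D2 && beqL K [l0_K118_0, 0, l0_K124_2, 0, l0_K123_4, 0, l0_K122_6, 0, l0_K121_8, 0, l0_K125_10, 0, l0_K126_12, 0, l0_K127_14, 0, l0_K119_16, 0, l0_K119_18, 0, l0_K119_20, 0, l0_K118_22, 0]) = true := by decide +kernel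
theorem l0_r128 : l0_E.run [37180] l0_D2 [l0_K118_0, 0, l0_K124_2, 0, l0_K123_4, 0, l0_K122_6, 0, l0_K121_8, 0, l0_K125_10, 0, l0_K126_12, 0, l0_K127_14, 0, l0_K119_16, 0, l0_K119_18, 0, l0_K119_20, 0, l0_K118_22, 0] (fun D K => Nat.beq D l0_D2 && beqL K [l0_K118_0, 0, l0_K124_2, 0, l0_K123_4, 0, l0_K122_6, 0, l0_K121_8, 0, l0_K125_10, 0, l0_K126_12, 0, l0_K127_14, 0, l0_K128_16, 0, l0_K119_18, 0, l0_K119_20, 0, l0_K118_22, 0]) = true := by decide +kernel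
theorem l0_r129 : l0_E.run [41276] l0_D2 [l0_K118_0, 0, l0_K124_2, 0, l0_K123_4, 0, l0_K122_6, 0, l0_K121_8, 0, l0_K125_10, 0, l0_K126_12, 0, l0_K127_14, 0, l0_K128_16, 0, l0_K119_18, 0, l0_K119_20, 0, l0_K118_22, 0] (fun D K => Nat.beq D l0_D2 && beqL K [l0_K118_0, 0, l0_K124_2, 0, l0_K123_4, 0, l0_K122_6, 0, l0_K121_8, 0, l0_K125_10, 0, l0_K126_12, 0, l0_K127_14, 0, l0_K128_16, 0, l0_K129_18, 0, l0_K119_20, 0, l0_K118_22, 0]) = true := by decide +kernel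
theorem l0_r130 : l0_E.run [45372] l0_D2 [l0_K118_0, 0, l0_K124_2, 0, l0_K123_4, 0, l0_K122_6, 0, l0_K121_8, 0, l0_K125_10, 0, l0_K126_12, 0, l0_K127_14, 0, l0_K128_16, 0, l0_K129_18, 0, l0_K119_20, 0, l0_K118_22, 0] (fun D K => Nat.beq D l0_D2 && beqL K [l0_K118_0, 0, l0_K124_2, 0, l0_K123_4, 0, l0_K122_6, 0, l0_K121_8, 0, l0_K130_10, 0, l0_K126_12, 0, l0_K127_14, 0, l0_K128_16, 0, l0_K129_18, 0, l0_K119_20, 0, l0_K118_22, 0]) = true := by decide +kernel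
theorem l0_r131 : l0_E.run [49468] l0_D2 [l0_K118_0, 0, l0_K124_2, 0, l0_K123_4, 0, l0_K122_6, 0, l0_K121_8, 0, l0_K130_10, 0, l0_K126_12, 0, l0_K127_14, 0, l0_K128_16, 0, l0_K129_18, 0, l0_K119_20, 0, l0_K118_22, 0] (fun D K => Nat.beq D l0_D2 && beqL K [l0_K118_0, 0, l0_K124_2, 0, l0_K123_4, 0, l0_K122_6, 0, l0_K121_8, 0, l0_K130_10, 0, l0_K126_12, 0, l0_K127_14, 0, l0_K128_16, 0, l0_K129_18, 0, l0_K131_20, 0, l0_K118_22, 0]) = true := by decide +kernel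
theorem l0_r132 : l0_E.run [53564] l0_D2 [l0_K118_0, 0, l0_K124_2, 0, l0_K123_4, 0, l0_K122_6, 0, l0_K121_8, 0, l0_K130_10, 0, l0_K126_12, 0, l0_K127_14, 0, l0_K128_16, 0, l0_K129_18, 0, l0_K131_20, 0, l0_K118_22, 0] (fun D K => Nat.beq D l0_D2 && beqL K [l0_K118_0, 0, l0_K124_2, 0, l0_K123_4, 0, l0_K122_6, 0, l0_K121_8, 0, l0_K130_10, 0, l0_K126_12, 0, l0_K127_14, 0, l0_K128_16, 0, l0_K129_18, 0, l0_K131_20, 0, l0_K132_22, 0]) = true := by decide +kernel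
theorem l0_r133 : l0_E.run [4148, 4152, 4156, 4160, 4164, 4168, 4172, 4176, 4180, 4184, 96, 4192, 100, 4196, 104, 4200, 108, 4204, 112, 4208, 116, 4212, 120, 4216, 124, 4220, 4224, 136, 4232, 140, 4236, 144, 4240, 148] l0_D2 [l0_K118_0, 0, l0_K124_2, 0, l0_K123_4, 0, l0_K122_6, 0, l0_K121_8, 0, l0_K130_10, 0, l0_K126_12, 0, l0_K127_14, 0, l0_K128_16, 0, l0_K129_18, 0, l0_K131_20, 0, l0_K132_22, 0] (fun D K => Nat.beq D l0_D2 && beqL K [l0_K118_0, 0, l0_K133_2, 0, l0_K133_4, 0, l0_K133_6, 0, l0_K133_8, 0, l0_K133_10, 0, l0_K133_12, 0, l0_K133_14, 0, l0_K133_16, 0, l0_K133_18, 0, l0_K133_20, 0, l0_K133_22, 0]) = true := by decide +kernel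
theorem l0_r134 : l0_E.run [4244, 152, 4248, 156, 4252, 160, 4256, 164, 4260, 172, 4268, 176, 4272, 180, 4276, 184, 4280, 188, 4284, 192, 4288, 4292, 204, 4300, 208, 4304, 212, 4308, 216, 4312, 220, 4316, 224, 4320] l0_D2 [l0_K118_0, 0, l0_K133_2, 0, l0_K133_4, 0, l0_K133_6, 0, l0_K133_8, 0, l0_K133_10, 0, l0_K133_12, 0, l0_K133_14, 0, l0_K133_16, 0, l0_K133_18, 0, l0_K133_20, 0, l0_K133_22, 0] (fun D K => Nat.beq D l0_D2 && beqL K [l0_K118_0, 0, l0_K133_2, 0, l0_K134_4, 0, l0_K118_0, 0, l0_K118_0, 0, l0_K134_10, 0, l0_K134_12, 0, l0_K134_14, 0, l0_K134_16, 0, l0_K134_18, 0, l0_K134_20, 0, l0_K134_22, 0]) = true := by decide +kernel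
theorem l0_r135 : l0_E.run [232, 4328, 236, 4332, 240, 4336, 248, 4344, 256, 4352, 260, 4356, 264, 4360, 268, 4364, 276, 4372, 280, 4376, 284, 4380, 292, 4388, 296, 4392, 300, 4396, 304, 4400, 4160, 4176, 100, 136] l0_D2 [l0_K118_0, 0, l0_K133_2, 0, l0_K134_4, 0, l0_K118_0, 0, l0_K118_0, 0, l0_K134_10, 0, l0_K134_12, 0, l0_K134_14, 0, l0_K134_16, 0, l0_K134_18, 0, l0_K134_20, 0, l0_K134_22, 0] (fun D K => Nat.beq D l0_D2 && beqL K [l0_K118_0, 0, l0_K135_2, 0, l0_K118_0, 0, l0_K118_0, 0, l0_K118_0, 0, l0_K118_0, 0, l0_K118_0, 0, l0_K118_0, 0, l0_K118_0, 0, l0_K118_0, 0, l0_K118_0, 0, l0_K118_0, 0]) = true := by decide +kernel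
theorem l0_r136 : l0_E.run [96] l0_D2 [l0_K118_0, 0, l0_K135_2, 0, l0_K118_0, 0, l0_K118_0, 0, l0_K118_0, 0, l0_K118_0, 0, l0_K118_0, 0, l0_K118_0, 0, l0_K118_0, 0, l0_K118_0, 0, l0_K118_0, 0, l0_K118_0, 0] (Enum.done 306936 [0, 2, 4, 6, 8, 10, 12, 14, 16, 18, 20, 22]) = true := by decide +kernel

end Cfsg.Agent.Fi24C
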