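import Cfsg.Agent.Fi24C.L0_4
import Cfsg.Agent.Fi24C.L0_0
import Cfsg.Agent.Fi24C.L0_1
import Cfsg.Agent.Fi24C.L0_2
import Cfsg.Agent.Fi24C.L0_3

set_option autoImplicit false
set_option Elab.async false
set_option maxRecDepth 100000
set_option linter.all false

namespace Cfsg.Agent.Fi24C
open Cfsg.Agent.CGT

theorem l0_p : Holds (lp l0_ns) l0_R := ((holdsB_sound l0_v l0_p0).append ((holdsB_sound l0_v l0_p1).append ((holdsB_sound l0_v l0_p2).append ((holdsB_sound l0_v l0_p3).append ((holdsB_sound l0_v l0_p4).append ((holdsB_sound l0_v l0_p5).append ((holdsB_sound l0_v l0_p6).append ((holdsB_sound l0_v l0_p7).append ((holdsB_sound l0_v l0_p8).append ((holdsB_sound l0_v l0_p9).append ((holdsB_sound l0_v l0_p10).append ((holdsB_sound l0_v l0_p11).append ((holdsB_sound l0_v l0_p12).append ((holdsB_sound l0_v l0_p13).append ((holdsB_sound l0_v l0_p14).append ((holdsB_sound l0_v l0_p15).append ((holdsB_sound l0_v l0_p16).append ((holdsB_sound l0_v l0_p17).append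 ((holdsB_sound l0_v l0_p18).append ((holdsB_sound l0_v l0_p19).append ((holdsB_sound l0_v l0_p20).append ((holdsB_sound l0_v l0_p21).append ((holdsB_sound l0_v l0_p22).append ((holdsB_sound l0_v l0_p23).append ((holdsB_sound l0_v l0_p24).append ((holdsB_sound l0_v l0_p25).append ((holdsB_sound l0_v l0_p26).append ((holdsB_sound l0_v l0_p27).append ((holdsB_sound l0_v l0_p28).append ((holdsB_sound l0_v l0_p29).append ((holdsB_sound l0_v l0_p30).append ((holdsB_sound l0_v l0_p31).append ((holdsB_sound l0_v l0_p32).append ((holdsB_sound l0_v l0_p33).append ((holdsB_sound l0_v l0_p34).append ((holdsB_sound l0_v l0_p35).append ((holdsB_sound l0_v l0_p36).append ((holdsB_sound l0_v l0_p37).append ((holdsB_sound l0_v l0_p38).append ((holdsB_sound l0_v l0_p39).append ((holdsB_sound l0_v l0_p40).append ((holdsB_sound l0_v l0_p41).append ((holdsB_sound l0_v l0_p42).append ((holdsB_sound l0_v l0_p43).append ((holdsB_sound l0_v l0_p44).append ((holdsB_sound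 l0_v l0_p45).append ((holdsB_sound l0_v l0_p46).append ((holdsB_sound l0_v l0_p47).append ((holdsB_sound l0_v l0_p48).append ((holdsB_sound l0_v l0_p49).append ((holdsB_sound l0_v l0_p50).append ((holdsB_sound l0_v l0_p51).append ((holdsB_sound l0_v l0_p52).append ((holdsB_sound l0_v l0_p53).append ((holdsB_sound l0_v l0_p54).append ((holdsB_sound l0_v l0_p55).append ((holdsB_sound l0_v l0_p56).append ((holdsB_sound l0_v l0_p57).append ((holdsB_sound l0_v l0_p58).append ((holdsB_sound l0_v l0_p59).append ((holdsB_sound l0_v l0_p60).append ((holdsB_sound l0_v l0_p61).append ((holdsB_sound l0_v l0_p62).append ((holdsB_sound l0_v l0_p63).append ((holdsB_sound l0_v l0_p64).append ((holdsB_sound l0_v l0_p65).append ((holdsB_sound l0_v l0_p66).append ((holdsB_sound l0_v l0_p67).append ((holdsB_sound l0_v l0_p68).append ((holdsB_sound l0_v l0_p69).append ((holdsB_sound l0_v l0_p70).append ((holdsB_sound l0_v l0_p71).append ((holdsB_sound l0_v l0_p72).append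 ((holdsB_sound l0_v l0_p73).append (holdsB_sound l0_v l0_p74)))))))))))))))))))))))))))))))))))))))))))))))))))))))))))))))))))))))))))
theorem l0_fin {G : Type*} [Group G] {γ : ℕ → G} (hR : Holds (ext γ) l0_R) {H : Subgroup G}
    (hS : ∀ u ∈ l0_S0, ev (ext γ) u ∈ H) : l0_E.Fin γ H 306936 [0, 2, 4, 6, 8, 10, 12, 14, 16, 18, 20, 22] :=
  have hy : l0_E.Hyp γ H := Enum.hyp_of l0_v hR l0_p hS l0_f
  (Enum.fin_of_done hy (Enum.run_to hy (Enum.run_to hy (Enum.run_to hy (Enum.run_to hy (Enum.run_to hy (Enum.run_to hy (Enum.run_to hy (Enum.run_to hy (Enum.run_to hy (Enum.run_to hy (Enum.run_to hy (Enum.run_to hy (Enum.run_to hy (Enum.run_to hy (Enum.run_to hy (Enum.run_to hy (Enum.run_to hy (Enum.run_to hy (Enum.run_to hy (Enum.run_to hy (Enum.run_to hy (Enum.run_to hy (Enum.run_to hy (Enum.run_to hy (Enum.run_to hy (Enum.run_to hy (Enum.run_to hy (Enum.run_to hy (Enum.run_to hy (Enum.run_to hy (Enum.run_to hy (Enum.run_to hy (Enum.run_to hy (Enum.run_to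 hy (Enum.run_to hy (Enum.run_to hy (Enum.run_to hy (Enum.run_to hy (Enum.run_to hy (Enum.run_to hy (Enum.run_to hy (Enum.run_to hy (Enum.run_to hy (Enum.run_to hy (Enum.run_to hy (Enum.run_to hy (Enum.run_to hy (Enum.run_to hy (Enum.run_to hy (Enum.run_to hy (Enum.run_to hy (Enum.run_to hy (Enum.run_to hy (Enum.run_to hy (Enum.run_to hy (Enum.run_to hy (Enum.run_to hy (Enum.run_to hy (Enum.run_to hy (Enum.run_to hy (Enum.run_to hy (Enum.run_to hy (Enum.run_to hy (Enum.run_to hy (Enum.run_to hy (Enum.run_to hy (Enum.run_to hy (Enum.run_to hy (Enum.run_to hy (Enum.run_to hy (Enum.run_to hy (Enum.run_to hy (Enum.run_to hy (Enum.run_to hy (Enum.run_to hy (Enum.run_to hy (Enum.run_to hy (Enum.run_to hy (Enum.run_to hy (Enum.run_to hy (Enum.run_to hy (Enum.run_to hy (Enum.run_to hy (Enum.run_to hy (Enum.run_to hy (Enum.run_to hy (Enum.run_to hy (Enum.run_to hy (Enum.run_to hy (Enum.run_to hy (Enum.run_to hy (Enum.run_to hy (Enum.run_to hy (Enum.run_to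 hy (Enum.run_to hy (Enum.run_to hy (Enum.run_to hy (Enum.run_to hy (Enum.run_to hy (Enum.run_to hy (Enum.run_to hy (Enum.run_to hy (Enum.run_to hy (Enum.run_to hy (Enum.run_to hy (Enum.run_to hy (Enum.run_to hy (Enum.run_to hy (Enum.run_to hy (Enum.run_to hy (Enum.run_to hy (Enum.run_to hy (Enum.run_to hy (Enum.run_to hy (Enum.run_to hy (Enum.run_to hy (Enum.run_to hy (Enum.run_to hy (Enum.run_to hy (Enum.run_to hy (Enum.run_to hy (Enum.run_to hy (Enum.run_to hy (Enum.run_to hy (Enum.run_to hy (Enum.run_to hy (Enum.run_to hy (Enum.run_to hy (Enum.run_to hy (Enum.run_to hy (Enum.run_to hy (Enum.run_to hy (Enum.run_to hy (Enum.run_to hy (Enum.run_to hy (Enum.run_to hy (Enum.inv_init 24) l0_r0) l0_r1) l0_r2) l0_r3) l0_r4) l0_r5) l0_r6) l0_r7) l0_r8) l0_r9) l0_r10) l0_r11) l0_r12) l0_r13) l0_r14) l0_r15) l0_r16) l0_r17) l0_r18) l0_r19) l0_r20) l0_r21) l0_r22) l0_r23) l0_r24) l0_r25) l0_r26) l0_r27) l0_r28) l0_r29) l0_r30) l0_r31) l0_r32) l0_r33) l0_r34)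 l0_r35) l0_r36) l0_r37) l0_r38) l0_r39) l0_r40) l0_r41) l0_r42) l0_r43) l0_r44) l0_r45) l0_r46) l0_r47) l0_r48) l0_r49) l0_r50) l0_r51) l0_r52) l0_r53) l0_r54) l0_r55) l0_r56) l0_r57) l0_r58) l0_r59) l0_r60) l0_r61) l0_r62) l0_r63) l0_r64) l0_r65) l0_r66) l0_r67) l0_r68) l0_r69) l0_r70) l0_r71) l0_r72) l0_r73) l0_r74) l0_r75) l0_r76) l0_r77) l0_r78) l0_r79) l0_r80) l0_r81) l0_r82) l0_r83) l0_r84) l0_r85) l0_r86) l0_r87) l0_r88) l0_r89) l0_r90) l0_r91) l0_r92) l0_r93) l0_r94) l0_r95) l0_r96) l0_r97) l0_r98) l0_r99) l0_r100) l0_r101) l0_r102) l0_r103) l0_r104) l0_r105) l0_r106) l0_r107) l0_r108) l0_r109) l0_r110) l0_r111) l0_r112) l0_r113) l0_r114) l0_r115) l0_r116) l0_r117) l0_r118) l0_r119) l0_r120) l0_r121) l0_r122) l0_r123) l0_r124) l0_r125) l0_r126) l0_r127) l0_r128) l0_r129) l0_r130) l0_r131) l0_r132) l0_r133) l0_r134) l0_r135) l0_r136)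

end Cfsg.Agent.Fi24C
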