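import Cfsg.Agent.Fi24C.L0D11

set_option autoImplicit false
set_option Elab.async false
set_option maxRecDepth 100000
set_option linter.all false

namespace Cfsg.Agent.Fi24C
open Cfsg.Agent.CGT

noncomputable def l0_p72_w : List ℕ := [0, 20, 14, 12, 10, 8, 6, 4, 20, 14, 12, 10, 8, 6, 4, 20, 14, 12, 10, 8, 6, 4, 20, 14, 12, 10, 8, 6, 4, 20, 14, 12, 10, 8, 6, 4, 20, 14, 12, 10, 8, 6, 4, 20, 14, 12, 10, 8, 6, 4, 20, 14, 12, 10, 8, 6, 4, 20, 14, 12, 10, 8, 6, 4]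
theorem l0_p72_0 : Nat.beq (gatW l0_ns l0_p72_w (sl 0 19)) (gatW l0_ns [] (sl 0 19)) = true := by decide +kernel
theorem l0_p72_1 : Nat.beq (gatW l0_ns l0_p72_w (sl 1 19)) (gatW l0_ns [] (sl 1 19)) = true := by decide +kernel
theorem l0_p72_2 : Nat.beq (gatW l0_ns l0_p72_w (sl 2 19)) (gatW l0_ns [] (sl 2 19)) = true := by decide +kernel
theorem l0_p72_3 : Nat.beq (gatW l0_ns l0_p72_w (sl 3 19)) (gatW l0_ns [] (sl 3 19)) = true := by decide +kernel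
theorem l0_p72_4 : Nat.beq (gatW l0_ns l0_p72_w (sl 4 19)) (gatW l0_ns [] (sl 4 19)) = true := by decide +kernel
theorem l0_p72_5 : Nat.beq (gatW l0_ns l0_p72_w (sl 5 19)) (gatW l0_ns [] (sl 5 19)) = true := by decide +kernel
theorem l0_p72_6 : Nat.beq (gatW l0_ns l0_p72_w (sl 6 19)) (gatW l0_ns [] (sl 6 19)) = true := by decide +kernel
theorem l0_p72_7 : Nat.beq (gatW l0_ns l0_p72_w (sl 7 19)) (gatW l0_ns [] (sl 7 19)) = true := by decide +kernel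
theorem l0_p72_8 : Nat.beq (gatW l0_ns l0_p72_w (sl 8 19)) (gatW l0_ns [] (sl 8 19)) = true := by decide +kernel
theorem l0_p72_9 : Nat.beq (gatW l0_ns l0_p72_w (sl 9 19)) (gatW l0_ns [] (sl 9 19)) = true := by decide +kernel
theorem l0_p72_10 : Nat.beq (gatW l0_ns l0_p72_w (sl 10 19)) (gatW l0_ns [] (sl 10 19)) = true := by decide +kernel
theorem l0_p72_11 : Nat.beq (gatW l0_ns l0_p72_w (sl 11 19)) (gatW l0_ns [] (sl 11 19)) = true := by decide +kernel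
theorem l0_p72_12 : Nat.beq (gatW l0_ns l0_p72_w (sl 12 19)) (gatW l0_ns [] (sl 12 19)) = true := by decide +kernel
theorem l0_p72_13 : Nat.beq (gatW l0_ns l0_p72_w (sl 13 19)) (gatW l0_ns [] (sl 13 19)) = true := by decide +kernel
theorem l0_p72_14 : Nat.beq (gatW l0_ns l0_p72_w (sl 14 19)) (gatW l0_ns [] (sl 14 19)) = true := by decide +kernel
theorem l0_p72_15 : Nat.beq (gatW l0_ns l0_p72_w (sl 15 19)) (gatW l0_ns [] (sl 15 19)) = true := by decide +kernel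
theorem l0_p72_16 : Nat.beq (gatW l0_ns l0_p72_w (sl 16 19)) (gatW l0_ns [] (sl 16 19)) = true := by decide +kernel
theorem l0_p72_17 : Nat.beq (gatW l0_ns l0_p72_w (sl 17 19)) (gatW l0_ns [] (sl 17 19)) = true := by decide +kernel
theorem l0_p72_18 : Nat.beq (gatW l0_ns l0_p72_w (sl 18 19)) (gatW l0_ns [] (sl 18 19)) = true := by decide +kernel
theorem l0_p72 : holdsB 19 l0_ns [l0_p72_w] = true := allL_iff.2 fun r hr => by
  rw [List.mem_singleton.1 hr]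
  refine allLt_iff.2 fun j hj => ?_
  interval_cases j
  exacts [l0_p72_0, l0_p72_1, l0_p72_2, l0_p72_3, l0_p72_4, l0_p72_5, l0_p72_6, l0_p72_7, l0_p72_8, l0_p72_9, l0_p72_10, l0_p72_11, l0_p72_12, l0_p72_13, l0_p72_14, l0_p72_15, l0_p72_16, l0_p72_17, l0_p72_18]
noncomputable def l0_p73_w : List ℕ := [10, 8, 6, 4, 2, 0, 10, 12, 14, 16, 18, 10, 20, 22, 10, 8, 6, 4, 2, 0, 10, 12, 14, 16, 18, 10, 20, 22, 10, 8, 6, 4, 2, 0, 10, 12, 14, 16, 18, 10, 20, 22, 10, 8, 6, 4, 2, 0, 10, 12, 14, 16, 18, 10, 20, 22, 10, 8, 6, 4, 2, 0, 10, 12, 14, 16, 18, 10, 20, 22, 10, 8, 6, 4, 2, 0, 10, 12, 14, 16, 18, 10, 20, 22, 10, 8, 6, 4, 2, 0, 10, 12, 14, 16, 18, 10, 20, 22, 10, 8, 6, 4, 2, 0, 10, 12, 14, 16, 18, 10, 20, 22, 10, 8, 6, 4, 2, 0, 10, 12, 14, 16, 18, 10, 20, 22, 10, 8, 6, 4, 2, 0, 10, 12, 14, 16, 18, 10, 20, 22, 10, 8, 6, 4, 2, 0, 10, 12, 14, 16, 18, 10, 20, 22, 10, 8, 6, 4, 2, 0, 10, 12,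 14, 16, 18, 10, 20, 22, 10, 8, 6, 4, 2, 0, 10, 12, 14, 16, 18, 10, 20, 22, 10, 8, 6, 4, 2, 0, 10, 12, 14, 16, 18, 10, 20, 22, 10, 8, 6, 4, 2, 0, 10, 12, 14, 16, 18, 10, 20, 22, 10, 8, 6, 4, 2, 0, 10, 12, 14, 16, 18, 10, 20, 22, 10, 8, 6, 4, 2, 0, 10, 12, 14, 16, 18, 10, 20, 22]
theorem l0_p73_0 : Nat.beq (gatW l0_ns l0_p73_w (sl 0 19)) (gatW l0_ns [] (sl 0 19)) = true := by decide +kernel
theorem l0_p73_1 : Nat.beq (gatW l0_ns l0_p73_w (sl 1 19)) (gatW l0_ns [] (sl 1 19)) = true := by decide +kernel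
theorem l0_p73_2 : Nat.beq (gatW l0_ns l0_p73_w (sl 2 19)) (gatW l0_ns [] (sl 2 19)) = true := by decide +kernel
theorem l0_p73_3 : Nat.beq (gatW l0_ns l0_p73_w (sl 3 19)) (gatW l0_ns [] (sl 3 19)) = true := by decide +kernel
theorem l0_p73_4 : Nat.beq (gatW l0_ns l0_p73_w (sl 4 19)) (gatW l0_ns [] (sl 4 19)) = true := by decide +kernel
theorem l0_p73_5 : Nat.beq (gatW l0_ns l0_p73_w (sl 5 19)) (gatW l0_ns [] (sl 5 19)) = true := by decide +kernel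
theorem l0_p73_6 : Nat.beq (gatW l0_ns l0_p73_w (sl 6 19)) (gatW l0_ns [] (sl 6 19)) = true := by decide +kernel
theorem l0_p73_7 : Nat.beq (gatW l0_ns l0_p73_w (sl 7 19)) (gatW l0_ns [] (sl 7 19)) = true := by decide +kernel
theorem l0_p73_8 : Nat.beq (gatW l0_ns l0_p73_w (sl 8 19)) (gatW l0_ns [] (sl 8 19)) = true := by decide +kernel
theorem l0_p73_9 : Nat.beq (gatW l0_ns l0_p73_w (sl 9 19)) (gatW l0_ns [] (sl 9 19)) = true := by decide +kernel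
theorem l0_p73_10 : Nat.beq (gatW l0_ns l0_p73_w (sl 10 19)) (gatW l0_ns [] (sl 10 19)) = true := by decide +kernel
theorem l0_p73_11 : Nat.beq (gatW l0_ns l0_p73_w (sl 11 19)) (gatW l0_ns [] (sl 11 19)) = true := by decide +kernel
theorem l0_p73_12 : Nat.beq (gatW l0_ns l0_p73_w (sl 12 19)) (gatW l0_ns [] (sl 12 19)) = true := by decide +kernel
theorem l0_p73_13 : Nat.beq (gatW l0_ns l0_p73_w (sl 13 19)) (gatW l0_ns [] (sl 13 19)) = true := by decide +kernel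
theorem l0_p73_14 : Nat.beq (gatW l0_ns l0_p73_w (sl 14 19)) (gatW l0_ns [] (sl 14 19)) = true := by decide +kernel
theorem l0_p73_15 : Nat.beq (gatW l0_ns l0_p73_w (sl 15 19)) (gatW l0_ns [] (sl 15 19)) = true := by decide +kernel
theorem l0_p73_16 : Nat.beq (gatW l0_ns l0_p73_w (sl 16 19)) (gatW l0_ns [] (sl 16 19)) = true := by decide +kernel
theorem l0_p73_17 : Nat.beq (gatW l0_ns l0_p73_w (sl 17 19)) (gatW l0_ns [] (sl 17 19)) = true := by decide +kernel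
theorem l0_p73_18 : Nat.beq (gatW l0_ns l0_p73_w (sl 18 19)) (gatW l0_ns [] (sl 18 19)) = true := by decide +kernel
theorem l0_p73 : holdsB 19 l0_ns [l0_p73_w] = true := allL_iff.2 fun r hr => by
  rw [List.mem_singleton.1 hr]
  refine allLt_iff.2 fun j hj => ?_
  interval_cases j
  exacts [l0_p73_0, l0_p73_1, l0_p73_2, l0_p73_3, l0_p73_4, l0_p73_5, l0_p73_6, l0_p73_7, l0_p73_8, l0_p73_9, l0_p73_10, l0_p73_11, l0_p73_12, l0_p73_13, l0_p73_14, l0_p73_15, l0_p73_16, l0_p73_17, l0_p73_18]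
noncomputable def l0_p74_w : List ℕ := [10, 8, 6, 10, 12, 14, 10, 20, 22, 10, 8, 6, 10, 12, 14, 10, 20, 22, 10, 8, 6, 10, 12, 14, 10, 20, 22, 10, 8, 6, 10, 12, 14, 10, 20, 22, 10, 8, 6, 10, 12, 14, 10, 20, 22, 10, 8, 6, 10, 12, 14, 10, 20, 22, 10, 8, 6, 10, 12, 14, 10, 20, 22, 10, 8, 6, 10, 12, 14, 10, 20, 22, 10, 8, 6, 10, 12, 14, 10, 20, 22, 10, 8, 6, 10, 12, 14, 10, 20, 22]
theorem l0_p74_0 : Nat.beq (gatW l0_ns l0_p74_w (sl 0 19)) (gatW l0_ns [] (sl 0 19)) = true := by decide +kernel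
theorem l0_p74_1 : Nat.beq (gatW l0_ns l0_p74_w (sl 1 19)) (gatW l0_ns [] (sl 1 19)) = true := by decide +kernel
theorem l0_p74_2 : Nat.beq (gatW l0_ns l0_p74_w (sl 2 19)) (gatW l0_ns [] (sl 2 19)) = true := by decide +kernel
theorem l0_p74_3 : Nat.beq (gatW l0_ns l0_p74_w (sl 3 19)) (gatW l0_ns [] (sl 3 19)) = true := by decide +kernel
theorem l0_p74_4 : Nat.beq (gatW l0_ns l0_p74_w (sl 4 19)) (gatW l0_ns [] (sl 4 19)) = true := by decide +kernel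
theorem l0_p74_5 : Nat.beq (gatW l0_ns l0_p74_w (sl 5 19)) (gatW l0_ns [] (sl 5 19)) = true := by decide +kernel
theorem l0_p74_6 : Nat.beq (gatW l0_ns l0_p74_w (sl 6 19)) (gatW l0_ns [] (sl 6 19)) = true := by decide +kernel
theorem l0_p74_7 : Nat.beq (gatW l0_ns l0_p74_w (sl 7 19)) (gatW l0_ns [] (sl 7 19)) = true := by decide +kernel
theorem l0_p74_8 : Nat.beq (gatW l0_ns l0_p74_w (sl 8 19)) (gatW l0_ns [] (sl 8 19)) = true := by decide +kernel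
theorem l0_p74_9 : Nat.beq (gatW l0_ns l0_p74_w (sl 9 19)) (gatW l0_ns [] (sl 9 19)) = true := by decide +kernel
theorem l0_p74_10 : Nat.beq (gatW l0_ns l0_p74_w (sl 10 19)) (gatW l0_ns [] (sl 10 19)) = true := by decide +kernel
theorem l0_p74_11 : Nat.beq (gatW l0_ns l0_p74_w (sl 11 19)) (gatW l0_ns [] (sl 11 19)) = true := by decide +kernel
theorem l0_p74_12 : Nat.beq (gatW l0_ns l0_p74_w (sl 12 19)) (gatW l0_ns [] (sl 12 19)) = true := by decide +kernel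
theorem l0_p74_13 : Nat.beq (gatW l0_ns l0_p74_w (sl 13 19)) (gatW l0_ns [] (sl 13 19)) = true := by decide +kernel
theorem l0_p74_14 : Nat.beq (gatW l0_ns l0_p74_w (sl 14 19)) (gatW l0_ns [] (sl 14 19)) = true := by decide +kernel
theorem l0_p74_15 : Nat.beq (gatW l0_ns l0_p74_w (sl 15 19)) (gatW l0_ns [] (sl 15 19)) = true := by decide +kernel
theorem l0_p74_16 : Nat.beq (gatW l0_ns l0_p74_w (sl 16 19)) (gatW l0_ns [] (sl 16 19)) = true := by decide +kernel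
theorem l0_p74_17 : Nat.beq (gatW l0_ns l0_p74_w (sl 17 19)) (gatW l0_ns [] (sl 17 19)) = true := by decide +kernel
theorem l0_p74_18 : Nat.beq (gatW l0_ns l0_p74_w (sl 18 19)) (gatW l0_ns [] (sl 18 19)) = true := by decide +kernel
theorem l0_p74 : holdsB 19 l0_ns [l0_p74_w] = true := allL_iff.2 fun r hr => by
  rw [List.mem_singleton.1 hr]
  refine allLt_iff.2 fun j hj => ?_
  interval_cases j
  exacts [l0_p74_0, l0_p74_1, l0_p74_2, l0_p74_3, l0_p74_4, l0_p74_5, l0_p74_6, l0_p74_7, l0_p74_8, l0_p74_9, l0_p74_10, l0_p74_11, l0_p74_12, l0_p74_13, l0_p74_14, l0_p74_15, l0_p74_16, l0_p74_17, l0_p74_18]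

end Cfsg.Agent.Fi24C
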