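import Cfsg.Agent.Fi24C.OutX
import Cfsg.Agent.Fi24C.OutK
import Cfsg.Agent.Fi24C.OutG

set_option autoImplicit false
set_option Elab.async false
set_option maxRecDepth 100000
set_option linter.all false

namespace Cfsg.Agent.Fi24C
open Cfsg.Agent.CGT

noncomputable def bW : List (List ℕ) := [[1], [3], [5], [7], [9], [11], [13], [15], [17], [19], [21]]
theorem od_s : od.second bW [1, 18, 10, 4, 14, 6, 8, 18, 20, 2, 4, 6, 8, 18, 12, 14, 8, 10, 12, 6, 8, 10, 2, 4, 6, 8, 18, 20, 18, 14, 12, 8, 10, 4, 6, 8, 18, 16, 14, 12, 10, 8, 6, 4, 2, 0, 16, 14, 10, 12, 8, 10, 6, 8, 18, 20, 4, 2, 10, 14, 12, 8, 6, 4, 10, 8, 6, 18, 8, 10, 12, 14, 16, 10, 12, 8, 10, 4, 6, 8, 18, 20, 12, 8, 10, 6, 8, 18, 4, 6, 8, 10, 12, 14, 18, 20, 10, 8, 18, 12, 10, 8, 6, 2, 4, 20, 2, 4, 6, 8, 10, 18, 2, 4, 6, 8, 10, 18, 2, 4, 6, 8, 10, 18, 2,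 4, 6, 8, 10, 18, 2, 4, 6, 8, 10, 12, 8, 10, 6, 8, 18, 20, 8, 10, 12, 6, 8, 18, 8] [8, 1, 10, 12, 6, 8, 10, 2, 4, 6, 8, 18, 20, 10, 12, 8, 10, 4, 6, 8, 18, 14, 12, 10, 8, 6, 4, 2, 1, 6, 20, 4, 18, 8, 6, 4, 10, 8, 18, 12, 10, 8, 6, 2, 4, 6, 8, 10, 18, 20, 8, 6, 18, 8, 10, 12, 14, 16, 10, 8, 18, 20, 6, 8, 18, 10, 12, 8, 10, 6, 8, 18, 20, 14, 12, 8, 18, 6, 8, 10, 4, 6, 8, 18, 2, 4, 6, 8, 10, 12, 14, 10, 8, 18, 12, 10, 8, 6, 4, 6, 8, 10, 12, 2, 4, 6, 8, 10, 18, 2, 4, 6, 8, 10, 18, 2, 4, 6, 8, 10, 18, 2, 4, 6, 8, 10, 18, 2, 4, 6, 8, 10, 18, 20, 10, 8, 18, 2, 8, 10, 6] [8, 16, 6, 8, 18, 20, 10, 12, 8, 10, 6, 8, 18, 14, 12, 4, 6, 8, 10, 2, 4, 6, 8, 18, 20, 12, 10, 4, 6, 8, 18, 16, 14, 12, 10, 8, 6, 4, 2, 1, 20, 14, 10, 12, 8, 10, 6, 8, 18, 8, 6, 4, 10, 8, 6, 2, 4, 16, 14, 6, 8, 12, 10, 18, 20, 8, 6, 18, 8, 10, 12,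 14, 16, 8, 10, 4, 6, 8, 18, 20, 10, 4, 6, 8, 18, 12, 14, 10, 12, 6, 8, 10, 2, 4, 6, 8, 18, 20, 14, 12, 6, 8, 10, 4, 6, 8, 18, 2, 4, 6, 8, 10, 12, 14, 18, 12, 10, 8, 4, 6, 2, 4, 8, 18, 10, 12, 8, 10, 6, 8, 18, 20, 8, 10, 12, 8, 18, 2, 10, 8, 6, 8] = true := by decide +kernel
theorem od_o : od.outer [8, 1, 10, 12, 6, 8, 10, 2, 4, 6, 8, 18, 20, 10, 12, 8, 10, 4, 6, 8, 18, 14, 12, 10, 8, 6, 4, 2, 1, 6, 20, 4, 18, 8, 6, 4, 10, 8, 18, 12, 10, 8, 6, 2, 4, 6, 8, 10, 18, 20, 8, 6, 18, 8, 10, 12, 14, 16, 10, 8, 18, 20, 6, 8, 18, 10, 12, 8, 10, 6, 8, 18, 20, 14, 12, 8, 18, 6, 8, 10, 4, 6, 8, 18, 2, 4, 6, 8, 10, 12, 14, 10, 8, 18, 12, 10, 8, 6, 4, 6, 8, 10, 12, 2, 4, 6, 8, 10, 18, 2, 4, 6, 8, 10, 18, 2, 4, 6, 8, 10, 18, 2, 4, 6, 8, 10, 18, 2, 4, 6, 8, 10, 18, 20, 10, 8, 18, 2, 8, 10, 6] [8, 16, 6, 8, 18, 20, 10, 12, 8,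 10, 6, 8, 18, 14, 12, 4, 6, 8, 10, 2, 4, 6, 8, 18, 20, 12, 10, 4, 6, 8, 18, 16, 14, 12, 10, 8, 6, 4, 2, 1, 20, 14, 10, 12, 8, 10, 6, 8, 18, 8, 6, 4, 10, 8, 6, 2, 4, 16, 14, 6, 8, 12, 10, 18, 20, 8, 6, 18, 8, 10, 12, 14, 16, 8, 10, 4, 6, 8, 18, 20, 10, 4, 6, 8, 18, 12, 14, 10, 12, 6, 8, 10, 2, 4, 6, 8, 18, 20, 14, 12, 6, 8, 10, 4, 6, 8, 18, 2, 4, 6, 8, 10, 12, 14, 18, 12, 10, 8, 4, 6, 2, 4, 8, 18, 10, 12, 8, 10, 6, 8, 18, 20, 8, 10, 12, 8, 18, 2, 10, 8, 6, 8] ([] :: od.Cl) [[1, 1, 1, 1, 1, 1, 1, 1, 1, 1, 1, 1, 1, 1], [1, 1, 1, 1, 1, 1, 1, 1, 1, 1, 1, 1, 1, 1], [1, 1, 1, 1, 1, 1, 1, 1, 1, 1, 1, 1, 1, 1]] = true := by decide +kernel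
theorem out_card {G : Type*} [Group G] {φ : G →* Equiv.Perm ℕ} {γ : ℕ → G} (C : Cert φ γ 19 m_ns m_ts [0, 2, 4, 6, 8, 10, 12, 14, 16, 18, 20] c_ls)
    (hN : Nat.card G = 1255205709190661721292800) (β : MulAut G) (hβ : ∀ j, β (γ j) = wg γ bW j) : Nat.card (Cfsg.Out G) = 2 :=
  haveI := C.fin
  OutD.out_two (D := od) C.M C.base hN (by norm_num [od]) od_b (cx_cent C) ((cu_cent C).conj C.M C.base od_c)
    (by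
    intro k hk
    simp only [od, List.mem_cons, List.not_mem_nil, or_false] at hk
    rcases hk with rfl | rfl
    exacts [forall_of_take (forall_take_step (c := 3) (forall_take_step (c := 2) (forall_take_step (c := 1) (forall_take_zero _) (OutD.cands_sound C.M C.base od_b od_k1_0) rfl) (OutD.cands_sound C.M C.base od_b od_k1_1) rfl) (OutD.cands_sound C.M C.base od_b od_k1_2) rfl) (by decide +kernel), forall_of_take (forall_take_step (c := 3) (forall_take_step (c := 2) (forall_take_step (c := 1) (forall_take_zero _) (OutD.cands_sound C.M C.base od_b od_k2_0) rfl) (OutD.cands_sound C.M C.base od_b od_k2_1) rfl) (OutD.cands_sound C.M C.base od_b od_k2_2) rfl) (by decide +kernel)]) (g_top C) rfl β hβ od_s od_o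
theorem out_eq : Nat.card (Cfsg.Out Cfsg.Spor.Fi24') = 2 := by
  obtain ⟨φ, C⟩ := cert
  refine out_card C card_eq (MulAut.conjNormal (δ 0)) fun j => ?_
  by_cases hj : j < 11
  · have h : wg γ bW j = (γ j)⁻¹ := by
      have h1 : nth [] bW j = [2 * j + 1] := by interval_cases j <;> rfl
      rw [wg, h1, ev_singleton, ext_two_mul_add_one]
    refine h ▸ Subtype.ext ?_
    rw [MulAut.conjNormal_apply, Subgroup.coe_inv, gam_val j hj, ← mul_assoc, sq 0 (by decide), one_mul,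
      mul_inv_rev, inv_eq_of_mul_eq_one_right (sq (j + 1) (by omega))]
  · rw [gam1 j (by omega), map_one, wg, nth_eq, List.getD_eq_default bW _ (show 11 ≤ j by omega)]; rfl

end Cfsg.Agent.Fi24C
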