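import Cfsg.Agent.Fi24C.OutUD0
import Cfsg.Agent.Fi24C.OutU_1

set_option autoImplicit false
set_option Elab.async false
set_option maxRecDepth 100000
set_option linter.all false

namespace Cfsg.Agent.Fi24C
open Cfsg.Agent.CGT

theorem cu_r37 : cu_S.run (.cons [14, 1, 12, 6, 8, 10, 2, 4, 6, 8, 18, 20, 8, 10, 6, 8, 18, 16, 14, 12, 10, 8, 6, 4, 2, 1] (.cons [18, 0, 2, 4, 6, 16, 12, 8, 10, 6, 8, 4, 6, 16, 18, 2, 0, 14, 12, 10, 4, 2, 8, 6, 4, 16, 6, 8, 10, 12, 14] (.cons [6, 14, 2, 0, 10, 8, 6, 8] (.cons [0, 2, 2, 0, 0, 0, 3, 0, 3] (.cons [2, 0, 3, 1, 3, 1, 2, 0, 3] .nil .nil) .nil) .nil) .nil) (.cons [14, 1, 10, 12, 8, 10, 2, 4, 6, 8, 18, 20, 8, 10, 6, 8, 18, 16, 14, 12, 10, 8, 6, 4, 2, 1] .nil (.cons [14, 12, 4, 6, 8, 10,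 2, 4, 6, 8, 18, 20, 8, 10, 6, 8, 18, 16, 14, 12, 10, 8, 6, 4, 2, 1] .nil (.cons [1, 10, 12, 6, 8, 10, 2, 4, 6, 8, 18, 20, 8, 10, 6, 8, 18, 16, 14, 12, 10, 8, 6, 4, 2, 1] .nil (.cons [8, 10, 12, 6, 8, 10, 2, 4, 6, 8, 18, 20, 8, 10, 6, 8, 18, 16, 14, 12, 10, 8, 6, 4, 2, 1] .nil (.cons [12, 14, 10, 12, 8, 10, 2, 4, 6, 8, 18, 20, 8, 10, 6, 8, 18, 16, 14, 12, 10, 8, 6, 4, 2, 1] .nil (.cons [1, 8, 10, 12, 6, 8, 10, 4, 6, 8, 18, 20, 8, 10, 6, 8, 18, 16, 14, 12, 10, 8, 6, 4, 2, 1] .nil (.cons [1, 12, 14, 10, 12, 8, 10, 4, 6, 8, 18, 20, 8, 10, 6, 8, 18, 16, 14, 12, 10, 8, 6, 4, 2, 1] .nil (.cons [12, 1, 6, 8, 10, 2, 4, 6, 8, 18, 20, 14, 12, 10, 6, 8, 18, 16, 14, 12, 10, 8, 6, 4, 2, 1] .nil (.cons [18, 1, 6, 8, 10, 2, 4, 6, 8, 18,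 20, 14, 12, 10, 6, 8, 18, 16, 14, 12, 10, 8, 6, 4, 2, 1] .nil (.cons [10, 1, 12, 8, 10, 2, 4, 6, 8, 18, 20, 14, 12, 10, 6, 8, 18, 16, 14, 12, 10, 8, 6, 4, 2, 1] .nil (.cons [1, 4, 6, 8, 10, 2, 4, 6, 8, 18, 20, 14, 12, 10, 6, 8, 18, 16, 14, 12, 10, 8, 6, 4, 2, 1] .nil (.cons [12, 4, 6, 8, 10, 2, 4, 6, 8, 18, 20, 14, 12, 10, 6, 8, 18, 16, 14, 12, 10, 8, 6, 4, 2, 1] .nil (.cons [8, 18, 6, 8, 10, 2, 4, 6, 8, 18, 20, 14, 12, 10, 6, 8, 18, 16, 14, 12, 10, 8, 6, 4, 2, 1] .nil (.cons [1, 10, 12, 8, 10, 2, 4, 6, 8, 18, 20, 14, 12, 10, 6, 8, 18, 16, 14, 12, 10, 8, 6, 4, 2, 1] .nil (.cons [14, 10, 12, 8, 10, 2, 4, 6, 8, 18, 20, 14, 12, 10, 6, 8, 18, 16, 14, 12, 10, 8, 6, 4, 2, 1] .nil (.cons [1, 14, 12, 8, 10, 2, 4, 6, 8, 18, 20,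 14, 12, 10, 6, 8, 18, 16, 14, 12, 10, 8, 6, 4, 2, 1] (.cons [2, 4, 6, 16, 18, 8, 4, 6, 16, 14, 10, 12, 8, 10, 4, 6, 8, 2, 4, 6, 16, 18, 4, 2, 0, 10, 16, 6, 4, 2, 8, 6, 4, 16, 6, 8, 10, 12, 14] (.cons [2, 0, 2, 10, 12, 8, 6, 4, 2, 0, 14, 6, 8, 16] (.cons [0, 0, 0, 2, 1, 1, 1, 3, 3, 1, 1] .nil .nil) .nil) .nil) (.cons [16, 14, 12, 8, 10, 2, 4, 6, 8, 18, 20, 14, 12, 10, 6, 8, 18, 16, 14, 12, 10, 8, 6, 4, 2, 1] (.cons [6, 4, 2, 10, 8, 6, 4, 14, 12, 10, 8, 6, 16, 18, 4, 2, 0, 10, 6, 4, 2, 8, 6, 4, 16, 6, 8, 10, 12, 14] (.cons [10, 2, 14, 6, 8, 4, 6, 14, 2, 4, 0] (.cons [3, 0, 0, 2, 2, 0, 0, 2] (.cons [1, 2, 1, 3, 0, 2, 2, 1] .nil .nil) .nil) .nil) .nil) (.cons [18, 14, 12, 8, 10, 2, 4, 6, 8, 18, 20, 14, 12, 10, 6, 8, 18, 16,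 14, 12, 10, 8, 6, 4, 2, 1] .nil (.cons [14, 10, 12, 6, 8, 10, 4, 6, 8, 18, 20, 14, 12, 10, 6, 8, 18, 16, 14, 12, 10, 8, 6, 4, 2, 1] .nil (.cons [18, 10, 12, 6, 8, 10, 4, 6, 8, 18, 20, 14, 12, 10, 6, 8, 18, 16, 14, 12, 10, 8, 6, 4, 2, 1] .nil (.cons [1, 14, 12, 6, 8, 10, 4, 6, 8, 18, 20, 14, 12, 10, 6, 8, 18, 16, 14, 12, 10, 8, 6, 4, 2, 1] .nil (.cons [16, 14, 12, 6, 8, 10, 4, 6, 8, 18, 20, 14, 12, 10, 6, 8, 18, 16, 14, 12, 10, 8, 6, 4, 2, 1] .nil (.cons [1, 18, 12, 6, 8, 10, 4, 6, 8, 18, 20, 14, 12, 10, 6, 8, 18, 16, 14, 12, 10, 8, 6, 4, 2, 1] .nil (.cons [20, 18, 12, 6, 8, 10, 4, 6, 8, 18, 20, 14, 12, 10, 6, 8, 18, 16, 14, 12, 10, 8, 6, 4, 2, 1] .nil (.cons [10, 8, 18, 6, 8, 10, 4, 6, 8, 18, 20, 14, 12, 10, 6, 8, 18, 16,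 14, 12, 10, 8, 6, 4, 2, 1] .nil (.cons [20, 18, 10, 12, 8, 10, 4, 6, 8, 18, 20, 14, 12, 10, 6, 8, 18, 16, 14, 12, 10, 8, 6, 4, 2, 1] .nil (.cons [18, 16, 14, 12, 8, 10, 4, 6, 8, 18, 20, 14, 12, 10, 6, 8, 18, 16, 14, 12, 10, 8, 6, 4, 2, 1] .nil (.cons [1, 18, 14, 12, 8, 10, 4, 6, 8, 18, 20, 14, 12, 10, 6, 8, 18, 16, 14, 12, 10, 8, 6, 4, 2, 1] .nil (.cons [20, 18, 14, 12, 8, 10, 4, 6, 8, 18, 20, 14, 12, 10, 6, 8, 18, 16, 14, 12, 10, 8, 6, 4, 2, 1] .nil (.cons [1, 18, 14, 10, 12, 8, 10, 6, 8, 18, 20, 14, 12, 10, 6, 8, 18, 16, 14, 12, 10, 8, 6, 4, 2, 1] .nil (.cons [8, 18, 14, 10, 12, 8, 10, 6, 8, 18, 20, 14, 12, 10, 6, 8, 18, 16, 14, 12, 10, 8, 6, 4, 2, 1] .nil (.cons [1, 8, 18, 10, 12, 8, 10, 6, 8, 18, 20, 14, 12, 10, 6,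 8, 18, 16, 14, 12, 10, 8, 6, 4, 2, 1] .nil (.cons [20, 8, 18, 10, 12, 8, 10, 6, 8, 18, 20, 14, 12, 10, 6, 8, 18, 16, 14, 12, 10, 8, 6, 4, 2, 1] .nil (.cons [1, 20, 18, 14, 12, 8, 10, 6, 8, 18, 20, 14, 12, 10, 6, 8, 18, 16, 14, 12, 10, 8, 6, 4, 2, 1] .nil (.cons [12, 1, 4, 6, 8, 10, 2, 4, 6, 8, 18, 20, 12, 10, 6, 8, 18, 16, 14, 12, 10, 8, 6, 4, 2, 1] .nil (.cons [14, 1, 12, 6, 8, 10, 2, 4, 6, 8, 18, 20, 12, 10, 6, 8, 18, 16, 14, 12, 10, 8, 6, 4, 2, 1] .nil (.cons [8, 1, 18, 6, 8, 10, 2, 4, 6, 8, 18, 20, 12, 10, 6, 8, 18, 16, 14, 12, 10, 8, 6, 4, 2, 1] .nil (.cons [1, 12, 4, 6, 8, 10, 2, 4, 6, 8, 18, 20, 12, 10, 6, 8, 18, 16, 14, 12, 10, 8, 6, 4, 2, 1] .nil (.cons [14, 12, 4, 6, 8, 10, 2, 4, 6, 8, 18, 20, 12, 10, 6, 8, 18,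 16, 14, 12, 10, 8, 6, 4, 2, 1] .nil (.cons [18, 12, 4, 6, 8, 10, 2, 4, 6, 8, 18, 20, 12, 10, 6, 8, 18, 16, 14, 12, 10, 8, 6, 4, 2, 1] .nil (.cons [1, 14, 12, 6, 8, 10, 2, 4, 6, 8, 18, 20, 12, 10, 6, 8, 18, 16, 14, 12, 10, 8, 6, 4, 2, 1] .nil (.cons [16, 14, 12, 6, 8, 10, 2, 4, 6, 8, 18, 20, 12, 10, 6, 8, 18, 16, 14, 12, 10, 8, 6, 4, 2, 1] .nil (.cons [18, 14, 12, 6, 8, 10, 2, 4, 6, 8, 18, 20, 12, 10, 6, 8, 18, 16, 14, 12, 10, 8, 6, 4, 2, 1] .nil (.cons [10, 8, 18, 6, 8, 10, 2, 4, 6, 8, 18, 20, 12, 10, 6, 8, 18, 16, 14, 12, 10, 8, 6, 4, 2, 1] .nil (.cons [1, 16, 14, 12, 6, 8, 10, 4, 6, 8, 18, 20, 12, 10, 6, 8, 18, 16, 14, 12, 10, 8, 6, 4, 2, 1] .nil (.cons [18, 16, 14, 12, 6, 8, 10, 4, 6, 8, 18, 20, 12, 10, 6, 8, 18, 16,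 14, 12, 10, 8, 6, 4, 2, 1] (.cons [10, 8, 6, 16, 10, 4, 6, 8, 2, 4, 6, 16, 18, 4, 2, 0, 10, 16, 6, 4, 2, 8, 6, 4, 16, 6, 8, 10, 12, 14] (.cons [10, 8, 6, 12, 10, 4, 8, 6, 14, 8] (.cons [2, 1, 1, 2, 0, 3, 1, 3, 1] (.cons [3, 1, 3, 1, 2, 0, 2, 0] .nil .nil) .nil) .nil) .nil) (.cons [1, 18, 14, 12, 6, 8, 10, 4, 6, 8, 18, 20, 12, 10, 6, 8, 18, 16, 14, 12, 10, 8, 6, 4, 2, 1] (.cons [6, 16, 18, 2, 4, 6, 16, 10, 12, 6, 8, 10, 4, 6, 8, 2, 4, 6, 16, 18, 2, 0, 12, 10, 16, 6, 4, 2, 8, 6, 4, 16, 6, 8, 10, 12, 14] (.cons [6, 0, 4, 6, 14, 2, 4, 0, 10, 8, 6, 8] (.cons [1, 2, 0, 3, 0, 3, 0, 0] (.cons [2, 0, 2, 1, 1, 3, 1, 3, 0, 2] .nil .nil) .nil) .nil) .nil) (.cons [8, 18, 14, 12, 6, 8, 10, 4, 6, 8, 18, 20, 12, 10, 6, 8, 18, 16, 14, 12,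 10, 8, 6, 4, 2, 1] .nil (.cons [20, 8, 18, 12, 6, 8, 10, 4, 6, 8, 18, 20, 12, 10, 6, 8, 18, 16, 14, 12, 10, 8, 6, 4, 2, 1] .nil (.cons [1, 10, 8, 18, 6, 8, 10, 4, 6, 8, 18, 20, 12, 10, 6, 8, 18, 16, 14, 12, 10, 8, 6, 4, 2, 1] .nil (.cons [12, 10, 8, 18, 6, 8, 10, 4, 6, 8, 18, 20, 12, 10, 6, 8, 18, 16, 14, 12, 10, 8, 6, 4, 2, 1] (.cons [18, 2, 0, 14, 10, 8, 12, 10, 16, 6, 4, 2, 8, 6, 4, 16, 6, 8, 10, 12, 14] (.cons [6, 4, 2, 0, 6, 8, 16] (.cons [2, 0, 0, 0, 3, 3, 1, 3] (.cons [3, 0, 3, 0, 0, 3, 0, 0, 3, 1, 3] .nil .nil) .nil) .nil) .nil) (.cons [18, 20, 8, 18, 6, 8, 10, 4, 6, 8, 18, 20, 12, 10, 6, 8, 18, 16, 14, 12, 10, 8, 6, 4, 2, 1] .nil (.cons [1, 18, 16, 14, 12, 8, 10, 4, 6, 8, 18, 20, 12, 10, 6, 8, 18, 16, 14, 12, 10,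 8, 6, 4, 2, 1] .nil (.cons [1, 20, 18, 16, 14, 12, 8, 10, 6, 8, 18, 20, 12, 10, 6, 8, 18, 16, 14, 12, 10, 8, 6, 4, 2, 1] .nil (.cons [2, 1, 4, 6, 8, 10, 2, 4, 6, 8, 18, 20, 14, 12, 10, 8, 18, 16, 14, 12, 10, 8, 6, 4, 2, 1] .nil (.cons [12, 1, 4, 6, 8, 10, 2, 4, 6, 8, 18, 20, 14, 12, 10, 8, 18, 16, 14, 12, 10, 8, 6, 4, 2, 1] .nil (.cons [10, 1, 12, 6, 8, 10, 2, 4, 6, 8, 18, 20, 14, 12, 10, 8, 18, 16, 14, 12, 10, 8, 6, 4, 2, 1] (.cons [18, 0, 2, 4, 6, 16, 8, 10, 4, 6, 8, 2, 4, 6, 16, 18, 2, 0, 12, 10, 6, 4, 2, 8, 6, 4, 16, 6, 8, 10, 12, 14] (.cons [6, 0, 2, 4, 12, 8, 6, 14] (.cons [2, 0, 2, 2, 0, 3, 1, 1, 1] (.cons [0, 2, 1, 3, 0, 3, 1, 1, 3] .nil .nil) .nil) .nil) .nil) (.cons [18, 1, 10, 12, 8, 10, 2, 4, 6, 8, 18, 20, 14,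 12, 10, 8, 18, 16, 14, 12, 10, 8, 6, 4, 2, 1] .nil (.cons [18, 12, 4, 6, 8, 10, 2, 4, 6, 8, 18, 20, 14, 12, 10, 8, 18, 16, 14, 12, 10, 8, 6, 4, 2, 1] .nil (.cons [1, 10, 12, 6, 8, 10, 2, 4, 6, 8, 18, 20, 14, 12, 10, 8, 18, 16, 14, 12, 10, 8, 6, 4, 2, 1] .nil (.cons [8, 10, 12, 6, 8, 10, 2, 4, 6, 8, 18, 20, 14, 12, 10, 8, 18, 16, 14, 12, 10, 8, 6, 4, 2, 1] .nil (.cons [8, 18, 12, 6, 8, 10, 2, 4, 6, 8, 18, 20, 14, 12, 10, 8, 18, 16, 14, 12, 10, 8, 6, 4, 2, 1] .nil (.cons [10, 8, 18, 6, 8, 10, 2, 4, 6, 8, 18, 20, 14, 12, 10, 8, 18, 16, 14, 12, 10, 8, 6, 4, 2, 1] .nil (.cons [1, 8, 10, 12, 6, 8, 10, 4, 6, 8, 18, 20, 14, 12, 10, 8, 18, 16, 14, 12, 10, 8, 6, 4, 2, 1] .nil (.cons [18, 8, 10, 12, 6, 8, 10, 4, 6, 8, 18, 20, 14,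 12, 10, 8, 18, 16, 14, 12, 10, 8, 6, 4, 2, 1] .nil (.cons [1, 18, 10, 12, 6, 8, 10, 4, 6, 8, 18, 20, 14, 12, 10, 8, 18, 16, 14, 12, 10, 8, 6, 4, 2, 1] .nil (.cons [8, 18, 10, 12, 6, 8, 10, 4, 6, 8, 18, 20, 14, 12, 10, 8, 18, 16, 14, 12, 10, 8, 6, 4, 2, 1] .nil (.cons [20, 18, 10, 12, 6, 8, 10, 4, 6, 8, 18, 20, 14, 12, 10, 8, 18, 16, 14, 12, 10, 8, 6, 4, 2, 1] .nil (.cons [1, 20, 18, 12, 6, 8, 10, 4, 6, 8, 18, 20, 14, 12, 10, 8, 18, 16, 14, 12, 10, 8, 6, 4, 2, 1] .nil (.cons [1, 10, 8, 18, 6, 8, 10, 4, 6, 8, 18, 20, 14, 12, 10, 8, 18, 16, 14, 12, 10, 8, 6, 4, 2, 1] .nil (.cons [12, 10, 8, 18, 6, 8, 10, 4, 6, 8, 18, 20, 14, 12, 10, 8, 18, 16, 14, 12, 10, 8, 6, 4, 2, 1] .nil (.cons [1, 8, 18, 10, 12, 8, 10, 4, 6, 8, 18, 20,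 14, 12, 10, 8, 18, 16, 14, 12, 10, 8, 6, 4, 2, 1] .nil (.cons [1, 6, 8, 18, 10, 12, 8, 10, 6, 8, 18, 20, 14, 12, 10, 8, 18, 16, 14, 12, 10, 8, 6, 4, 2, 1] .nil (.cons [4, 6, 8, 18, 10, 12, 8, 10, 6, 8, 18, 20, 14, 12, 10, 8, 18, 16, 14, 12, 10, 8, 6, 4, 2, 1] .nil (.cons [1, 18, 20, 8, 18, 6, 8, 10, 4, 6, 8, 18, 20, 12, 10, 8, 18, 16, 14, 12, 10, 8, 6, 4, 2, 1] .nil (.cons [12, 10, 8, 18, 6, 8, 10, 2, 4, 6, 8, 18, 20, 12, 10, 8, 18, 16, 14, 12, 10, 8, 6, 4, 2, 1] .nil (.cons [1, 12, 10, 8, 18, 6, 8, 10, 4, 6, 8, 18, 20, 12, 10, 8, 18, 16, 14, 12, 10, 8, 6, 4, 2, 1] .nil (.cons [14, 12, 10, 8, 18, 6, 8, 10, 4, 6, 8, 18, 20, 12, 10, 8, 18, 16, 14, 12, 10, 8, 6, 4, 2, 1] .nil (.cons [6, 8, 10, 4, 6, 8, 18, 20, 10, 12, 8, 10,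 0, 2, 4, 6, 8, 18, 14, 12, 10, 8, 6, 4, 2, 1] .nil (.cons [12, 8, 10, 4, 6, 8, 18, 20, 10, 12, 8, 10, 0, 2, 4, 6, 8, 18, 14, 12, 10, 8, 6, 4, 2, 1] .nil (.cons [18, 8, 10, 4, 6, 8, 18, 20, 10, 12, 8, 10, 0, 2, 4, 6, 8, 18, 14, 12, 10, 8, 6, 4, 2, 1] .nil (.cons [10, 12, 8, 10, 6, 8, 18, 20, 10, 12, 8, 10, 0, 2, 4, 6, 8, 18, 14, 12, 10, 8, 6, 4, 2, 1] .nil (.cons [20, 18, 8, 10, 6, 8, 18, 20, 10, 12, 8, 10, 0, 2, 4, 6, 8, 18, 14, 12, 10, 8, 6, 4, 2, 1] .nil (.cons [12, 1, 10, 2, 4, 6, 8, 18, 20, 12, 8, 10, 0, 2, 4, 6, 8, 18, 14, 12, 10, 8, 6, 4, 2, 1] .nil (.cons [12, 8, 10, 2, 4, 6, 8, 18, 20, 12, 8, 10, 0, 2, 4, 6, 8, 18, 14, 12, 10, 8, 6, 4, 2, 1] .nil (.cons [18, 8, 10, 2, 4, 6, 8, 18, 20, 12, 8, 10, 0, 2, 4, 6, 8, 18,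 14, 12, 10, 8, 6, 4, 2, 1] .nil (.cons [1, 12, 10, 2, 4, 6, 8, 18, 20, 12, 8, 10, 0, 2, 4, 6, 8, 18, 14, 12, 10, 8, 6, 4, 2, 1] .nil (.cons [18, 6, 8, 10, 4, 6, 8, 18, 20, 12, 8, 10, 0, 2, 4, 6, 8, 18, 14, 12, 10, 8, 6, 4, 2, 1] .nil (.cons [20, 18, 12, 8, 10, 6, 8, 18, 20, 12, 8, 10, 0, 2, 4, 6, 8, 18, 14, 12, 10, 8, 6, 4, 2, 1] .nil (.cons [6, 1, 8, 10, 2, 4, 6, 8, 18, 20, 12, 10, 0, 2, 4, 6, 8, 18, 14, 12, 10, 8, 6, 4, 2, 1] .nil (.cons [18, 1, 8, 10, 2, 4, 6, 8, 18, 20, 12, 10, 0, 2, 4, 6, 8, 18, 14, 12, 10, 8, 6, 4, 2, 1] (.cons [16, 2, 4, 6, 8, 0, 2, 4, 6, 16, 18, 2, 0, 12, 10, 16, 6, 4, 2, 8, 6, 4, 16, 6, 8, 10, 12, 14] (.cons [12, 10, 0, 12, 4, 6, 8, 16] (.cons [3, 0, 2, 2, 1, 1, 1, 3, 1, 2] (.cons [2, 0, 2, 0,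 3, 3, 1, 3, 1] .nil .nil) .nil) .nil) .nil) (.cons [4, 6, 8, 10, 2, 4, 6, 8, 18, 20, 12, 10, 0, 2, 4, 6, 8, 18, 14, 12, 10, 8, 6, 4, 2, 1] .nil (.cons [18, 6, 8, 10, 2, 4, 6, 8, 18, 20, 12, 10, 0, 2, 4, 6, 8, 18, 14, 12, 10, 8, 6, 4, 2, 1] .nil (.cons [20, 18, 8, 10, 2, 4, 6, 8, 18, 20, 12, 10, 0, 2, 4, 6, 8, 18, 14, 12, 10, 8, 6, 4, 2, 1] .nil (.cons [8, 18, 6, 8, 10, 4, 6, 8, 18, 20, 12, 10, 0, 2, 4, 6, 8, 18, 14, 12, 10, 8, 6, 4, 2, 1] .nil (.cons [20, 18, 12, 8, 10, 4, 6, 8, 18, 20, 12, 10, 0, 2, 4, 6, 8, 18, 14, 12, 10, 8, 6, 4, 2, 1] .nil (.cons [1, 8, 10, 2, 4, 6, 8, 18, 20, 10, 12, 8, 10, 2, 4, 6, 8, 18, 14, 12, 10, 8, 6, 4, 2, 1] .nil (.cons [6, 8, 10, 2, 4, 6, 8, 18, 20, 10, 12, 8, 10, 2, 4, 6, 8, 18, 14, 12,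 10, 8, 6, 4, 2, 1] .nil (.cons [18, 8, 10, 2, 4, 6, 8, 18, 20, 10, 12, 8, 10, 2, 4, 6, 8, 18, 14, 12, 10, 8, 6, 4, 2, 1] .nil (.cons [1, 12, 10, 2, 4, 6, 8, 18, 20, 10, 12, 8, 10, 2, 4, 6, 8, 18, 14, 12, 10, 8, 6, 4, 2, 1] .nil (.cons [12, 6, 8, 10, 4, 6, 8, 18, 20, 10, 12, 8, 10, 2, 4, 6, 8, 18, 14, 12, 10, 8, 6, 4, 2, 1] .nil (.cons [18, 6, 8, 10, 4, 6, 8, 18, 20, 10, 12, 8, 10, 2, 4, 6, 8, 18, 14, 12, 10, 8, 6, 4, 2, 1] .nil (.cons [10, 12, 8, 10, 4, 6, 8, 18, 20, 10, 12, 8, 10, 2, 4, 6, 8, 18, 14, 12, 10, 8, 6, 4, 2, 1] (.cons [10, 8, 6, 16, 18, 4, 6, 16, 12, 8, 10, 6, 8, 2, 4, 6, 16, 18, 4, 2, 0, 8, 10, 16, 6, 4, 2, 8, 6, 4, 16, 6, 8, 10, 12, 14] (.cons [8, 6, 4, 14, 6, 0, 2, 4, 8, 10, 6, 8] (.cons [0, 2, 1, 2, 0,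 3, 3, 0, 3, 1] (.cons [0, 2, 1, 2, 0, 3, 1, 1] .nil .nil) .nil) .nil) .nil) (.cons [18, 12, 8, 10, 4, 6, 8, 18, 20, 10, 12, 8, 10, 2, 4, 6, 8, 18, 14, 12, 10, 8, 6, 4, 2, 1] .nil (.cons [18, 10, 12, 8, 10, 6, 8, 18, 20, 10, 12, 8, 10, 2, 4, 6, 8, 18, 14, 12, 10, 8, 6, 4, 2, 1] .nil (.cons [12, 1, 8, 10, 2, 4, 6, 8, 18, 20, 12, 8, 10, 2, 4, 6, 8, 18, 14, 12, 10, 8, 6, 4, 2, 1] .nil (.cons [4, 6, 8, 10, 2, 4, 6, 8, 18, 20, 12, 8, 10, 2, 4, 6, 8, 18, 14, 12, 10, 8, 6, 4, 2, 1] .nil (.cons [18, 6, 8, 10, 2, 4, 6, 8, 18, 20, 12, 8, 10, 2, 4, 6, 8, 18, 14, 12, 10, 8, 6, 4, 2, 1] .nil (.cons [1, 12, 8, 10, 2, 4, 6, 8, 18, 20, 12, 8, 10, 2, 4, 6, 8, 18, 14, 12, 10, 8, 6, 4, 2, 1] .nil (.cons [18, 12, 8, 10, 2, 4, 6, 8, 18, 20,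 12, 8, 10, 2, 4, 6, 8, 18, 14, 12, 10, 8, 6, 4, 2, 1] .nil (.cons [1, 18, 8, 10, 2, 4, 6, 8, 18, 20, 12, 8, 10, 2, 4, 6, 8, 18, 14, 12, 10, 8, 6, 4, 2, 1] .nil (.cons [20, 18, 8, 10, 2, 4, 6, 8, 18, 20, 12, 8, 10, 2, 4, 6, 8, 18, 14, 12, 10, 8, 6, 4, 2, 1] .nil (.cons [10, 12, 6, 8, 10, 4, 6, 8, 18, 20, 12, 8, 10, 2, 4, 6, 8, 18, 14, 12, 10, 8, 6, 4, 2, 1] .nil (.cons [8, 18, 6, 8, 10, 4, 6, 8, 18, 20, 12, 8, 10, 2, 4, 6, 8, 18, 14, 12, 10, 8, 6, 4, 2, 1] .nil (.cons [20, 18, 6, 8, 10, 4, 6, 8, 18, 20, 12, 8, 10, 2, 4, 6, 8, 18, 14, 12, 10, 8, 6, 4, 2, 1] .nil (.cons [18, 10, 12, 8, 10, 4, 6, 8, 18, 20, 12, 8, 10, 2, 4, 6, 8, 18, 14, 12, 10, 8, 6, 4, 2, 1] .nil (.cons [20, 18, 12, 8, 10, 4, 6, 8, 18, 20, 12, 8, 10, 2, 4,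 6, 8, 18, 14, 12, 10, 8, 6, 4, 2, 1] .nil (.cons [10, 1, 12, 8, 10, 2, 4, 6, 8, 18, 20, 8, 10, 2, 4, 6, 8, 18, 14, 12, 10, 8, 6, 4, 2, 1] .nil (.cons [12, 4, 6, 8, 10, 2, 4, 6, 8, 18, 20, 8, 10, 2, 4, 6, 8, 18, 14, 12, 10, 8, 6, 4, 2, 1] .nil (.cons [1, 12, 6, 8, 10, 2, 4, 6, 8, 18, 20, 8, 10, 2, 4, 6, 8, 18, 14, 12, 10, 8, 6, 4, 2, 1] .nil (.cons [1, 10, 12, 8, 10, 2, 4, 6, 8, 18, 20, 8, 10, 2, 4, 6, 8, 18, 14, 12, 10, 8, 6, 4, 2, 1] .nil (.cons [8, 10, 12, 6, 8, 10, 4, 6, 8, 18, 20, 8, 10, 2, 4, 6, 8, 18, 14, 12, 10, 8, 6, 4, 2, 1] .nil (.cons [18, 1, 6, 8, 10, 2, 4, 6, 8, 18, 20, 12, 10, 2, 4, 6, 8, 18, 14, 12, 10, 8, 6, 4, 2, 1] .nil (.cons [18, 1, 12, 8, 10, 2, 4, 6, 8, 18, 20, 12, 10, 2, 4, 6, 8, 18, 14, 12, 10, 8,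 6, 4, 2, 1] .nil (.cons [1, 4, 6, 8, 10, 2, 4, 6, 8, 18, 20, 12, 10, 2, 4, 6, 8, 18, 14, 12, 10, 8, 6, 4, 2, 1] .nil (.cons [12, 4, 6, 8, 10, 2, 4, 6, 8, 18, 20, 12, 10, 2, 4, 6, 8, 18, 14, 12, 10, 8, 6, 4, 2, 1] .nil (.cons [18, 12, 6, 8, 10, 2, 4, 6, 8, 18, 20, 12, 10, 2, 4, 6, 8, 18, 14, 12, 10, 8, 6, 4, 2, 1] .nil (.cons [20, 18, 6, 8, 10, 2, 4, 6, 8, 18, 20, 12, 10, 2, 4, 6, 8, 18, 14, 12, 10, 8, 6, 4, 2, 1] .nil (.cons [1, 18, 12, 8, 10, 2, 4, 6, 8, 18, 20, 12, 10, 2, 4, 6, 8, 18, 14, 12, 10, 8, 6, 4, 2, 1] (.cons [10, 6, 8, 4, 6, 16, 18, 8, 2, 4, 6, 16, 8, 10, 12, 6, 8, 10, 4, 6, 8, 2, 4, 6, 16, 18, 4, 2, 0, 8, 10, 16, 6, 4, 2, 8, 6, 4, 16, 6, 8, 10, 12, 14] (.cons [8, 6, 14, 2, 12, 6, 4, 2, 10, 8] (.cons [3, 3,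 0, 2, 1, 1, 1, 2, 2, 1] (.cons [2, 2, 0, 2, 1, 2, 1, 1, 3, 3] .nil .nil) .nil) .nil) .nil) (.cons [8, 18, 12, 6, 8, 10, 4, 6, 8, 18, 20, 12, 10, 2, 4, 6, 8, 18, 14, 12, 10, 8, 6, 4, 2, 1] .nil (.cons [10, 8, 18, 6, 8, 10, 4, 6, 8, 18, 20, 12, 10, 2, 4, 6, 8, 18, 14, 12, 10, 8, 6, 4, 2, 1] .nil (.cons [1, 12, 10, 4, 6, 8, 18, 20, 8, 10, 12, 6, 8, 10, 4, 6, 8, 18, 14, 12, 10, 8, 6, 4, 2, 1] .nil (.cons [1, 12, 8, 10, 6, 8, 18, 20, 8, 10, 12, 6, 8, 10, 4, 6, 8, 18, 14, 12, 10, 8, 6, 4, 2, 1] .nil (.cons [10, 12, 8, 10, 6, 8, 18, 20, 8, 10, 12, 6, 8, 10, 4, 6, 8, 18, 14, 12, 10, 8, 6, 4, 2, 1] .nil (.cons [18, 12, 8, 10, 6, 8, 18, 20, 8, 10, 12, 6, 8, 10, 4, 6, 8, 18, 14, 12, 10, 8, 6, 4, 2, 1] .nil (.cons [20, 18, 8, 10, 6,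 8, 18, 20, 8, 10, 12, 6, 8, 10, 4, 6, 8, 18, 14, 12, 10, 8, 6, 4, 2, 1] .nil (.cons [12, 8, 10, 2, 4, 6, 8, 18, 20, 10, 12, 6, 8, 10, 4, 6, 8, 18, 14, 12, 10, 8, 6, 4, 2, 1] (.cons [12, 10, 8, 4, 6, 16, 18, 2, 0, 10, 4, 2, 8, 6, 4, 16, 6, 8, 10, 12, 14] (.cons [4, 0, 6, 4, 2, 8, 6, 4, 14, 6, 8, 16] (.cons [2, 2, 1, 1, 2, 1, 1, 1, 2, 0] .nil .nil) .nil) .nil) (.cons [1, 12, 10, 2, 4, 6, 8, 18, 20, 10, 12, 6, 8, 10, 4, 6, 8, 18, 14, 12, 10, 8, 6, 4, 2, 1] .nil (.cons [18, 6, 8, 10, 4, 6, 8, 18, 20, 10, 12, 6, 8, 10, 4, 6, 8, 18, 14, 12, 10, 8, 6, 4, 2, 1] .nil (.cons [10, 12, 8, 10, 4, 6, 8, 18, 20, 10, 12, 6, 8, 10, 4, 6, 8, 18, 14, 12, 10, 8, 6, 4, 2, 1] .nil (.cons [18, 12, 8, 10, 4, 6, 8, 18, 20, 10, 12, 6, 8, 10, 4,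 6, 8, 18, 14, 12, 10, 8, 6, 4, 2, 1] .nil (.cons [1, 18, 8, 10, 4, 6, 8, 18, 20, 10, 12, 6, 8, 10, 4, 6, 8, 18, 14, 12, 10, 8, 6, 4, 2, 1] .nil (.cons [20, 18, 8, 10, 4, 6, 8, 18, 20, 10, 12, 6, 8, 10, 4, 6, 8, 18, 14, 12, 10, 8, 6, 4, 2, 1] .nil (.cons [1, 10, 12, 8, 10, 6, 8, 18, 20, 10, 12, 6, 8, 10, 4, 6, 8, 18, 14, 12, 10, 8, 6, 4, 2, 1] .nil (.cons [18, 10, 12, 8, 10, 6, 8, 18, 20, 10, 12, 6, 8, 10, 4, 6, 8, 18, 14, 12, 10, 8, 6, 4, 2, 1] .nil (.cons [1, 14, 12, 8, 10, 6, 8, 18, 20, 10, 12, 6, 8, 10, 4, 6, 8, 18, 14, 12, 10, 8, 6, 4, 2, 1] .nil (.cons [1, 20, 18, 8, 10, 6, 8, 18, 20, 10, 12, 6, 8, 10, 4, 6, 8, 18, 14, 12, 10, 8, 6, 4, 2, 1] .nil (.cons [6, 1, 8, 10, 2, 4, 6, 8, 18, 20, 12, 6, 8, 10, 4, 6, 8, 18, 14,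 12, 10, 8, 6, 4, 2, 1] .nil (.cons [18, 1, 8, 10, 2, 4, 6, 8, 18, 20, 12, 6, 8, 10, 4, 6, 8, 18, 14, 12, 10, 8, 6, 4, 2, 1] .nil (.cons [4, 6, 8, 10, 2, 4, 6, 8, 18, 20, 12, 6, 8, 10, 4, 6, 8, 18, 14, 12, 10, 8, 6, 4, 2, 1] .nil (.cons [12, 6, 8, 10, 2, 4, 6, 8, 18, 20, 12, 6, 8, 10, 4, 6, 8, 18, 14, 12, 10, 8, 6, 4, 2, 1] .nil (.cons [18, 6, 8, 10, 2, 4, 6, 8, 18, 20, 12, 6, 8, 10, 4, 6, 8, 18, 14, 12, 10, 8, 6, 4, 2, 1] .nil (.cons [14, 12, 8, 10, 2, 4, 6, 8, 18, 20, 12, 6, 8, 10, 4, 6, 8, 18, 14, 12, 10, 8, 6, 4, 2, 1] .nil (.cons [1, 14, 12, 10, 2, 4, 6, 8, 18, 20, 12, 6, 8, 10, 4, 6, 8, 18, 14, 12, 10, 8, 6, 4, 2, 1] (.cons [18, 16, 10, 12, 8, 10, 2, 4, 6, 8, 0, 2, 4, 6, 16, 18, 4, 2, 0, 10, 16, 6, 4, 2, 8, 6, 4, 16,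 6, 8, 10, 12, 14] (.cons [14, 2, 4, 8, 10, 12] (.cons [0, 2, 2, 0, 0, 2, 1, 1, 2, 1] .nil .nil) .nil) .nil) (.cons [10, 12, 6, 8, 10, 4, 6, 8, 18, 20, 12, 6, 8, 10, 4, 6, 8, 18, 14, 12, 10, 8, 6, 4, 2, 1] .nil (.cons [14, 12, 6, 8, 10, 4, 6, 8, 18, 20, 12, 6, 8, 10, 4, 6, 8, 18, 14, 12, 10, 8, 6, 4, 2, 1] .nil (.cons [18, 12, 6, 8, 10, 4, 6, 8, 18, 20, 12, 6, 8, 10, 4, 6, 8, 18, 14, 12, 10, 8, 6, 4, 2, 1] .nil (.cons [8, 18, 6, 8, 10, 4, 6, 8, 18, 20, 12, 6, 8, 10, 4, 6, 8, 18, 14, 12, 10, 8, 6, 4, 2, 1] .nil (.cons [20, 18, 6, 8, 10, 4, 6, 8, 18, 20, 12, 6, 8, 10, 4, 6, 8, 18, 14, 12, 10, 8, 6, 4, 2, 1] .nil (.cons [18, 14, 12, 8, 10, 4, 6, 8, 18, 20, 12, 6, 8, 10, 4, 6, 8, 18, 14, 12, 10, 8, 6, 4, 2, 1] .nil (.cons [1,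 18, 12, 8, 10, 4, 6, 8, 18, 20, 12, 6, 8, 10, 4, 6, 8, 18, 14, 12, 10, 8, 6, 4, 2, 1] .nil (.cons [20, 18, 12, 8, 10, 4, 6, 8, 18, 20, 12, 6, 8, 10, 4, 6, 8, 18, 14, 12, 10, 8, 6, 4, 2, 1] .nil (.cons [1, 20, 18, 8, 10, 4, 6, 8, 18, 20, 12, 6, 8, 10, 4, 6, 8, 18, 14, 12, 10, 8, 6, 4, 2, 1] .nil (.cons [1, 14, 10, 12, 8, 10, 6, 8, 18, 20, 12, 6, 8, 10, 4, 6, 8, 18, 14, 12, 10, 8, 6, 4, 2, 1] .nil (.cons [18, 14, 10, 12, 8, 10, 6, 8, 18, 20, 12, 6, 8, 10, 4, 6, 8, 18, 14, 12, 10, 8, 6, 4, 2, 1] .nil (.cons [20, 18, 10, 12, 8, 10, 6, 8, 18, 20, 12, 6, 8, 10, 4, 6, 8, 18, 14, 12, 10, 8, 6, 4, 2, 1] .nil (.cons [1, 18, 14, 12, 8, 10, 6, 8, 18, 20, 12, 6, 8, 10, 4, 6, 8, 18, 14, 12, 10, 8, 6, 4, 2, 1] .nil (.cons [20, 18, 14,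 12, 8, 10, 6, 8, 18, 20, 12, 6, 8, 10, 4, 6, 8, 18, 14, 12, 10, 8, 6, 4, 2, 1] .nil (.cons [1, 20, 18, 12, 8, 10, 6, 8, 18, 20, 12, 6, 8, 10, 4, 6, 8, 18, 14, 12, 10, 8, 6, 4, 2, 1] (.cons [6, 16, 12, 6, 8, 10, 4, 6, 8, 0, 2, 4, 6, 16, 18, 4, 2, 0, 14, 12, 10, 16, 6, 4, 2, 8, 6, 4, 16, 6, 8, 10, 12, 14] .nil .nil) (.cons [10, 12, 6, 8, 10, 2, 4, 6, 8, 18, 20, 6, 8, 10, 4, 6, 8, 18, 14, 12, 10, 8, 6, 4, 2, 1] .nil (.cons [14, 12, 6, 8, 10, 2, 4, 6, 8, 18, 20, 6, 8, 10, 4, 6, 8, 18, 14, 12, 10, 8, 6, 4, 2, 1] .nil (.cons [18, 12, 6, 8, 10, 2, 4, 6, 8, 18, 20, 6, 8, 10, 4, 6, 8, 18, 14, 12, 10, 8, 6, 4, 2, 1] .nil (.cons [1, 10, 12, 8, 10, 2, 4, 6, 8, 18, 20, 6, 8, 10, 4, 6, 8, 18, 14, 12, 10, 8, 6, 4, 2, 1] .nil (.cons [18,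 10, 12, 8, 10, 2, 4, 6, 8, 18, 20, 6, 8, 10, 4, 6, 8, 18, 14, 12, 10, 8, 6, 4, 2, 1] (.cons [6, 16, 18, 8, 6, 16, 12, 8, 10, 4, 6, 8, 2, 4, 6, 16, 18, 4, 2, 0, 8, 10, 6, 4, 2, 8, 6, 4, 16, 6, 8, 10, 12, 14] (.cons [0, 2, 4, 2, 16, 10, 8, 6, 4, 2, 0, 10, 8, 14, 6, 8, 16] (.cons [0, 3, 0, 2, 1, 3] (.cons [3, 1, 1, 2, 1, 3, 3, 1, 2, 0] .nil .nil) .nil) .nil) .nil) (.cons [1, 10, 12, 6, 8, 10, 4, 6, 8, 18, 20, 6, 8, 10, 4, 6, 8, 18, 14, 12, 10, 8, 6, 4, 2, 1] .nil (.cons [18, 10, 12, 6, 8, 10, 4, 6, 8, 18, 20, 6, 8, 10, 4, 6, 8, 18, 14, 12, 10, 8, 6, 4, 2, 1] .nil (.cons [18, 14, 12, 6, 8, 10, 4, 6, 8, 18, 20, 6, 8, 10, 4, 6, 8, 18, 14, 12, 10, 8, 6, 4, 2, 1] (.cons [14, 12, 10, 8, 6, 16, 18, 2, 0, 12, 10, 6, 4, 2, 8, 6, 4,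 16, 6, 8, 10, 12, 14] (.cons [0, 2, 0, 14, 6, 4, 14, 6, 2, 0, 8, 10, 6, 8, 16] (.cons [2, 0, 2, 0, 0, 2, 1, 1, 3, 1] (.cons [1, 3, 1, 1, 3] .nil .nil) .nil) .nil) .nil) (.cons [12, 14, 10, 12, 8, 10, 4, 6, 8, 18, 20, 6, 8, 10, 4, 6, 8, 18, 14, 12, 10, 8, 6, 4, 2, 1] .nil (.cons [1, 18, 10, 12, 8, 10, 4, 6, 8, 18, 20, 6, 8, 10, 4, 6, 8, 18, 14, 12, 10, 8, 6, 4, 2, 1] .nil (.cons [1, 12, 14, 10, 12, 8, 10, 6, 8, 18, 20, 6, 8, 10, 4, 6, 8, 18, 14, 12, 10, 8, 6, 4, 2, 1] .nil (.cons [1, 8, 18, 10, 12, 8, 10, 6, 8, 18, 20, 6, 8, 10, 4, 6, 8, 18, 14, 12, 10, 8, 6, 4, 2, 1] .nil (.cons [12, 6, 1, 8, 10, 2, 1, 4, 6, 8, 18, 20, 12, 10, 4, 6, 8, 18, 14, 12, 10, 8, 6, 4, 2, 1] .nil (.cons [18, 12, 8, 10, 6, 8, 18, 20, 8, 18, 10, 12,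 8, 10, 4, 6, 8, 18, 14, 12, 10, 8, 6, 4, 2, 1] .nil (.cons [1, 18, 8, 10, 6, 8, 18, 20, 8, 18, 10, 12, 8, 10, 4, 6, 8, 18, 14, 12, 10, 8, 6, 4, 2, 1] .nil (.cons [20, 18, 8, 10, 6, 8, 18, 20, 8, 18, 10, 12, 8, 10, 4, 6, 8, 18, 14, 12, 10, 8, 6, 4, 2, 1] .nil (.cons [1, 16, 14, 12, 10, 8, 18, 20, 8, 18, 10, 12, 8, 10, 4, 6, 8, 18, 14, 12, 10, 8, 6, 4, 2, 1] .nil (.cons [6, 8, 10, 2, 4, 6, 8, 18, 20, 18, 10, 12, 8, 10, 4, 6, 8, 18, 14, 12, 10, 8, 6, 4, 2, 1] .nil (.cons [12, 8, 10, 2, 4, 6, 8, 18, 20, 18, 10, 12, 8, 10, 4, 6, 8, 18, 14, 12, 10, 8, 6, 4, 2, 1] .nil (.cons [18, 8, 10, 2, 4, 6, 8, 18, 20, 18, 10, 12, 8, 10, 4, 6, 8, 18, 14, 12, 10, 8, 6, 4, 2, 1] .nil (.cons [12, 6, 8, 10, 4, 6, 8, 18, 20, 18, 10, 12, 8, 10,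 4, 6, 8, 18, 14, 12, 10, 8, 6, 4, 2, 1] .nil (.cons [18, 12, 8, 10, 4, 6, 8, 18, 20, 18, 10, 12, 8, 10, 4, 6, 8, 18, 14, 12, 10, 8, 6, 4, 2, 1] .nil (.cons [1, 18, 8, 10, 4, 6, 8, 18, 20, 18, 10, 12, 8, 10, 4, 6, 8, 18, 14, 12, 10, 8, 6, 4, 2, 1] .nil (.cons [16, 14, 12, 10, 4, 6, 8, 18, 20, 18, 10, 12, 8, 10, 4, 6, 8, 18, 14, 12, 10, 8, 6, 4, 2, 1] .nil (.cons [14, 10, 12, 8, 10, 6, 8, 18, 20, 18, 10, 12, 8, 10, 4, 6, 8, 18, 14, 12, 10, 8, 6, 4, 2, 1] .nil (.cons [1, 14, 12, 8, 10, 6, 8, 18, 20, 18, 10, 12, 8, 10, 4, 6, 8, 18, 14, 12, 10, 8, 6, 4, 2, 1] .nil (.cons [16, 14, 12, 8, 10, 6, 8, 18, 20, 18, 10, 12, 8, 10, 4, 6, 8, 18, 14, 12, 10, 8, 6, 4, 2, 1] .nil (.cons [18, 14, 12, 8, 10, 6, 8, 18, 20, 18, 10, 12, 8, 10,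 4, 6, 8, 18, 14, 12, 10, 8, 6, 4, 2, 1] .nil (.cons [20, 18, 12, 8, 10, 6, 8, 18, 20, 18, 10, 12, 8, 10, 4, 6, 8, 18, 14, 12, 10, 8, 6, 4, 2, 1] .nil (.cons [1, 16, 14, 12, 10, 6, 8, 18, 20, 18, 10, 12, 8, 10, 4, 6, 8, 18, 14, 12, 10, 8, 6, 4, 2, 1] .nil (.cons [14, 1, 12, 10, 2, 4, 6, 8, 18, 20, 10, 12, 8, 10, 4, 6, 8, 18, 14, 12, 10, 8, 6, 4, 2, 1] (.cons [8, 4, 6, 16, 6, 4, 2, 8, 6, 4, 0, 2, 4, 6, 10, 8, 16, 18, 6, 4, 16, 6, 8, 10, 12, 14] (.cons [4, 6, 14, 4, 12, 0] .nil .nil) .nil) (.cons [1, 6, 8, 10, 2, 4, 6, 8, 18, 20, 10, 12, 8, 10, 4, 6, 8, 18, 14, 12, 10, 8, 6, 4, 2, 1] .nil (.cons [4, 6, 8, 10, 2, 4, 6, 8, 18, 20, 10, 12, 8, 10, 4, 6, 8, 18, 14, 12, 10, 8, 6, 4, 2, 1] .nil (.cons [12, 6, 8, 10, 2, 4, 6, 8, 18,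 20, 10, 12, 8, 10, 4, 6, 8, 18, 14, 12, 10, 8, 6, 4, 2, 1] .nil (.cons [1, 12, 8, 10, 2, 4, 6, 8, 18, 20, 10, 12, 8, 10, 4, 6, 8, 18, 14, 12, 10, 8, 6, 4, 2, 1] .nil (.cons [20, 18, 8, 10, 2, 4, 6, 8, 18, 20, 10, 12, 8, 10, 4, 6, 8, 18, 14, 12, 10, 8, 6, 4, 2, 1] .nil (.cons [16, 14, 12, 10, 2, 4, 6, 8, 18, 20, 10, 12, 8, 10, 4, 6, 8, 18, 14, 12, 10, 8, 6, 4, 2, 1] .nil (.cons [1, 12, 6, 8, 10, 4, 6, 8, 18, 20, 10, 12, 8, 10, 4, 6, 8, 18, 14, 12, 10, 8, 6, 4, 2, 1] (.cons [16, 6, 8, 10, 4, 6, 8, 2, 4, 6, 16, 18, 2, 0, 14, 8, 12, 10, 16, 6, 4, 2, 8, 6, 4, 16, 6, 8, 10, 12, 14] (.cons [2, 0, 2, 4, 6, 14, 2, 0, 8, 16] (.cons [0, 2, 1, 1, 2, 1, 2, 2] (.cons [1, 3, 0, 3, 3, 0] .nil .nil) .nil) .nil) .nil) (.cons [10, 12, 6,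 8, 10, 4, 6, 8, 18, 20, 10, 12, 8, 10, 4, 6, 8, 18, 14, 12, 10, 8, 6, 4, 2, 1] .nil (.cons [14, 12, 6, 8, 10, 4, 6, 8, 18, 20, 10, 12, 8, 10, 4, 6, 8, 18, 14, 12, 10, 8, 6, 4, 2, 1] .nil (.cons [1, 10, 12, 8, 10, 4, 6, 8, 18, 20, 10, 12, 8, 10, 4, 6, 8, 18, 14, 12, 10, 8, 6, 4, 2, 1] .nil (.cons [14, 10, 12, 8, 10, 4, 6, 8, 18, 20, 10, 12, 8, 10, 4, 6, 8, 18, 14, 12, 10, 8, 6, 4, 2, 1] .nil (.cons [18, 10, 12, 8, 10, 4, 6, 8, 18, 20, 10, 12, 8, 10, 4, 6, 8, 18, 14, 12, 10, 8, 6, 4, 2, 1] .nil (.cons [1, 14, 12, 8, 10, 4, 6, 8, 18, 20, 10, 12, 8, 10, 4, 6, 8, 18, 14, 12, 10, 8, 6, 4, 2, 1] .nil (.cons [1, 18, 12, 8, 10, 4, 6, 8, 18, 20, 10, 12, 8, 10, 4, 6, 8, 18, 14, 12, 10, 8, 6, 4, 2, 1] .nil (.cons [1, 20, 18, 8, 10,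 4, 6, 8, 18, 20, 10, 12, 8, 10, 4, 6, 8, 18, 14, 12, 10, 8, 6, 4, 2, 1] .nil (.cons [1, 16, 14, 12, 8, 10, 6, 8, 18, 20, 10, 12, 8, 10, 4, 6, 8, 18, 14, 12, 10, 8, 6, 4, 2, 1] (.cons [18, 16, 12, 8, 10, 6, 8, 4, 6, 16, 18, 6, 4, 2, 0, 8, 10, 6, 4, 2, 8, 6, 4, 16, 6, 8, 10, 12, 14] (.cons [8, 12, 10, 14, 6, 4, 6, 14, 8, 10] (.cons [1, 2, 0, 0, 2, 1, 3, 3, 0] (.cons [0, 2, 0, 2, 2, 1, 2, 2, 1, 2] .nil .nil) .nil) .nil) .nil) (.cons [18, 16, 14, 12, 8, 10, 6, 8, 18, 20, 10, 12, 8, 10, 4, 6, 8, 18, 14, 12, 10, 8, 6, 4, 2, 1] .nil (.cons [1, 18, 14, 12, 8, 10, 6, 8, 18, 20, 10, 12, 8, 10, 4, 6, 8, 18, 14, 12, 10, 8, 6, 4, 2, 1] (.cons [16, 18, 4, 6, 16, 8, 10, 4, 6, 8, 2, 4, 6, 16, 18, 2, 0, 14, 8, 12, 10, 6, 4, 2, 8, 6, 4,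 16, 6, 8, 10, 12, 14] (.cons [2, 8, 14, 6, 8, 10, 8, 6] (.cons [1, 3, 3, 1, 3, 1, 3, 1] .nil .nil) .nil) .nil) (.cons [20, 18, 14, 12, 8, 10, 6, 8, 18, 20, 10, 12, 8, 10, 4, 6, 8, 18, 14, 12, 10, 8, 6, 4, 2, 1] .nil (.cons [6, 1, 8, 10, 2, 4, 6, 8, 18, 20, 18, 12, 8, 10, 4, 6, 8, 18, 14, 12, 10, 8, 6, 4, 2, 1] .nil (.cons [18, 1, 8, 10, 2, 4, 6, 8, 18, 20, 18, 12, 8, 10, 4, 6, 8, 18, 14, 12, 10, 8, 6, 4, 2, 1] .nil (.cons [4, 6, 8, 10, 2, 4, 6, 8, 18, 20, 18, 12, 8, 10, 4, 6, 8, 18, 14, 12, 10, 8, 6, 4, 2, 1] .nil (.cons [12, 6, 8, 10, 2, 4, 6, 8, 18, 20, 18, 12, 8, 10, 4, 6, 8, 18, 14, 12, 10, 8, 6, 4, 2, 1] .nil (.cons [18, 6, 8, 10, 2, 4, 6, 8, 18, 20, 18, 12, 8, 10, 4, 6, 8, 18, 14, 12, 10, 8, 6, 4, 2, 1] .nil (.cons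 [1, 12, 8, 10, 2, 4, 6, 8, 18, 20, 18, 12, 8, 10, 4, 6, 8, 18, 14, 12, 10, 8, 6, 4, 2, 1] .nil (.cons [14, 12, 8, 10, 2, 4, 6, 8, 18, 20, 18, 12, 8, 10, 4, 6, 8, 18, 14, 12, 10, 8, 6, 4, 2, 1] .nil (.cons [18, 12, 8, 10, 2, 4, 6, 8, 18, 20, 18, 12, 8, 10, 4, 6, 8, 18, 14, 12, 10, 8, 6, 4, 2, 1] .nil (.cons [1, 18, 8, 10, 2, 4, 6, 8, 18, 20, 18, 12, 8, 10, 4, 6, 8, 18, 14, 12, 10, 8, 6, 4, 2, 1] (.cons [12, 8, 10, 6, 8, 2, 4, 6, 16, 18, 4, 2, 0, 10, 6, 4, 2, 8, 6, 4, 16, 6, 8, 10, 12, 14] (.cons [6, 2, 10, 8, 16, 14, 6, 8, 10] (.cons [1, 1, 3, 0, 0, 3, 1] (.cons [0, 2, 0, 2, 0, 2, 0, 0, 2, 1, 1] .nil .nil) .nil) .nil) .nil) (.cons [1, 12, 6, 8, 10, 4, 6, 8, 18, 20, 18, 12, 8, 10, 4, 6, 8, 18, 14, 12, 10, 8, 6, 4, 2, 1] .nil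 (.cons [14, 12, 6, 8, 10, 4, 6, 8, 18, 20, 18, 12, 8, 10, 4, 6, 8, 18, 14, 12, 10, 8, 6, 4, 2, 1] .nil (.cons [18, 12, 6, 8, 10, 4, 6, 8, 18, 20, 18, 12, 8, 10, 4, 6, 8, 18, 14, 12, 10, 8, 6, 4, 2, 1] .nil (.cons [20, 18, 6, 8, 10, 4, 6, 8, 18, 20, 18, 12, 8, 10, 4, 6, 8, 18, 14, 12, 10, 8, 6, 4, 2, 1] .nil (.cons [14, 10, 12, 8, 10, 4, 6, 8, 18, 20, 18, 12, 8, 10, 4, 6, 8, 18, 14, 12, 10, 8, 6, 4, 2, 1] .nil (.cons [18, 10, 12, 8, 10, 4, 6, 8, 18, 20, 18, 12, 8, 10, 4, 6, 8, 18, 14, 12, 10, 8, 6, 4, 2, 1] .nil (.cons [16, 14, 12, 8, 10, 4, 6, 8, 18, 20, 18, 12, 8, 10, 4, 6, 8, 18, 14, 12, 10, 8, 6, 4, 2, 1] .nil (.cons [1, 18, 12, 8, 10, 4, 6, 8, 18, 20, 18, 12, 8, 10, 4, 6, 8, 18, 14, 12, 10, 8, 6, 4, 2, 1] .nil (.cons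 [20, 18, 12, 8, 10, 4, 6, 8, 18, 20, 18, 12, 8, 10, 4, 6, 8, 18, 14, 12, 10, 8, 6, 4, 2, 1] .nil (.cons [1, 16, 14, 12, 10, 4, 6, 8, 18, 20, 18, 12, 8, 10, 4, 6, 8, 18, 14, 12, 10, 8, 6, 4, 2, 1] .nil (.cons [16, 14, 10, 12, 8, 10, 6, 8, 18, 20, 18, 12, 8, 10, 4, 6, 8, 18, 14, 12, 10, 8, 6, 4, 2, 1] .nil (.cons [20, 18, 10, 12, 8, 10, 6, 8, 18, 20, 18, 12, 8, 10, 4, 6, 8, 18, 14, 12, 10, 8, 6, 4, 2, 1] .nil (.cons [18, 16, 14, 12, 8, 10, 6, 8, 18, 20, 18, 12, 8, 10, 4, 6, 8, 18, 14, 12, 10, 8, 6, 4, 2, 1] .nil (.cons [1, 18, 14, 12, 8, 10, 6, 8, 18, 20, 18, 12, 8, 10, 4, 6, 8, 18, 14, 12, 10, 8, 6, 4, 2, 1] .nil (.cons [20, 18, 14, 12, 8, 10, 6, 8, 18, 20, 18, 12, 8, 10, 4, 6, 8, 18, 14, 12, 10, 8, 6, 4, 2, 1] .nil (.cons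 [18, 1, 6, 8, 10, 2, 4, 6, 8, 18, 20, 12, 8, 10, 4, 6, 8, 18, 14, 12, 10, 8, 6, 4, 2, 1] .nil (.cons [20, 1, 18, 8, 10, 2, 4, 6, 8, 18, 20, 12, 8, 10, 4, 6, 8, 18, 14, 12, 10, 8, 6, 4, 2, 1] .nil (.cons [16, 1, 14, 12, 10, 2, 4, 6, 8, 18, 20, 12, 8, 10, 4, 6, 8, 18, 14, 12, 10, 8, 6, 4, 2, 1] .nil (.cons [12, 4, 6, 8, 10, 2, 4, 6, 8, 18, 20, 12, 8, 10, 4, 6, 8, 18, 14, 12, 10, 8, 6, 4, 2, 1] .nil (.cons [10, 12, 6, 8, 10, 2, 4, 6, 8, 18, 20, 12, 8, 10, 4, 6, 8, 18, 14, 12, 10, 8, 6, 4, 2, 1] .nil (.cons [8, 18, 6, 8, 10, 2, 4, 6, 8, 18, 20, 12, 8, 10, 4, 6, 8, 18, 14, 12, 10, 8, 6, 4, 2, 1] (.cons [16, 12, 10, 8, 6, 4, 2, 16, 12, 10, 8, 6, 4, 14, 12, 10, 8, 6, 16, 18, 4, 2, 0, 8, 10, 6, 4, 2, 8, 6, 4, 16, 6, 8, 10, 12,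 14] .nil .nil) (.cons [1, 10, 12, 8, 10, 2, 4, 6, 8, 18, 20, 12, 8, 10, 4, 6, 8, 18, 14, 12, 10, 8, 6, 4, 2, 1] .nil (.cons [18, 10, 12, 8, 10, 2, 4, 6, 8, 18, 20, 12, 8, 10, 4, 6, 8, 18, 14, 12, 10, 8, 6, 4, 2, 1] .nil (.cons [1, 14, 12, 8, 10, 2, 4, 6, 8, 18, 20, 12, 8, 10, 4, 6, 8, 18, 14, 12, 10, 8, 6, 4, 2, 1] .nil (.cons [16, 14, 12, 8, 10, 2, 4, 6, 8, 18, 20, 12, 8, 10, 4, 6, 8, 18, 14, 12, 10, 8, 6, 4, 2, 1] .nil (.cons [18, 14, 12, 8, 10, 2, 4, 6, 8, 18, 20, 12, 8, 10, 4, 6, 8, 18, 14, 12, 10, 8, 6, 4, 2, 1] .nil (.cons [1, 18, 12, 8, 10, 2, 4, 6, 8, 18, 20, 12, 8, 10, 4, 6, 8, 18, 14, 12, 10, 8, 6, 4, 2, 1] .nil (.cons [1, 20, 18, 8, 10, 2, 4, 6, 8, 18, 20, 12, 8, 10, 4, 6, 8, 18, 14, 12, 10, 8, 6, 4, 2, 1] .nil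 (.cons [1, 10, 12, 6, 8, 10, 4, 6, 8, 18, 20, 12, 8, 10, 4, 6, 8, 18, 14, 12, 10, 8, 6, 4, 2, 1] .nil (.cons [8, 10, 12, 6, 8, 10, 4, 6, 8, 18, 20, 12, 8, 10, 4, 6, 8, 18, 14, 12, 10, 8, 6, 4, 2, 1] .nil (.cons [14, 10, 12, 6, 8, 10, 4, 6, 8, 18, 20, 12, 8, 10, 4, 6, 8, 18, 14, 12, 10, 8, 6, 4, 2, 1] .nil (.cons [16, 14, 12, 6, 8, 10, 4, 6, 8, 18, 20, 12, 8, 10, 4, 6, 8, 18, 14, 12, 10, 8, 6, 4, 2, 1] (.cons [18, 2, 4, 6, 16, 12, 8, 10, 6, 4, 2, 8, 6, 4, 0, 2, 4, 6, 10, 8, 16, 18, 6, 4, 16, 6, 8, 10, 12, 14] (.cons [6, 8, 12, 4, 10, 8, 16, 14, 6, 8] (.cons [2, 0, 0, 3, 1] .nil .nil) .nil) .nil) (.cons [1, 18, 12, 6, 8, 10, 4, 6, 8, 18, 20, 12, 8, 10, 4, 6, 8, 18, 14, 12, 10, 8, 6, 4, 2, 1] .nil (.cons [1, 8, 18, 6, 8, 10,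 4, 6, 8, 18, 20, 12, 8, 10, 4, 6, 8, 18, 14, 12, 10, 8, 6, 4, 2, 1] .nil (.cons [1, 20, 18, 6, 8, 10, 4, 6, 8, 18, 20, 12, 8, 10, 4, 6, 8, 18, 14, 12, 10, 8, 6, 4, 2, 1] .nil (.cons [12, 14, 10, 12, 8, 10, 4, 6, 8, 18, 20, 12, 8, 10, 4, 6, 8, 18, 14, 12, 10, 8, 6, 4, 2, 1] .nil (.cons [1, 18, 10, 12, 8, 10, 4, 6, 8, 18, 20, 12, 8, 10, 4, 6, 8, 18, 14, 12, 10, 8, 6, 4, 2, 1] (.cons [12, 10, 8, 4, 6, 16, 18, 2, 0, 14, 12, 10, 6, 4, 2, 8, 6, 4, 16, 6, 8, 10, 12, 14] (.cons [12, 10, 4, 0, 2, 12, 4, 6, 8, 16] (.cons [1, 3, 0, 3, 3, 1, 3, 0, 2] .nil .nil) .nil) .nil) (.cons [1, 20, 18, 12, 8, 10, 4, 6, 8, 18, 20, 12, 8, 10, 4, 6, 8, 18, 14, 12, 10, 8, 6, 4, 2, 1] .nil (.cons [6, 8, 18, 10, 12, 8, 10, 6, 8, 18, 20, 12, 8, 10,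 4, 6, 8, 18, 14, 12, 10, 8, 6, 4, 2, 1] .nil (.cons [20, 8, 18, 10, 12, 8, 10, 6, 8, 18, 20, 12, 8, 10, 4, 6, 8, 18, 14, 12, 10, 8, 6, 4, 2, 1] .nil (.cons [1, 18, 16, 14, 12, 8, 10, 6, 8, 18, 20, 12, 8, 10, 4, 6, 8, 18, 14, 12, 10, 8, 6, 4, 2, 1] .nil (.cons [20, 18, 16, 14, 12, 8, 10, 6, 8, 18, 20, 12, 8, 10, 4, 6, 8, 18, 14, 12, 10, 8, 6, 4, 2, 1] .nil (.cons [8, 10, 12, 6, 8, 10, 4, 6, 8, 18, 20, 18, 8, 10, 4, 6, 8, 18, 14, 12, 10, 8, 6, 4, 2, 1] .nil (.cons [1, 14, 10, 12, 8, 10, 4, 6, 8, 18, 20, 18, 8, 10, 4, 6, 8, 18, 14, 12, 10, 8, 6, 4, 2, 1] .nil (.cons [16, 14, 10, 12, 8, 10, 4, 6, 8, 18, 20, 18, 8, 10, 4, 6, 8, 18, 14, 12, 10, 8, 6, 4, 2, 1] .nil (.cons [14, 1, 10, 12, 8, 10, 2, 4, 6, 8, 18, 20, 8, 10, 4, 6,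 8, 18, 14, 12, 10, 8, 6, 4, 2, 1] (.cons [18, 8, 6, 16, 14, 12, 10, 8, 6, 16, 14, 12, 10, 4, 6, 8, 2, 4, 6, 16, 18, 0, 10, 16, 6, 4, 2, 8, 6, 4, 16, 6, 8, 10, 12, 14] (.cons [12, 0, 14, 6, 8, 10, 16] (.cons [3, 0, 0, 3, 1, 1, 1, 3] .nil .nil) .nil) .nil) (.cons [18, 1, 10, 12, 8, 10, 2, 4, 6, 8, 18, 20, 8, 10, 4, 6, 8, 18, 14, 12, 10, 8, 6, 4, 2, 1] .nil (.cons [18, 10, 12, 6, 8, 10, 2, 4, 6, 8, 18, 20, 8, 10, 4, 6, 8, 18, 14, 12, 10, 8, 6, 4, 2, 1] .nil (.cons [16, 14, 10, 12, 8, 10, 2, 4, 6, 8, 18, 20, 8, 10, 4, 6, 8, 18, 14, 12, 10, 8, 6, 4, 2, 1] .nil (.cons [1, 18, 10, 12, 8, 10, 2, 4, 6, 8, 18, 20, 8, 10, 4, 6, 8, 18, 14, 12, 10, 8, 6, 4, 2, 1] .nil (.cons [8, 18, 10, 12, 8, 10, 2, 4, 6, 8, 18, 20, 8, 10, 4, 6, 8,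 18, 14, 12, 10, 8, 6, 4, 2, 1] .nil (.cons [1, 14, 10, 12, 6, 8, 10, 4, 6, 8, 18, 20, 8, 10, 4, 6, 8, 18, 14, 12, 10, 8, 6, 4, 2, 1] .nil (.cons [1, 18, 10, 12, 6, 8, 10, 4, 6, 8, 18, 20, 8, 10, 4, 6, 8, 18, 14, 12, 10, 8, 6, 4, 2, 1] .nil (.cons [8, 18, 10, 12, 6, 8, 10, 4, 6, 8, 18, 20, 8, 10, 4, 6, 8, 18, 14, 12, 10, 8, 6, 4, 2, 1] .nil (.cons [1, 16, 14, 12, 6, 8, 10, 4, 6, 8, 18, 20, 8, 10, 4, 6, 8, 18, 14, 12, 10, 8, 6, 4, 2, 1] .nil (.cons [6, 8, 18, 10, 12, 8, 10, 4, 6, 8, 18, 20, 8, 10, 4, 6, 8, 18, 14, 12, 10, 8, 6, 4, 2, 1] .nil .nil)))))))))))))))))))))))))))))))))))))))))))))))))))))))))))))))))))))))))))))))))))))))))))))))))))))))))))))))))))))))))))))))))))))))))))))))))))))))))))))))))))))))))))))))))))))))))))))))))))))))))))))))))))))))))))))))))))))))))))))))))))))))))))))))))))))))))))))))))))))))))))))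 (⟨cu_l0.b, cu_l0.S, [], cu_R37, 0⟩ :: cu_tl) (0 :: cu_lk) Pd.nil 0 = true := by decide +kernel
theorem cu_r38 : cu_S.run (.cons [1, 6, 8, 18, 10, 12, 8, 10, 6, 8, 18, 20, 8, 10, 4, 6, 8, 18, 14, 12, 10, 8, 6, 4, 2, 1] .nil (.cons [14, 1, 12, 6, 8, 10, 2, 4, 6, 8, 18, 20, 12, 10, 4, 6, 8, 18, 14, 12, 10, 8, 6, 4, 2, 1] .nil (.cons [8, 1, 18, 6, 8, 10, 2, 4, 6, 8, 18, 20, 12, 10, 4, 6, 8, 18, 14, 12, 10, 8, 6, 4, 2, 1] .nil (.cons [20, 1, 18, 6, 8, 10, 2, 4, 6, 8, 18, 20, 12, 10, 4, 6, 8, 18, 14, 12, 10, 8, 6, 4, 2, 1] .nil (.cons [18, 1, 10, 12, 8, 10, 2, 4, 6, 8, 18, 20, 12, 10, 4, 6, 8, 18, 14, 12, 10, 8, 6, 4, 2, 1] .nil (.cons [16, 1, 14, 12, 8, 10, 2, 4, 6, 8, 18, 20, 12, 10, 4, 6, 8, 18, 14, 12, 10, 8, 6, 4, 2, 1]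 .nil (.cons [1, 12, 4, 6, 8, 10, 2, 4, 6, 8, 18, 20, 12, 10, 4, 6, 8, 18, 14, 12, 10, 8, 6, 4, 2, 1] .nil (.cons [10, 12, 4, 6, 8, 10, 2, 4, 6, 8, 18, 20, 12, 10, 4, 6, 8, 18, 14, 12, 10, 8, 6, 4, 2, 1] .nil (.cons [14, 12, 4, 6, 8, 10, 2, 4, 6, 8, 18, 20, 12, 10, 4, 6, 8, 18, 14, 12, 10, 8, 6, 4, 2, 1] .nil (.cons [18, 12, 4, 6, 8, 10, 2, 4, 6, 8, 18, 20, 12, 10, 4, 6, 8, 18, 14, 12, 10, 8, 6, 4, 2, 1] .nil (.cons [1, 18, 4, 6, 8, 10, 2, 4, 6, 8, 18, 20, 12, 10, 4, 6, 8, 18, 14, 12, 10, 8, 6, 4, 2, 1] .nil (.cons [20, 18, 4, 6, 8, 10, 2, 4, 6, 8, 18, 20, 12, 10, 4, 6, 8, 18, 14, 12, 10, 8, 6, 4, 2, 1] (.cons [0, 2, 4, 6, 16, 18, 6, 4, 8, 10, 12, 6, 8, 10, 4, 6, 16, 6, 4, 2, 8, 6, 4, 0, 2, 4, 6, 10, 8, 16, 18, 6, 4, 16,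 6, 8, 10, 12, 14] (.cons [12, 10, 8, 2, 4, 6, 14, 2, 4, 8, 10, 2, 12] (.cons [2, 1, 1, 1, 2, 2, 1, 2, 0, 2] (.cons [1, 3, 3, 0, 3, 0, 2, 1, 3] .nil .nil) .nil) .nil) .nil) (.cons [1, 10, 12, 6, 8, 10, 2, 4, 6, 8, 18, 20, 12, 10, 4, 6, 8, 18, 14, 12, 10, 8, 6, 4, 2, 1] .nil (.cons [18, 10, 12, 6, 8, 10, 2, 4, 6, 8, 18, 20, 12, 10, 4, 6, 8, 18, 14, 12, 10, 8, 6, 4, 2, 1] .nil (.cons [1, 18, 12, 6, 8, 10, 2, 4, 6, 8, 18, 20, 12, 10, 4, 6, 8, 18, 14, 12, 10, 8, 6, 4, 2, 1] .nil (.cons [20, 8, 18, 6, 8, 10, 2, 4, 6, 8, 18, 20, 12, 10, 4, 6, 8, 18, 14, 12, 10, 8, 6, 4, 2, 1] .nil (.cons [8, 18, 10, 12, 8, 10, 2, 4, 6, 8, 18, 20, 12, 10, 4, 6, 8, 18, 14, 12, 10, 8, 6, 4, 2, 1] .nil (.cons [18, 16, 14, 12, 8, 10, 2, 4, 6, 8, 18,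 20, 12, 10, 4, 6, 8, 18, 14, 12, 10, 8, 6, 4, 2, 1] .nil (.cons [1, 20, 18, 12, 8, 10, 2, 4, 6, 8, 18, 20, 12, 10, 4, 6, 8, 18, 14, 12, 10, 8, 6, 4, 2, 1] (.cons [16, 18, 6, 8, 12, 10, 16, 6, 4, 2, 8, 6, 4, 16, 6, 8, 10, 12, 14] (.cons [12, 4, 16, 0, 6, 4, 2, 10, 14, 6, 4, 8, 16, 14, 6, 8] (.cons [0, 3, 1, 2, 0, 3] .nil .nil) .nil) .nil) (.cons [8, 18, 10, 12, 6, 8, 10, 4, 6, 8, 18, 20, 12, 10, 4, 6, 8, 18, 14, 12, 10, 8, 6, 4, 2, 1] (.cons [0, 10, 4, 2, 8, 6, 4, 14, 12, 10, 8, 6, 16, 18, 4, 2, 0, 12, 10, 6, 4, 2, 8, 6, 4, 16, 6, 8, 10, 12, 14] (.cons [0, 10, 2, 0, 8] .nil .nil) .nil) (.cons [8, 18, 14, 12, 6, 8, 10, 4, 6, 8, 18, 20, 12, 10, 4, 6, 8, 18, 14, 12, 10, 8, 6, 4, 2, 1] .nil (.cons [20, 8, 18, 12, 6, 8, 10, 4,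 6, 8, 18, 20, 12, 10, 4, 6, 8, 18, 14, 12, 10, 8, 6, 4, 2, 1] .nil (.cons [1, 20, 18, 12, 6, 8, 10, 4, 6, 8, 18, 20, 12, 10, 4, 6, 8, 18, 14, 12, 10, 8, 6, 4, 2, 1] .nil (.cons [12, 10, 8, 18, 6, 8, 10, 4, 6, 8, 18, 20, 12, 10, 4, 6, 8, 18, 14, 12, 10, 8, 6, 4, 2, 1] .nil (.cons [1, 8, 18, 10, 12, 8, 10, 4, 6, 8, 18, 20, 12, 10, 4, 6, 8, 18, 14, 12, 10, 8, 6, 4, 2, 1] .nil (.cons [6, 8, 18, 10, 12, 8, 10, 4, 6, 8, 18, 20, 12, 10, 4, 6, 8, 18, 14, 12, 10, 8, 6, 4, 2, 1] .nil (.cons [20, 8, 18, 10, 12, 8, 10, 4, 6, 8, 18, 20, 12, 10, 4, 6, 8, 18, 14, 12, 10, 8, 6, 4, 2, 1] .nil (.cons [1, 20, 18, 10, 12, 8, 10, 4, 6, 8, 18, 20, 12, 10, 4, 6, 8, 18, 14, 12, 10, 8, 6, 4, 2, 1] .nil (.cons [1, 18, 16, 14, 12, 8, 10, 4, 6, 8,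 18, 20, 12, 10, 4, 6, 8, 18, 14, 12, 10, 8, 6, 4, 2, 1] .nil (.cons [4, 6, 8, 18, 10, 12, 8, 10, 6, 8, 18, 20, 12, 10, 4, 6, 8, 18, 14, 12, 10, 8, 6, 4, 2, 1] .nil (.cons [20, 6, 8, 18, 10, 12, 8, 10, 6, 8, 18, 20, 12, 10, 4, 6, 8, 18, 14, 12, 10, 8, 6, 4, 2, 1] (.cons [0, 2, 4, 6, 16, 12, 8, 10, 4, 6, 8, 2, 4, 6, 16, 18, 4, 2, 0, 10, 6, 4, 2, 8, 6, 4, 16, 6, 8, 10, 12, 14] (.cons [4, 6, 2, 10, 4, 6, 14, 8, 6] (.cons [0, 2, 1, 3, 0, 0, 2, 2, 1] (.cons [3, 3, 1, 2, 0, 3, 1, 1, 3, 1] .nil .nil) .nil) .nil) .nil) (.cons [8, 1, 18, 10, 12, 8, 10, 2, 4, 6, 8, 18, 20, 10, 4, 6, 8, 18, 14, 12, 10, 8, 6, 4, 2, 1] .nil (.cons [1, 8, 18, 10, 12, 8, 10, 2, 4, 6, 8, 18, 20, 10, 4, 6, 8, 18, 14, 12, 10, 8, 6, 4, 2, 1] .nil (.cons [6,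 8, 18, 10, 12, 8, 10, 2, 4, 6, 8, 18, 20, 10, 4, 6, 8, 18, 14, 12, 10, 8, 6, 4, 2, 1] .nil (.cons [4, 6, 8, 18, 10, 12, 8, 10, 4, 6, 8, 18, 20, 10, 4, 6, 8, 18, 14, 12, 10, 8, 6, 4, 2, 1] .nil (.cons [2, 4, 6, 8, 18, 10, 12, 8, 10, 6, 8, 18, 20, 10, 4, 6, 8, 18, 14, 12, 10, 8, 6, 4, 2, 1] .nil (.cons [1, 2, 4, 6, 8, 18, 10, 12, 8, 10, 6, 8, 18, 20, 4, 6, 8, 18, 14, 12, 10, 8, 6, 4, 2, 1] (.cons [10, 8, 4, 6, 16, 18, 6, 8, 4, 6, 16, 10, 12, 8, 10, 6, 8, 2, 4, 6, 16, 18, 2, 0, 12, 10, 16, 6, 4, 2, 8, 6, 4, 16, 6, 8, 10, 12, 14] (.cons [16, 10, 8, 6, 0, 2, 4, 10, 8, 6, 14] (.cons [2, 1, 1, 3, 0, 3, 0, 0, 0, 2] .nil .nil) .nil) .nil) (.cons [4, 6, 8, 10, 2, 4, 6, 8, 18, 20, 18, 10, 12, 8, 10, 6, 8, 18, 14, 12, 10, 8, 6, 4,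 2, 1] .nil (.cons [12, 6, 8, 10, 2, 4, 6, 8, 18, 20, 18, 10, 12, 8, 10, 6, 8, 18, 14, 12, 10, 8, 6, 4, 2, 1] .nil (.cons [16, 14, 12, 10, 2, 4, 6, 8, 18, 20, 18, 10, 12, 8, 10, 6, 8, 18, 14, 12, 10, 8, 6, 4, 2, 1] .nil (.cons [1, 12, 6, 8, 10, 4, 6, 8, 18, 20, 18, 10, 12, 8, 10, 6, 8, 18, 14, 12, 10, 8, 6, 4, 2, 1] .nil (.cons [10, 12, 6, 8, 10, 4, 6, 8, 18, 20, 18, 10, 12, 8, 10, 6, 8, 18, 14, 12, 10, 8, 6, 4, 2, 1] .nil (.cons [20, 6, 18, 8, 10, 4, 6, 8, 18, 20, 18, 10, 12, 8, 10, 6, 8, 18, 14, 12, 10, 8, 6, 4, 2, 1] .nil (.cons [1, 14, 12, 8, 10, 4, 6, 8, 18, 20, 18, 10, 12, 8, 10, 6, 8, 18, 14, 12, 10, 8, 6, 4, 2, 1] .nil (.cons [4, 1, 6, 8, 10, 2, 4, 6, 8, 18, 20, 10, 12, 8, 10, 6, 8, 18, 14, 12, 10, 8, 6, 4, 2, 1]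 .nil (.cons [12, 1, 6, 8, 10, 2, 4, 6, 8, 18, 20, 10, 12, 8, 10, 6, 8, 18, 14, 12, 10, 8, 6, 4, 2, 1] .nil (.cons [10, 1, 12, 8, 10, 2, 4, 6, 8, 18, 20, 10, 12, 8, 10, 6, 8, 18, 14, 12, 10, 8, 6, 4, 2, 1] .nil (.cons [18, 1, 12, 8, 10, 2, 4, 6, 8, 18, 20, 10, 12, 8, 10, 6, 8, 18, 14, 12, 10, 8, 6, 4, 2, 1] .nil (.cons [16, 1, 14, 12, 10, 2, 4, 6, 8, 18, 20, 10, 12, 8, 10, 6, 8, 18, 14, 12, 10, 8, 6, 4, 2, 1] .nil (.cons [18, 4, 6, 8, 10, 2, 4, 6, 8, 18, 20, 10, 12, 8, 10, 6, 8, 18, 14, 12, 10, 8, 6, 4, 2, 1] .nil (.cons [1, 12, 6, 8, 10, 2, 4, 6, 8, 18, 20, 10, 12, 8, 10, 6, 8, 18, 14, 12, 10, 8, 6, 4, 2, 1] .nil (.cons [10, 12, 6, 8, 10, 2, 4, 6, 8, 18, 20, 10, 12, 8, 10, 6, 8, 18, 14, 12, 10, 8, 6, 4, 2, 1] .nil (.cons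 [14, 12, 6, 8, 10, 2, 4, 6, 8, 18, 20, 10, 12, 8, 10, 6, 8, 18, 14, 12, 10, 8, 6, 4, 2, 1] .nil (.cons [20, 18, 6, 8, 10, 2, 4, 6, 8, 18, 20, 10, 12, 8, 10, 6, 8, 18, 14, 12, 10, 8, 6, 4, 2, 1] .nil (.cons [18, 10, 12, 8, 10, 2, 4, 6, 8, 18, 20, 10, 12, 8, 10, 6, 8, 18, 14, 12, 10, 8, 6, 4, 2, 1] .nil (.cons [16, 14, 12, 8, 10, 2, 4, 6, 8, 18, 20, 10, 12, 8, 10, 6, 8, 18, 14, 12, 10, 8, 6, 4, 2, 1] (.cons [6, 16, 18, 4, 6, 16, 14, 12, 6, 8, 10, 4, 6, 8, 2, 4, 6, 16, 18, 2, 0, 8, 10, 6, 4, 2, 8, 6, 4, 16, 6, 8, 10, 12, 14] (.cons [14, 0, 16, 2, 0, 8, 6, 4, 2, 0, 14, 6, 8, 16] (.cons [0, 3, 3, 1, 3, 3, 1, 3, 1] .nil .nil) .nil) .nil) (.cons [20, 18, 12, 8, 10, 2, 4, 6, 8, 18, 20, 10, 12, 8, 10, 6, 8, 18, 14, 12, 10, 8, 6,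 4, 2, 1] .nil (.cons [1, 10, 12, 6, 8, 10, 4, 6, 8, 18, 20, 10, 12, 8, 10, 6, 8, 18, 14, 12, 10, 8, 6, 4, 2, 1] .nil (.cons [8, 10, 12, 6, 8, 10, 4, 6, 8, 18, 20, 10, 12, 8, 10, 6, 8, 18, 14, 12, 10, 8, 6, 4, 2, 1] .nil (.cons [14, 10, 12, 6, 8, 10, 4, 6, 8, 18, 20, 10, 12, 8, 10, 6, 8, 18, 14, 12, 10, 8, 6, 4, 2, 1] .nil (.cons [18, 10, 12, 6, 8, 10, 4, 6, 8, 18, 20, 10, 12, 8, 10, 6, 8, 18, 14, 12, 10, 8, 6, 4, 2, 1] .nil (.cons [1, 14, 12, 6, 8, 10, 4, 6, 8, 18, 20, 10, 12, 8, 10, 6, 8, 18, 14, 12, 10, 8, 6, 4, 2, 1] .nil (.cons [1, 18, 12, 6, 8, 10, 4, 6, 8, 18, 20, 10, 12, 8, 10, 6, 8, 18, 14, 12, 10, 8, 6, 4, 2, 1] .nil (.cons [8, 18, 12, 6, 8, 10, 4, 6, 8, 18, 20, 10, 12, 8, 10, 6, 8, 18, 14, 12, 10, 8, 6, 4, 2,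 1] .nil (.cons [20, 18, 12, 6, 8, 10, 4, 6, 8, 18, 20, 10, 12, 8, 10, 6, 8, 18, 14, 12, 10, 8, 6, 4, 2, 1] .nil (.cons [1, 18, 10, 12, 8, 10, 4, 6, 8, 18, 20, 10, 12, 8, 10, 6, 8, 18, 14, 12, 10, 8, 6, 4, 2, 1] .nil (.cons [1, 20, 18, 12, 8, 10, 4, 6, 8, 18, 20, 10, 12, 8, 10, 6, 8, 18, 14, 12, 10, 8, 6, 4, 2, 1] .nil (.cons [4, 1, 6, 8, 10, 2, 4, 6, 8, 18, 20, 18, 12, 8, 10, 6, 8, 18, 14, 12, 10, 8, 6, 4, 2, 1] .nil (.cons [12, 1, 6, 8, 10, 2, 4, 6, 8, 18, 20, 18, 12, 8, 10, 6, 8, 18, 14, 12, 10, 8, 6, 4, 2, 1] .nil (.cons [18, 1, 6, 8, 10, 2, 4, 6, 8, 18, 20, 18, 12, 8, 10, 6, 8, 18, 14, 12, 10, 8, 6, 4, 2, 1] .nil (.cons [1, 12, 6, 8, 10, 2, 4, 6, 8, 18, 20, 18, 12, 8, 10, 6, 8, 18, 14, 12, 10, 8, 6, 4, 2, 1] .nil (.cons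 [10, 12, 6, 8, 10, 2, 4, 6, 8, 18, 20, 18, 12, 8, 10, 6, 8, 18, 14, 12, 10, 8, 6, 4, 2, 1] (.cons [18, 16, 14, 10, 12, 8, 10, 2, 4, 6, 8, 6, 16, 4, 6, 2, 0, 4, 2, 8, 6, 10, 8, 16, 18, 6, 4, 16, 6, 8, 10, 12, 14] (.cons [8, 6, 4, 6, 14, 8, 10, 16] (.cons [0, 2, 2, 0, 2, 0, 2, 1] (.cons [3, 1, 2, 0, 2, 1, 2, 0, 2] .nil .nil) .nil) .nil) .nil) (.cons [14, 12, 6, 8, 10, 2, 4, 6, 8, 18, 20, 18, 12, 8, 10, 6, 8, 18, 14, 12, 10, 8, 6, 4, 2, 1] (.cons [12, 10, 8, 0, 2, 4, 6, 16, 18, 16, 6, 8, 4, 6, 16, 10, 12, 8, 10, 4, 6, 8, 2, 4, 6, 16, 18, 4, 2, 0, 12, 10, 6, 4, 2, 8, 6, 4, 16, 6, 8, 10, 12, 14] (.cons [12, 10, 6, 8, 14, 16, 6, 4, 2, 8, 6, 14] (.cons [2, 0, 3, 0, 0, 0, 3, 3, 1] (.cons [0, 2, 1, 3, 0, 3, 3, 1, 3, 1] .nil .nil)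 .nil) .nil) .nil) (.cons [8, 18, 6, 8, 10, 2, 4, 6, 8, 18, 20, 18, 12, 8, 10, 6, 8, 18, 14, 12, 10, 8, 6, 4, 2, 1] .nil (.cons [8, 10, 12, 6, 8, 10, 4, 6, 8, 18, 20, 18, 12, 8, 10, 6, 8, 18, 14, 12, 10, 8, 6, 4, 2, 1] .nil (.cons [1, 14, 12, 6, 8, 10, 4, 6, 8, 18, 20, 18, 12, 8, 10, 6, 8, 18, 14, 12, 10, 8, 6, 4, 2, 1] .nil (.cons [16, 14, 12, 6, 8, 10, 4, 6, 8, 18, 20, 18, 12, 8, 10, 6, 8, 18, 14, 12, 10, 8, 6, 4, 2, 1] .nil (.cons [8, 18, 12, 6, 8, 10, 4, 6, 8, 18, 20, 18, 12, 8, 10, 6, 8, 18, 14, 12, 10, 8, 6, 4, 2, 1] .nil (.cons [1, 8, 18, 6, 8, 10, 4, 6, 8, 18, 20, 18, 12, 8, 10, 6, 8, 18, 14, 12, 10, 8, 6, 4, 2, 1] .nil (.cons [10, 8, 18, 6, 8, 10, 4, 6, 8, 18, 20, 18, 12, 8, 10, 6, 8, 18, 14, 12, 10, 8, 6, 4, 2,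 1] .nil (.cons [12, 1, 4, 6, 8, 10, 2, 4, 6, 8, 18, 20, 12, 8, 10, 6, 8, 18, 14, 12, 10, 8, 6, 4, 2, 1] .nil (.cons [18, 1, 4, 6, 8, 10, 2, 4, 6, 8, 18, 20, 12, 8, 10, 6, 8, 18, 14, 12, 10, 8, 6, 4, 2, 1] .nil (.cons [16, 1, 14, 12, 8, 10, 2, 4, 6, 8, 18, 20, 12, 8, 10, 6, 8, 18, 14, 12, 10, 8, 6, 4, 2, 1] .nil (.cons [1, 12, 4, 6, 8, 10, 2, 4, 6, 8, 18, 20, 12, 8, 10, 6, 8, 18, 14, 12, 10, 8, 6, 4, 2, 1] .nil (.cons [14, 12, 4, 6, 8, 10, 2, 4, 6, 8, 18, 20, 12, 8, 10, 6, 8, 18, 14, 12, 10, 8, 6, 4, 2, 1] .nil (.cons [8, 18, 4, 6, 8, 10, 2, 4, 6, 8, 18, 20, 12, 8, 10, 6, 8, 18, 14, 12, 10, 8, 6, 4, 2, 1] .nil (.cons [18, 10, 12, 6, 8, 10, 2, 4, 6, 8, 18, 20, 12, 8, 10, 6, 8, 18, 14, 12, 10, 8, 6, 4, 2, 1] (.cons [12, 10,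 8, 6, 4, 0, 2, 12, 4, 8, 6, 10, 8, 16, 18, 6, 4, 16, 6, 8, 10, 12, 14] (.cons [10, 8, 4, 6, 14, 4, 2] (.cons [0, 0, 2, 0, 2, 2, 1] (.cons [0, 3, 0, 3, 1, 2, 2] .nil .nil) .nil) .nil) .nil) (.cons [18, 14, 12, 6, 8, 10, 2, 4, 6, 8, 18, 20, 12, 8, 10, 6, 8, 18, 14, 12, 10, 8, 6, 4, 2, 1] (.cons [6, 16, 18, 12, 10, 6, 8, 4, 6, 16, 14, 12, 8, 10, 6, 4, 8, 6, 2, 0, 4, 2, 12, 6, 10, 8, 16, 18, 6, 4, 16, 6, 8, 10, 12, 14] (.cons [14, 12, 8, 10, 6, 8, 4, 6, 14, 2, 4] .nil .nil) .nil) (.cons [8, 18, 12, 6, 8, 10, 2, 4, 6, 8, 18, 20, 12, 8, 10, 6, 8, 18, 14, 12, 10, 8, 6, 4, 2, 1] .nil (.cons [14, 8, 10, 12, 6, 8, 10, 4, 6, 8, 18, 20, 12, 8, 10, 6, 8, 18, 14, 12, 10, 8, 6, 4, 2, 1] .nil (.cons [16, 14, 10, 12, 6, 8, 10, 4, 6, 8,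 18, 20, 12, 8, 10, 6, 8, 18, 14, 12, 10, 8, 6, 4, 2, 1] .nil (.cons [1, 18, 10, 12, 6, 8, 10, 4, 6, 8, 18, 20, 12, 8, 10, 6, 8, 18, 14, 12, 10, 8, 6, 4, 2, 1] .nil (.cons [8, 18, 10, 12, 6, 8, 10, 4, 6, 8, 18, 20, 12, 8, 10, 6, 8, 18, 14, 12, 10, 8, 6, 4, 2, 1] .nil (.cons [1, 16, 14, 12, 6, 8, 10, 4, 6, 8, 18, 20, 12, 8, 10, 6, 8, 18, 14, 12, 10, 8, 6, 4, 2, 1] .nil (.cons [18, 16, 14, 12, 6, 8, 10, 4, 6, 8, 18, 20, 12, 8, 10, 6, 8, 18, 14, 12, 10, 8, 6, 4, 2, 1] .nil (.cons [8, 18, 14, 12, 6, 8, 10, 4, 6, 8, 18, 20, 12, 8, 10, 6, 8, 18, 14, 12, 10, 8, 6, 4, 2, 1] .nil (.cons [1, 8, 18, 12, 6, 8, 10, 4, 6, 8, 18, 20, 12, 8, 10, 6, 8, 18, 14, 12, 10, 8, 6, 4, 2, 1] .nil (.cons [10, 8, 18, 12, 6, 8, 10, 4, 6, 8, 18, 20,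 12, 8, 10, 6, 8, 18, 14, 12, 10, 8, 6, 4, 2, 1] .nil (.cons [20, 10, 8, 18, 6, 8, 10, 4, 6, 8, 18, 20, 12, 8, 10, 6, 8, 18, 14, 12, 10, 8, 6, 4, 2, 1] .nil (.cons [1, 20, 8, 18, 6, 8, 10, 4, 6, 8, 18, 20, 12, 8, 10, 6, 8, 18, 14, 12, 10, 8, 6, 4, 2, 1] .nil (.cons [18, 20, 8, 18, 6, 8, 10, 4, 6, 8, 18, 20, 12, 8, 10, 6, 8, 18, 14, 12, 10, 8, 6, 4, 2, 1] .nil (.cons [1, 18, 16, 14, 12, 8, 10, 4, 6, 8, 18, 20, 12, 8, 10, 6, 8, 18, 14, 12, 10, 8, 6, 4, 2, 1] .nil (.cons [8, 1, 10, 12, 6, 8, 10, 2, 4, 6, 8, 18, 20, 8, 10, 6, 8, 18, 14, 12, 10, 8, 6, 4, 2, 1] .nil (.cons [16, 14, 8, 10, 12, 6, 8, 10, 4, 6, 8, 18, 20, 8, 10, 6, 8, 18, 14, 12, 10, 8, 6, 4, 2, 1] (.cons [16, 18, 6, 8, 2, 4, 6, 16, 10, 12, 8, 10, 4, 6, 8, 2, 4,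 6, 16, 18, 2, 0, 12, 10, 6, 4, 2, 8, 6, 4, 16, 6, 8, 10, 12, 14] (.cons [4, 6, 14, 10, 12, 6, 4, 2, 6, 4, 8, 10] (.cons [0, 3, 1, 3, 0, 2, 2] (.cons [0, 3, 1, 2, 0] .nil .nil) .nil) .nil) .nil) (.cons [18, 14, 8, 10, 12, 6, 8, 10, 4, 6, 8, 18, 20, 8, 10, 6, 8, 18, 14, 12, 10, 8, 6, 4, 2, 1] (.cons [4, 6, 16, 18, 16, 6, 8, 4, 6, 16, 10, 12, 8, 10, 6, 8, 2, 4, 6, 16, 18, 4, 2, 0, 12, 10, 6, 4, 2, 8, 6, 4, 16, 6, 8, 10, 12, 14] (.cons [2, 14, 0, 6, 4, 14, 8, 6, 14] (.cons [0, 3, 1, 1, 1, 2, 0, 0, 0, 3] .nil .nil) .nil) .nil) (.cons [20, 18, 8, 10, 12, 6, 8, 10, 4, 6, 8, 18, 20, 8, 10, 6, 8, 18, 14, 12, 10, 8, 6, 4, 2, 1] .nil (.cons [16, 10, 12, 0, 2, 1, 4, 6, 8, 18, 20, 18, 8, 10, 4, 6, 8, 18, 14, 12, 10, 8, 6, 4, 2, 0] .nil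 (.cons [1, 16, 14, 10, 12, 6, 8, 10, 4, 6, 8, 18, 20, 8, 10, 6, 8, 18, 14, 12, 10, 8, 6, 4, 2, 1] .nil (.cons [14, 10, 16, 0, 2, 1, 4, 6, 8, 18, 20, 18, 12, 8, 10, 6, 8, 18, 14, 12, 10, 8, 6, 4, 2, 0] .nil (.cons [12, 18, 20, 10, 8, 18, 6, 8, 10, 4, 6, 8, 18, 20, 12, 10, 8, 18, 14, 12, 10, 8, 6, 4, 2, 1] .nil (.cons [14, 1, 12, 4, 6, 8, 10, 2, 4, 6, 8, 18, 20, 12, 10, 6, 8, 18, 14, 12, 10, 8, 6, 4, 2, 1] .nil (.cons [16, 1, 14, 12, 6, 8, 10, 2, 4, 6, 8, 18, 20, 12, 10, 6, 8, 18, 14, 12, 10, 8, 6, 4, 2, 1] .nil (.cons [8, 1, 18, 12, 6, 8, 10, 2, 4, 6, 8, 18, 20, 12, 10, 6, 8, 18, 14, 12, 10, 8, 6, 4, 2, 1] .nil (.cons [18, 1, 16, 14, 12, 8, 10, 2, 4, 6, 8, 18, 20, 12, 10, 6, 8, 18, 14, 12, 10, 8, 6, 4, 2, 1] .nil (.cons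 [1, 14, 12, 4, 6, 8, 10, 2, 4, 6, 8, 18, 20, 12, 10, 6, 8, 18, 14, 12, 10, 8, 6, 4, 2, 1] .nil (.cons [16, 14, 12, 4, 6, 8, 10, 2, 4, 6, 8, 18, 20, 12, 10, 6, 8, 18, 14, 12, 10, 8, 6, 4, 2, 1] .nil (.cons [18, 14, 12, 4, 6, 8, 10, 2, 4, 6, 8, 18, 20, 12, 10, 6, 8, 18, 14, 12, 10, 8, 6, 4, 2, 1] .nil (.cons [8, 18, 12, 4, 6, 8, 10, 2, 4, 6, 8, 18, 20, 12, 10, 6, 8, 18, 14, 12, 10, 8, 6, 4, 2, 1] .nil (.cons [1, 16, 14, 12, 6, 8, 10, 2, 4, 6, 8, 18, 20, 12, 10, 6, 8, 18, 14, 12, 10, 8, 6, 4, 2, 1] .nil (.cons [8, 18, 14, 12, 6, 8, 10, 2, 4, 6, 8, 18, 20, 12, 10, 6, 8, 18, 14, 12, 10, 8, 6, 4, 2, 1] .nil (.cons [1, 18, 16, 14, 12, 6, 8, 10, 4, 6, 8, 18, 20, 12, 10, 6, 8, 18, 14, 12, 10, 8, 6, 4, 2, 1] .nil (.cons [8, 18, 16,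 14, 12, 6, 8, 10, 4, 6, 8, 18, 20, 12, 10, 6, 8, 18, 14, 12, 10, 8, 6, 4, 2, 1] .nil (.cons [20, 18, 16, 14, 12, 6, 8, 10, 4, 6, 8, 18, 20, 12, 10, 6, 8, 18, 14, 12, 10, 8, 6, 4, 2, 1] .nil (.cons [1, 8, 18, 14, 12, 6, 8, 10, 4, 6, 8, 18, 20, 12, 10, 6, 8, 18, 14, 12, 10, 8, 6, 4, 2, 1] .nil (.cons [10, 8, 18, 14, 12, 6, 8, 10, 4, 6, 8, 18, 20, 12, 10, 6, 8, 18, 14, 12, 10, 8, 6, 4, 2, 1] .nil (.cons [20, 10, 8, 18, 12, 6, 8, 10, 4, 6, 8, 18, 20, 12, 10, 6, 8, 18, 14, 12, 10, 8, 6, 4, 2, 1] .nil (.cons [1, 20, 8, 18, 12, 6, 8, 10, 4, 6, 8, 18, 20, 12, 10, 6, 8, 18, 14, 12, 10, 8, 6, 4, 2, 1] .nil (.cons [14, 12, 10, 8, 18, 6, 8, 10, 4, 6, 8, 18, 20, 12, 10, 6, 8, 18, 14, 12, 10, 8, 6, 4, 2, 1] .nil (.cons [20, 12, 10, 8,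 18, 6, 8, 10, 4, 6, 8, 18, 20, 12, 10, 6, 8, 18, 14, 12, 10, 8, 6, 4, 2, 1] .nil (.cons [1, 18, 20, 8, 18, 6, 8, 10, 4, 6, 8, 18, 20, 12, 10, 6, 8, 18, 14, 12, 10, 8, 6, 4, 2, 1] .nil (.cons [1, 14, 12, 10, 8, 18, 6, 8, 10, 4, 6, 8, 18, 20, 12, 10, 8, 18, 14, 12, 10, 8, 6, 4, 2, 1] .nil (.cons [20, 14, 12, 10, 8, 18, 6, 8, 10, 4, 6, 8, 18, 20, 12, 10, 8, 18, 14, 12, 10, 8, 6, 4, 2, 1] (.cons [10, 8, 4, 6, 16, 18, 16, 6, 8, 4, 6, 16, 10, 12, 8, 10, 4, 6, 8, 2, 4, 6, 16, 18, 2, 0, 8, 10, 16, 6, 4, 2, 8, 6, 4, 16, 6, 8, 10, 12, 14] (.cons [10, 4, 2, 16, 4, 6, 8, 10] (.cons [1, 1, 2, 0, 3, 3, 0, 0, 3] .nil .nil) .nil) .nil) (.cons [18, 10, 12, 8, 10, 6, 8, 18, 20, 14, 12, 10, 8, 18, 16, 14, 12, 10, 8, 4, 6, 2, 1, 4, 2, 1] .nil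 (.cons [18, 8, 10, 6, 8, 18, 12, 14, 10, 12, 8, 10, 6, 8, 18, 16, 14, 12, 10, 8, 6, 2, 1, 4, 2, 1] .nil (.cons [10, 8, 18, 20, 8, 18, 12, 14, 10, 12, 8, 10, 6, 8, 18, 16, 14, 12, 10, 8, 6, 2, 1, 4, 2, 1] (.cons [16, 18, 8, 6, 16, 10, 12, 6, 8, 10, 4, 6, 8, 2, 4, 6, 16, 18, 4, 2, 0, 8, 12, 10, 6, 4, 2, 8, 6, 4, 16, 6, 8, 10, 12, 14] (.cons [10, 12, 6, 14, 8, 10, 0, 2, 8] (.cons [1, 3, 0, 0, 3, 3, 1, 3, 1] (.cons [3, 1, 2, 1, 1, 2] .nil .nil) .nil) .nil) .nil) (.cons [10, 6, 8, 18, 20, 18, 12, 14, 10, 12, 8, 10, 6, 8, 18, 16, 14, 12, 10, 8, 6, 2, 1, 4, 2, 1] .nil (.cons [10, 4, 6, 8, 18, 20, 12, 14, 10, 12, 8, 10, 6, 8, 18, 16, 14, 12, 10, 8, 6, 2, 1, 4, 2, 1] .nil (.cons [12, 10, 6, 8, 18, 20, 12, 14, 10, 12, 8, 10, 6, 8,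 18, 16, 14, 12, 10, 8, 6, 2, 1, 4, 2, 1] .nil (.cons [14, 12, 10, 8, 18, 20, 12, 14, 10, 12, 8, 10, 6, 8, 18, 16, 14, 12, 10, 8, 6, 2, 1, 4, 2, 1] .nil (.cons [12, 10, 8, 18, 20, 8, 18, 14, 10, 12, 8, 10, 6, 8, 18, 16, 14, 12, 10, 8, 6, 2, 1, 4, 2, 1] .nil (.cons [12, 10, 6, 8, 18, 20, 18, 14, 10, 12, 8, 10, 6, 8, 18, 16, 14, 12, 10, 8, 6, 2, 1, 4, 2, 1] .nil (.cons [8, 10, 4, 6, 8, 18, 20, 14, 10, 12, 8, 10, 6, 8, 18, 16, 14, 12, 10, 8, 6, 2, 1, 4, 2, 1] .nil (.cons [18, 8, 10, 6, 8, 18, 20, 14, 10, 12, 8, 10, 6, 8, 18, 16, 14, 12, 10, 8, 6, 2, 1, 4, 2, 1] .nil (.cons [14, 12, 10, 8, 18, 20, 8, 18, 10, 12, 8, 10, 6, 8, 18, 16, 14, 12, 10, 8, 6, 2, 1, 4, 2, 1] .nil (.cons [14, 12, 10, 6, 8, 18, 20, 18, 10, 12, 8, 10, 6,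 8, 18, 16, 14, 12, 10, 8, 6, 2, 1, 4, 2, 1] .nil (.cons [14, 12, 10, 4, 6, 8, 18, 20, 10, 12, 8, 10, 6, 8, 18, 16, 14, 12, 10, 8, 6, 2, 1, 4, 2, 1] .nil (.cons [14, 12, 8, 10, 6, 8, 18, 20, 10, 12, 8, 10, 6, 8, 18, 16, 14, 12, 10, 8, 6, 2, 1, 4, 2, 1] .nil (.cons [16, 14, 12, 10, 6, 8, 18, 20, 10, 12, 8, 10, 6, 8, 18, 16, 14, 12, 10, 8, 6, 2, 1, 4, 2, 1] .nil (.cons [12, 10, 4, 6, 8, 18, 20, 18, 14, 12, 8, 10, 6, 8, 18, 16, 14, 12, 10, 8, 6, 2, 1, 4, 2, 1] .nil (.cons [16, 14, 12, 10, 8, 18, 20, 18, 14, 12, 8, 10, 6, 8, 18, 16, 14, 12, 10, 8, 6, 2, 1, 4, 2, 1] .nil (.cons [10, 14, 0, 2, 4, 6, 8, 18, 20, 12, 8, 10, 6, 8, 18, 16, 14, 12, 10, 8, 6, 2, 1, 4, 2, 1] .nil (.cons [14, 12, 8, 10, 6, 8, 18, 20, 14, 12, 8, 10, 6,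 8, 18, 16, 14, 12, 10, 8, 6, 2, 1, 4, 2, 1] (.cons [18, 2, 4, 6, 16, 10, 12, 8, 10, 6, 8, 4, 6, 16, 18, 4, 2, 0, 6, 4, 2, 8, 6, 4, 16, 6, 8, 10, 12, 14] (.cons [0, 4, 2, 0, 8, 16, 14, 6, 8] (.cons [2, 2, 1, 1, 2, 1, 2, 1, 1, 1] (.cons [1, 3, 0, 2, 2, 0, 3, 0] .nil .nil) .nil) .nil) .nil) (.cons [18, 12, 8, 10, 6, 8, 18, 20, 14, 12, 8, 10, 6, 8, 18, 16, 14, 12, 10, 8, 6, 2, 1, 4, 2, 1] .nil (.cons [10, 12, 8, 10, 4, 6, 8, 18, 20, 12, 8, 10, 6, 8, 18, 16, 14, 12, 10, 8, 6, 2, 1, 4, 2, 1] .nil (.cons [14, 10, 12, 8, 10, 6, 8, 18, 20, 12, 8, 10, 6, 8, 18, 16, 14, 12, 10, 8, 6, 2, 1, 4, 2, 1] (.cons [16, 18, 10, 12, 16, 6, 8, 10, 4, 6, 16, 6, 4, 2, 8, 6, 4, 0, 2, 12, 4, 6, 10, 8, 16, 18, 6, 4, 16, 6, 8, 10, 12, 14] (.cons [8,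 10, 6, 8, 2, 14, 16, 14, 6, 4, 2, 8, 6, 14] (.cons [0, 2, 2, 1, 3, 1, 1, 2, 1] (.cons [2, 0, 3, 0, 2, 2, 2, 0, 3, 1] .nil .nil) .nil) .nil) .nil) (.cons [18, 14, 12, 8, 10, 6, 8, 18, 20, 12, 8, 10, 6, 8, 18, 16, 14, 12, 10, 8, 6, 2, 1, 4, 2, 1] .nil (.cons [14, 12, 8, 10, 4, 6, 8, 18, 20, 14, 12, 10, 6, 8, 18, 16, 14, 12, 10, 8, 6, 2, 1, 4, 2, 1] .nil (.cons [14, 10, 12, 8, 10, 6, 8, 18, 20, 14, 12, 10, 6, 8, 18, 16, 14, 12, 10, 8, 6, 2, 1, 4, 2, 1] .nil (.cons [16, 14, 12, 8, 10, 6, 8, 18, 20, 14, 12, 10, 6, 8, 18, 16, 14, 12, 10, 8, 6, 2, 1, 4, 2, 1] .nil (.cons [18, 14, 12, 8, 10, 6, 8, 18, 20, 14, 12, 10, 6, 8, 18, 16, 14, 12, 10, 8, 6, 2, 1, 4, 2, 1] .nil (.cons [14, 12, 10, 1, 2, 4, 6, 8, 18, 20, 12, 10, 6, 8, 18,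 16, 14, 12, 10, 8, 6, 2, 1, 4, 2, 1] .nil (.cons [16, 14, 12, 8, 10, 4, 6, 8, 18, 20, 12, 10, 6, 8, 18, 16, 14, 12, 10, 8, 6, 2, 1, 4, 2, 1] .nil (.cons [8, 18, 10, 12, 8, 10, 6, 8, 18, 20, 14, 12, 10, 8, 18, 16, 14, 12, 10, 8, 6, 2, 1, 4, 2, 1] .nil (.cons [16, 14, 12, 10, 8, 18, 20, 8, 18, 10, 12, 8, 10, 6, 8, 18, 14, 12, 10, 8, 6, 2, 1, 4, 2, 1] .nil (.cons [14, 12, 8, 10, 6, 8, 18, 20, 18, 10, 12, 8, 10, 6, 8, 18, 14, 12, 10, 8, 6, 2, 1, 4, 2, 1] .nil (.cons [16, 14, 12, 10, 6, 8, 18, 20, 18, 10, 12, 8, 10, 6, 8, 18, 14, 12, 10, 8, 6, 2, 1, 4, 2, 1] .nil (.cons [12, 6, 8, 10, 4, 6, 8, 18, 20, 10, 12, 8, 10, 6, 8, 18, 14, 12, 10, 8, 6, 2, 1, 4, 2, 1] .nil (.cons [14, 12, 8, 10, 4, 6, 8, 18, 20, 10, 12, 8, 10, 6, 8, 18,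 14, 12, 10, 8, 6, 2, 1, 4, 2, 1] .nil (.cons [16, 14, 12, 8, 10, 6, 8, 18, 20, 10, 12, 8, 10, 6, 8, 18, 14, 12, 10, 8, 6, 2, 1, 4, 2, 1] (.cons [18, 8, 6, 16, 8, 10, 4, 6, 8, 2, 4, 6, 16, 18, 2, 0, 12, 10, 16, 6, 4, 2, 8, 6, 4, 16, 6, 8, 10, 12, 14] (.cons [4, 12, 10, 2, 12, 8, 10] (.cons [1, 2, 1, 1, 2, 2, 1, 3, 1] .nil .nil) .nil) .nil) (.cons [1, 2, 1, 4, 6, 8, 18, 20, 14, 12, 6, 8, 10, 4, 6, 8, 18, 16, 14, 12, 10, 8, 6, 4, 2, 1] .nil (.cons [1, 10, 2, 1, 4, 6, 8, 18, 20, 12, 6, 8, 10, 4, 6, 8, 18, 16, 14, 12, 10, 8, 6, 4, 2, 0] .nil (.cons [12, 10, 2, 1, 4, 6, 8, 18, 20, 12, 6, 8, 10, 4, 6, 8, 18, 16, 14, 12, 10, 8, 6, 4, 2, 0] (.cons [6, 16, 18, 2, 4, 6, 16, 12, 8, 10, 4, 6, 8, 2, 4, 6, 16, 18, 2, 0, 12, 10, 16, 6,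 4, 2, 8, 6, 4, 16, 6, 8, 10, 12, 14] (.cons [8, 6, 14, 6, 4, 2, 6, 4, 8] (.cons [3, 1, 3, 0, 0, 3, 0, 0, 2] (.cons [2, 0, 2, 2, 0, 3, 1, 2, 2, 0] .nil .nil) .nil) .nil) .nil) (.cons [12, 1, 10, 2, 1, 4, 6, 8, 18, 20, 6, 8, 10, 4, 6, 8, 18, 16, 14, 12, 10, 8, 6, 4, 2, 1] .nil (.cons [12, 8, 10, 2, 1, 4, 6, 8, 18, 20, 6, 8, 10, 4, 6, 8, 18, 16, 14, 12, 10, 8, 6, 4, 2, 1] .nil (.cons [1, 12, 10, 2, 1, 4, 6, 8, 18, 20, 6, 8, 10, 4, 6, 8, 18, 16, 14, 12, 10, 8, 6, 4, 2, 1] .nil (.cons [14, 12, 10, 2, 1, 4, 6, 8, 18, 20, 6, 8, 10, 4, 6, 8, 18, 16, 14, 12, 10, 8, 6, 4, 2, 1] .nil (.cons [0, 2, 1, 4, 6, 8, 18, 20, 18, 14, 12, 8, 10, 4, 6, 8, 18, 16, 14, 12, 10, 8, 6, 4, 2, 1] .nil (.cons [10, 2, 1, 4, 6, 8, 18, 20, 18, 14, 12,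 8, 10, 4, 6, 8, 18, 16, 14, 12, 10, 8, 6, 4, 2, 1] .nil (.cons [10, 1, 2, 1, 4, 6, 8, 18, 20, 14, 12, 8, 10, 4, 6, 8, 18, 16, 14, 12, 10, 8, 6, 4, 2, 0] .nil (.cons [8, 10, 2, 1, 4, 6, 8, 18, 20, 14, 12, 8, 10, 4, 6, 8, 18, 16, 14, 12, 10, 8, 6, 4, 2, 0] .nil (.cons [10, 16, 0, 2, 1, 4, 6, 8, 18, 20, 18, 12, 8, 10, 4, 6, 8, 18, 14, 12, 10, 8, 6, 4, 2, 1] .nil (.cons [12, 1, 10, 2, 1, 4, 6, 8, 18, 20, 12, 8, 10, 4, 6, 8, 18, 16, 14, 12, 10, 8, 6, 4, 2, 1] .nil (.cons [12, 8, 10, 2, 1, 4, 6, 8, 18, 20, 12, 8, 10, 4, 6, 8, 18, 16, 14, 12, 10, 8, 6, 4, 2, 1] (.cons [2, 4, 6, 16, 18, 10, 8, 6, 16, 12, 8, 10, 4, 6, 8, 2, 4, 6, 16, 18, 4, 2, 0, 8, 12, 10, 6, 4, 2, 8, 6, 4, 16, 6, 8, 10, 12, 14] (.cons [14, 2, 10, 12, 6, 4, 2,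 8] (.cons [3, 0, 3, 3, 0, 2, 0, 0, 3, 0] .nil .nil) .nil) .nil) (.cons [18, 8, 10, 2, 1, 4, 6, 8, 18, 20, 12, 8, 10, 4, 6, 8, 18, 16, 14, 12, 10, 8, 6, 4, 2, 1] (.cons [8, 6, 16, 18, 2, 4, 6, 16, 8, 10, 4, 6, 8, 0, 2, 4, 6, 16, 18, 2, 0, 12, 10, 16, 6, 4, 2, 8, 6, 4, 16, 6, 8, 10, 12, 14] (.cons [4, 12, 10, 2, 14, 8, 6, 14] (.cons [0, 2, 1, 1, 2, 1, 3, 1, 2, 1] .nil .nil) .nil) .nil) (.cons [12, 16, 8, 14, 10, 1, 2, 1, 4, 6, 8, 18, 20, 8, 10, 4, 6, 8, 18, 12, 10, 8, 6, 4, 2, 0] .nil (.cons [14, 12, 8, 10, 2, 1, 4, 6, 8, 18, 20, 8, 10, 4, 6, 8, 18, 16, 14, 12, 10, 8, 6, 4, 2, 0] .nil (.cons [18, 12, 8, 10, 2, 1, 4, 6, 8, 18, 20, 8, 10, 4, 6, 8, 18, 16, 14, 12, 10, 8, 6, 4, 2, 0] .nil (.cons [12, 8, 10, 2, 1, 4, 6, 8, 18,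 20, 14, 12, 10, 4, 6, 8, 18, 16, 14, 12, 10, 8, 6, 4, 2, 1] .nil (.cons [18, 8, 10, 2, 1, 4, 6, 8, 18, 20, 14, 12, 10, 4, 6, 8, 18, 16, 14, 12, 10, 8, 6, 4, 2, 1] .nil (.cons [1, 12, 10, 2, 1, 4, 6, 8, 18, 20, 14, 12, 10, 4, 6, 8, 18, 16, 14, 12, 10, 8, 6, 4, 2, 1] (.cons [12, 10, 8, 6, 14, 12, 10, 4, 2, 6, 16, 8, 6, 4, 0, 2, 4, 6, 10, 8, 16, 18, 6, 4, 16, 6, 8, 10, 12, 14] (.cons [12, 10, 6, 8, 4, 6, 2, 4, 16, 14, 10, 8] (.cons [2, 1, 1, 2, 0, 0, 2, 2, 0] (.cons [3, 3, 0, 2, 0, 3, 1, 1, 3] .nil .nil) .nil) .nil) .nil) (.cons [12, 1, 8, 10, 2, 1, 4, 6, 8, 18, 20, 12, 10, 4, 6, 8, 18, 16, 14, 12, 10, 8, 6, 4, 2, 0] .nil (.cons [12, 6, 8, 10, 2, 1, 4, 6, 8, 18, 20, 12, 10, 4, 6, 8, 18, 16, 14, 12, 10, 8, 6, 4, 2, 0] (.cons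 [6, 16, 18, 8, 6, 16, 14, 10, 12, 8, 10, 4, 6, 8, 2, 4, 6, 16, 18, 2, 0, 8, 12, 10, 6, 4, 2, 8, 6, 4, 16, 6, 8, 10, 12, 14] (.cons [2, 4, 6, 2, 14, 6, 8] (.cons [2, 0, 0, 2, 1, 1, 2, 0, 0, 0, 3] .nil .nil) .nil) .nil) (.cons [1, 12, 8, 10, 2, 1, 4, 6, 8, 18, 20, 12, 10, 4, 6, 8, 18, 16, 14, 12, 10, 8, 6, 4, 2, 0] .nil (.cons [14, 12, 8, 10, 2, 1, 4, 6, 8, 18, 20, 12, 10, 4, 6, 8, 18, 16, 14, 12, 10, 8, 6, 4, 2, 0] (.cons [16, 18, 8, 6, 16, 10, 12, 6, 8, 10, 4, 6, 8, 2, 4, 6, 16, 18, 4, 2, 0, 12, 10, 16, 6, 4, 2, 8, 6, 4, 16, 6, 8, 10, 12, 14] (.cons [6, 12, 4, 6, 0, 2, 4, 8, 10, 6, 8] (.cons [3, 0, 2, 1, 2, 1, 1, 1, 2, 0] (.cons [3, 0, 0, 3, 3, 1, 3, 1, 2, 2] .nil .nil) .nil) .nil) .nil) (.cons [18, 12, 8, 10, 2, 1, 4,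 6, 8, 18, 20, 12, 10, 4, 6, 8, 18, 16, 14, 12, 10, 8, 6, 4, 2, 0] .nil (.cons [1, 14, 12, 10, 2, 1, 4, 6, 8, 18, 20, 12, 10, 4, 6, 8, 18, 16, 14, 12, 10, 8, 6, 4, 2, 0] .nil (.cons [14, 1, 12, 8, 10, 2, 1, 4, 6, 8, 18, 20, 10, 4, 6, 8, 18, 16, 14, 12, 10, 8, 6, 4, 2, 1] .nil (.cons [20, 1, 18, 8, 10, 2, 1, 4, 6, 8, 18, 20, 10, 4, 6, 8, 18, 16, 14, 12, 10, 8, 6, 4, 2, 1] (.cons [18, 16, 10, 6, 8, 2, 4, 6, 16, 18, 2, 0, 12, 10, 16, 6, 4, 2, 8, 6, 4, 16, 6, 8, 10, 12, 14] (.cons [12, 10, 8, 6, 14, 6, 8, 6, 4, 2, 10, 8] (.cons [0, 0, 3, 3, 0, 2, 1, 1, 3, 0] .nil .nil) .nil) .nil) (.cons [16, 1, 14, 12, 10, 2, 1, 4, 6, 8, 18, 20, 10, 4, 6, 8, 18, 16, 14, 12, 10, 8, 6, 4, 2, 1] .nil (.cons [1, 10, 12, 8, 10, 2, 1, 4, 6, 8, 18,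 20, 10, 4, 6, 8, 18, 16, 14, 12, 10, 8, 6, 4, 2, 1] .nil (.cons [14, 10, 12, 8, 10, 2, 1, 4, 6, 8, 18, 20, 10, 4, 6, 8, 18, 16, 14, 12, 10, 8, 6, 4, 2, 1] .nil (.cons [18, 10, 12, 8, 10, 2, 1, 4, 6, 8, 18, 20, 10, 4, 6, 8, 18, 16, 14, 12, 10, 8, 6, 4, 2, 1] .nil (.cons [1, 14, 12, 8, 10, 2, 1, 4, 6, 8, 18, 20, 10, 4, 6, 8, 18, 16, 14, 12, 10, 8, 6, 4, 2, 1] .nil (.cons [18, 14, 12, 8, 10, 2, 1, 4, 6, 8, 18, 20, 10, 4, 6, 8, 18, 16, 14, 12, 10, 8, 6, 4, 2, 1] .nil (.cons [20, 18, 12, 8, 10, 2, 1, 4, 6, 8, 18, 20, 10, 4, 6, 8, 18, 16, 14, 12, 10, 8, 6, 4, 2, 1] .nil (.cons [1, 12, 10, 2, 1, 4, 6, 8, 18, 20, 14, 12, 8, 10, 6, 8, 18, 16, 14, 12, 10, 8, 6, 4, 2, 1] .nil (.cons [14, 12, 10, 2, 1, 4, 6, 8, 18, 20, 14, 12, 8, 10,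 6, 8, 18, 16, 14, 12, 10, 8, 6, 4, 2, 1] .nil (.cons [8, 16, 10, 12, 0, 2, 1, 4, 6, 8, 18, 20, 18, 8, 10, 6, 8, 18, 14, 12, 10, 8, 6, 4, 2, 1] .nil (.cons [6, 8, 10, 2, 1, 4, 6, 8, 18, 20, 18, 12, 8, 10, 6, 8, 18, 16, 14, 12, 10, 8, 6, 4, 2, 1] .nil (.cons [6, 18, 8, 10, 4, 6, 8, 18, 20, 18, 10, 12, 8, 10, 6, 8, 18, 16, 14, 12, 10, 8, 6, 4, 2, 0] (.cons [6, 8, 0, 2, 4, 6, 16, 18, 16, 10, 6, 8, 4, 6, 16, 10, 12, 8, 10, 4, 6, 8, 2, 4, 6, 16, 18, 4, 2, 0, 12, 10, 6, 4, 2, 8, 6, 4, 16, 6, 8, 10, 12, 14] (.cons [12, 10, 8, 12, 10, 6, 4, 2, 8, 6, 14, 10] (.cons [2, 2, 1, 1, 2, 1, 1, 1, 3, 3] (.cons [2, 1, 2, 2, 2, 0, 2, 0, 3, 0] .nil .nil) .nil) .nil) .nil) (.cons [12, 18, 8, 10, 4, 6, 8, 18, 20, 18, 10, 12, 8, 10, 6, 8, 18,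 16, 14, 12, 10, 8, 6, 4, 2, 0] .nil (.cons [12, 6, 8, 10, 2, 1, 4, 6, 8, 18, 20, 12, 8, 10, 6, 8, 18, 16, 14, 12, 10, 8, 6, 4, 2, 0] (.cons [16, 18, 8, 4, 6, 16, 10, 12, 6, 8, 10, 4, 6, 8, 2, 4, 6, 16, 18, 4, 2, 0, 12, 10, 6, 4, 2, 8, 6, 4, 16, 6, 8, 10, 12, 14] (.cons [12, 10, 16, 4, 2, 14, 6, 8, 10, 16] .nil .nil) .nil) (.cons [14, 1, 12, 10, 2, 1, 4, 6, 8, 18, 20, 14, 12, 10, 6, 8, 18, 16, 14, 12, 10, 8, 6, 4, 2, 0] .nil (.cons [10, 12, 8, 10, 2, 1, 4, 6, 8, 18, 20, 14, 12, 10, 6, 8, 18, 16, 14, 12, 10, 8, 6, 4, 2, 0] .nil (.cons [1, 14, 12, 10, 2, 1, 4, 6, 8, 18, 20, 14, 12, 10, 6, 8, 18, 16, 14, 12, 10, 8, 6, 4, 2, 0] .nil (.cons [16, 14, 12, 10, 2, 1, 4, 6, 8, 18, 20, 14, 12, 10, 6, 8, 18, 16, 14, 12, 10, 8, 6, 4,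 2, 0] (.cons [16, 18, 8, 2, 4, 6, 16, 10, 12, 6, 8, 10, 4, 6, 8, 2, 4, 6, 16, 18, 2, 0, 10, 6, 4, 2, 8, 6, 4, 16, 6, 8, 10, 12, 14] (.cons [4, 16, 2, 4, 14, 6, 8, 16] (.cons [2, 0, 2, 1, 1, 3, 0, 3, 3, 0] (.cons [3, 3, 3, 1, 2, 1, 2, 0, 2, 0] .nil .nil) .nil) .nil) .nil) (.cons [12, 10, 6, 4, 6, 8, 18, 20, 8, 18, 10, 12, 8, 10, 6, 8, 18, 16, 14, 12, 10, 8, 6, 4, 2, 0] .nil (.cons [14, 12, 8, 1, 10, 2, 1, 4, 6, 8, 18, 20, 12, 10, 6, 8, 18, 16, 14, 12, 10, 8, 6, 4, 2, 1] .nil (.cons [16, 1, 14, 12, 10, 2, 1, 4, 6, 8, 18, 20, 12, 10, 6, 8, 18, 16, 14, 12, 10, 8, 6, 4, 2, 1] .nil (.cons [14, 12, 6, 8, 10, 2, 1, 4, 6, 8, 18, 20, 12, 10, 6, 8, 18, 16, 14, 12, 10, 8, 6, 4, 2, 1] .nil (.cons [12, 1, 10, 2, 1, 4, 6, 8, 18, 20, 12,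 6, 8, 10, 4, 6, 8, 18, 14, 12, 10, 8, 6, 4, 2, 1] .nil (.cons [6, 8, 10, 2, 1, 4, 6, 8, 18, 20, 12, 6, 8, 10, 4, 6, 8, 18, 14, 12, 10, 8, 6, 4, 2, 1] (.cons [12, 10, 8, 16, 6, 2, 0, 4, 2, 14, 12, 8, 6, 10, 8, 16, 18, 6, 4, 16, 6, 8, 10, 12, 14] (.cons [10, 6, 8, 10, 12, 14, 6, 4, 2, 8, 6, 14] (.cons [0, 0, 0, 2, 0, 0, 2, 2] .nil .nil) .nil) .nil) .nil)))))))))))))))))))))))))))))))))))))))))))))))))))))))))))))))))))))))))))))))))))))))))))))))))))))))))))))))))))))))))))))))))))))))))))))))))))))))))))))))))))))))))))))))))))))))))))))))))))))))))))))))))))))))))))))) (⟨cu_l0.b, cu_l0.S, [], cu_R38, 0⟩ :: cu_tl) (0 :: cu_lk) Pd.nil 0 = true := by decide +kernel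
theorem cu_r39 : cu_S.run (.cons [1, 12, 10, 2, 1, 4, 6, 8, 18, 20, 12, 6, 8, 10, 4, 6, 8, 18, 14, 12, 10, 8, 6, 4, 2, 1] (.cons [8, 6, 16, 10, 12, 6, 8, 10, 4, 6, 8, 2, 4, 6, 16, 18, 2, 0, 8, 10, 16, 6, 4, 2, 8, 6, 4, 16, 6, 8, 10, 12, 14] .nil .nil) (.cons [8, 12, 14, 10, 12, 6, 8, 10, 4, 6, 8, 18, 20, 8, 10, 6, 8, 18, 14, 12, 10, 8, 6, 4, 2, 0] .nil (.cons [6, 8, 10, 2, 1, 4, 6, 8, 18, 20, 18, 12, 8, 10, 4, 6, 8, 18, 14, 12, 10, 8, 6, 4, 2, 1] .nil (.cons [18, 8, 10, 2, 1, 4, 6, 8, 18, 20, 18, 12, 8, 10, 4, 6, 8, 18, 14, 12, 10, 8, 6, 4, 2, 1] (.cons [18, 6, 16, 6, 8, 10, 4, 6, 8, 2, 4, 6, 16, 18, 2, 0, 14, 8, 12, 10, 16, 6, 4, 2, 8, 6, 4, 16, 6, 8, 10, 12, 14] (.cons [10, 6, 8, 14, 16, 0, 14, 6, 4, 8, 6, 14] (.cons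 [0, 3, 1, 2, 0, 3, 0, 0] .nil .nil) .nil) .nil) (.cons [6, 1, 8, 10, 2, 1, 4, 6, 8, 18, 20, 12, 8, 10, 4, 6, 8, 18, 14, 12, 10, 8, 6, 4, 2, 0] .nil (.cons [18, 12, 8, 10, 2, 1, 4, 6, 8, 18, 20, 12, 8, 10, 4, 6, 8, 18, 14, 12, 10, 8, 6, 4, 2, 0] .nil (.cons [1, 18, 8, 10, 2, 1, 4, 6, 8, 18, 20, 12, 8, 10, 4, 6, 8, 18, 14, 12, 10, 8, 6, 4, 2, 0] .nil (.cons [10, 14, 12, 6, 8, 10, 4, 6, 8, 18, 20, 18, 8, 10, 4, 6, 8, 18, 14, 12, 10, 8, 6, 4, 2, 0] .nil (.cons [18, 10, 12, 8, 10, 2, 1, 4, 6, 8, 18, 20, 8, 10, 4, 6, 8, 18, 14, 12, 10, 8, 6, 4, 2, 1] .nil (.cons [12, 8, 6, 10, 8, 1, 10, 2, 1, 4, 6, 8, 18, 20, 12, 10, 8, 18, 14, 12, 10, 8, 6, 4, 2, 1] .nil (.cons [18, 1, 12, 8, 10, 2, 1, 4, 6, 8, 18, 20, 12, 10, 4, 6, 8, 18, 14,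 12, 10, 8, 6, 4, 2, 1] .nil (.cons [18, 14, 12, 8, 10, 2, 1, 4, 6, 8, 18, 20, 12, 10, 4, 6, 8, 18, 14, 12, 10, 8, 6, 4, 2, 1] .nil (.cons [1, 18, 12, 8, 10, 2, 1, 4, 6, 8, 18, 20, 12, 10, 4, 6, 8, 18, 14, 12, 10, 8, 6, 4, 2, 1] .nil (.cons [20, 18, 12, 8, 10, 2, 1, 4, 6, 8, 18, 20, 12, 10, 4, 6, 8, 18, 14, 12, 10, 8, 6, 4, 2, 1] .nil (.cons [1, 20, 18, 8, 10, 2, 1, 4, 6, 8, 18, 20, 12, 10, 4, 6, 8, 18, 14, 12, 10, 8, 6, 4, 2, 1] .nil (.cons [18, 1, 10, 12, 8, 10, 2, 1, 4, 6, 8, 18, 20, 10, 4, 6, 8, 18, 14, 12, 10, 8, 6, 4, 2, 0] (.cons [6, 8, 2, 4, 6, 16, 4, 10, 8, 6, 4, 2, 0, 14, 12, 10, 8, 2, 4, 6, 16, 18, 8, 10, 6, 4, 2, 8, 6, 4, 16, 6, 8, 10, 12, 14] (.cons [6, 14, 12, 6, 4, 2, 10, 8] (.cons [0, 2, 0, 0, 0, 3, 1, 2]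 (.cons [3, 1, 3, 1, 1, 2, 2, 0, 3] .nil .nil) .nil) .nil) .nil) (.cons [1, 18, 10, 12, 8, 10, 2, 1, 4, 6, 8, 18, 20, 10, 4, 6, 8, 18, 14, 12, 10, 8, 6, 4, 2, 0] .nil (.cons [8, 18, 10, 12, 8, 10, 2, 1, 4, 6, 8, 18, 20, 10, 4, 6, 8, 18, 14, 12, 10, 8, 6, 4, 2, 0] (.cons [16, 18, 0, 14, 8, 6, 10, 8, 12, 10, 16, 6, 4, 2, 8, 6, 4, 16, 6, 8, 10, 12, 14] (.cons [12, 0, 6, 2, 0, 8, 10, 14, 6, 8, 16] (.cons [0, 2, 1, 1, 2, 0, 0, 2, 2, 1] .nil .nil) .nil) .nil) (.cons [12, 18, 6, 8, 10, 4, 6, 8, 18, 20, 18, 10, 12, 8, 10, 6, 8, 18, 14, 12, 10, 8, 6, 4, 2, 0] .nil (.cons [14, 12, 6, 10, 8, 1, 10, 2, 1, 4, 6, 8, 18, 20, 12, 10, 8, 18, 14, 12, 10, 8, 6, 4, 2, 1] .nil (.cons [16, 14, 12, 10, 8, 1, 10, 2, 1, 4, 6, 8, 18, 20, 12, 10,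 8, 18, 14, 12, 10, 8, 6, 4, 2, 1] .nil (.cons [2, 4, 6, 8, 18, 20, 12, 14, 10, 12, 8, 10, 2, 4, 6, 8, 18, 16, 14, 12, 10, 8, 6, 4, 2, 0] .nil (.cons [10, 4, 6, 8, 18, 20, 12, 14, 10, 12, 8, 10, 2, 4, 6, 8, 18, 16, 14, 12, 10, 8, 6, 4, 2, 0] .nil (.cons [12, 10, 6, 8, 18, 20, 12, 14, 10, 12, 8, 10, 2, 4, 6, 8, 18, 16, 14, 12, 10, 8, 6, 4, 2, 0] .nil (.cons [10, 2, 4, 6, 8, 18, 20, 14, 10, 12, 8, 10, 2, 4, 6, 8, 18, 16, 14, 12, 10, 8, 6, 4, 2, 0] .nil (.cons [8, 10, 4, 6, 8, 18, 20, 14, 10, 12, 8, 10, 2, 4, 6, 8, 18, 16, 14, 12, 10, 8, 6, 4, 2, 0] .nil (.cons [12, 8, 10, 6, 8, 18, 20, 14, 10, 12, 8, 10, 2, 4, 6, 8, 18, 16, 14, 12, 10, 8, 6, 4, 2, 0] .nil (.cons [6, 8, 10, 4, 6, 8, 18, 20, 10, 12, 8, 10, 2, 4, 6, 8, 18, 16,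 14, 12, 10, 8, 6, 4, 2, 0] .nil (.cons [12, 8, 10, 4, 6, 8, 18, 20, 10, 12, 8, 10, 2, 4, 6, 8, 18, 16, 14, 12, 10, 8, 6, 4, 2, 0] .nil (.cons [18, 8, 10, 4, 6, 8, 18, 20, 10, 12, 8, 10, 2, 4, 6, 8, 18, 16, 14, 12, 10, 8, 6, 4, 2, 0] .nil (.cons [14, 12, 10, 4, 6, 8, 18, 20, 10, 12, 8, 10, 2, 4, 6, 8, 18, 16, 14, 12, 10, 8, 6, 4, 2, 0] .nil (.cons [10, 12, 8, 10, 6, 8, 18, 20, 10, 12, 8, 10, 2, 4, 6, 8, 18, 16, 14, 12, 10, 8, 6, 4, 2, 0] .nil (.cons [14, 12, 8, 10, 6, 8, 18, 20, 10, 12, 8, 10, 2, 4, 6, 8, 18, 16, 14, 12, 10, 8, 6, 4, 2, 0] .nil (.cons [18, 12, 8, 10, 6, 8, 18, 20, 10, 12, 8, 10, 2, 4, 6, 8, 18, 16, 14, 12, 10, 8, 6, 4, 2, 0] .nil (.cons [20, 18, 8, 10, 6, 8, 18, 20, 10, 12, 8, 10, 2, 4, 6, 8, 18, 16, 14,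 12, 10, 8, 6, 4, 2, 0] .nil (.cons [10, 1, 2, 4, 6, 8, 18, 20, 14, 12, 8, 10, 2, 4, 6, 8, 18, 16, 14, 12, 10, 8, 6, 4, 2, 0] .nil (.cons [1, 10, 2, 4, 6, 8, 18, 20, 14, 12, 8, 10, 2, 4, 6, 8, 18, 16, 14, 12, 10, 8, 6, 4, 2, 0] (.cons [10, 8, 2, 4, 6, 16, 18, 8, 10, 8, 4, 6, 16, 14, 12, 8, 10, 4, 6, 8, 2, 4, 6, 16, 18, 2, 0, 10, 16, 6, 4, 2, 8, 6, 4, 16, 6, 8, 10, 12, 14] (.cons [10, 8, 12, 10, 4, 6, 14, 8, 6, 8] (.cons [2, 1, 1, 2, 0, 2, 2, 1, 1, 1] (.cons [2, 2, 0, 3, 0, 2, 0, 2, 1] .nil .nil) .nil) .nil) .nil) (.cons [12, 10, 2, 4, 6, 8, 18, 20, 14, 12, 8, 10, 2, 4, 6, 8, 18, 16, 14, 12, 10, 8, 6, 4, 2, 0] .nil (.cons [6, 8, 10, 4, 6, 8, 18, 20, 14, 12, 8, 10, 2, 4, 6, 8, 18, 16, 14, 12, 10, 8, 6, 4, 2, 0] .nil (.cons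 [12, 8, 10, 4, 6, 8, 18, 20, 14, 12, 8, 10, 2, 4, 6, 8, 18, 16, 14, 12, 10, 8, 6, 4, 2, 0] .nil (.cons [18, 8, 10, 4, 6, 8, 18, 20, 14, 12, 8, 10, 2, 4, 6, 8, 18, 16, 14, 12, 10, 8, 6, 4, 2, 0] (.cons [12, 6, 8, 10, 4, 6, 8, 2, 4, 6, 16, 18, 2, 0, 6, 4, 2, 8, 6, 4, 16, 6, 8, 10, 12, 14] (.cons [10, 16, 14, 6, 8, 6, 4, 2] (.cons [1, 2, 0, 0, 0, 2, 2, 1, 1, 2] (.cons [1, 2, 0, 3, 1, 1] .nil .nil) .nil) .nil) .nil) (.cons [10, 12, 8, 10, 6, 8, 18, 20, 14, 12, 8, 10, 2, 4, 6, 8, 18, 16, 14, 12, 10, 8, 6, 4, 2, 0] .nil (.cons [14, 12, 8, 10, 6, 8, 18, 20, 14, 12, 8, 10, 2, 4, 6, 8, 18, 16, 14, 12, 10, 8, 6, 4, 2, 0] .nil (.cons [18, 12, 8, 10, 6, 8, 18, 20, 14, 12, 8, 10, 2, 4, 6, 8, 18, 16, 14, 12, 10, 8, 6, 4, 2, 0] .nil (.cons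 [8, 1, 10, 2, 4, 6, 8, 18, 20, 12, 8, 10, 2, 4, 6, 8, 18, 16, 14, 12, 10, 8, 6, 4, 2, 0] .nil (.cons [12, 1, 10, 2, 4, 6, 8, 18, 20, 12, 8, 10, 2, 4, 6, 8, 18, 16, 14, 12, 10, 8, 6, 4, 2, 0] .nil (.cons [1, 8, 10, 2, 4, 6, 8, 18, 20, 12, 8, 10, 2, 4, 6, 8, 18, 16, 14, 12, 10, 8, 6, 4, 2, 0] .nil (.cons [6, 8, 10, 2, 4, 6, 8, 18, 20, 12, 8, 10, 2, 4, 6, 8, 18, 16, 14, 12, 10, 8, 6, 4, 2, 0] .nil (.cons [12, 8, 10, 2, 4, 6, 8, 18, 20, 12, 8, 10, 2, 4, 6, 8, 18, 16, 14, 12, 10, 8, 6, 4, 2, 0] .nil (.cons [18, 8, 10, 2, 4, 6, 8, 18, 20, 12, 8, 10, 2, 4, 6, 8, 18, 16, 14, 12, 10, 8, 6, 4, 2, 0] (.cons [18, 6, 16, 12, 14, 10, 12, 8, 10, 4, 6, 8, 2, 4, 6, 16, 18, 2, 0, 12, 10, 16, 6, 4, 2, 8, 6, 4, 16, 6, 8, 10, 12, 14] (.cons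 [14, 6, 0, 8, 10, 16, 14, 6, 8] (.cons [1, 3, 1, 1, 1, 1, 3, 0, 3] (.cons [1, 2, 0, 2, 1, 1, 2, 2] .nil .nil) .nil) .nil) .nil) (.cons [1, 12, 10, 2, 4, 6, 8, 18, 20, 12, 8, 10, 2, 4, 6, 8, 18, 16, 14, 12, 10, 8, 6, 4, 2, 0] .nil (.cons [14, 12, 10, 2, 4, 6, 8, 18, 20, 12, 8, 10, 2, 4, 6, 8, 18, 16, 14, 12, 10, 8, 6, 4, 2, 0] .nil (.cons [18, 6, 8, 10, 4, 6, 8, 18, 20, 12, 8, 10, 2, 4, 6, 8, 18, 16, 14, 12, 10, 8, 6, 4, 2, 0] .nil (.cons [10, 12, 8, 10, 4, 6, 8, 18, 20, 12, 8, 10, 2, 4, 6, 8, 18, 16, 14, 12, 10, 8, 6, 4, 2, 0] (.cons [10, 4, 6, 8, 2, 4, 6, 16, 18, 2, 0, 14, 8, 12, 10, 16, 6, 4, 2, 8, 6, 4, 16, 6, 8, 10, 12, 14] (.cons [6, 2, 4, 6, 0, 2, 4, 8, 10, 6, 8] (.cons [3, 0, 3, 3, 1, 1, 1, 3, 1, 3] (.cons [1, 2,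 2, 2, 1, 3, 0, 2, 0] .nil .nil) .nil) .nil) .nil) (.cons [18, 12, 8, 10, 4, 6, 8, 18, 20, 12, 8, 10, 2, 4, 6, 8, 18, 16, 14, 12, 10, 8, 6, 4, 2, 0] .nil (.cons [14, 10, 12, 8, 10, 6, 8, 18, 20, 12, 8, 10, 2, 4, 6, 8, 18, 16, 14, 12, 10, 8, 6, 4, 2, 0] .nil (.cons [18, 10, 12, 8, 10, 6, 8, 18, 20, 12, 8, 10, 2, 4, 6, 8, 18, 16, 14, 12, 10, 8, 6, 4, 2, 0] .nil (.cons [18, 14, 12, 8, 10, 6, 8, 18, 20, 12, 8, 10, 2, 4, 6, 8, 18, 16, 14, 12, 10, 8, 6, 4, 2, 0] .nil (.cons [20, 18, 12, 8, 10, 6, 8, 18, 20, 12, 8, 10, 2, 4, 6, 8, 18, 16, 14, 12, 10, 8, 6, 4, 2, 0] .nil (.cons [4, 6, 8, 10, 2, 4, 6, 8, 18, 20, 8, 10, 2, 4, 6, 8, 18, 16, 14, 12, 10, 8, 6, 4, 2, 0] .nil (.cons [10, 12, 8, 10, 2, 4, 6, 8, 18, 20, 8, 10, 2, 4, 6, 8,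 18, 16, 14, 12, 10, 8, 6, 4, 2, 0] .nil (.cons [10, 12, 6, 8, 10, 4, 6, 8, 18, 20, 8, 10, 2, 4, 6, 8, 18, 16, 14, 12, 10, 8, 6, 4, 2, 0] .nil (.cons [14, 12, 6, 8, 10, 4, 6, 8, 18, 20, 8, 10, 2, 4, 6, 8, 18, 16, 14, 12, 10, 8, 6, 4, 2, 0] .nil (.cons [12, 14, 10, 12, 8, 10, 6, 8, 18, 20, 8, 10, 2, 4, 6, 8, 18, 16, 14, 12, 10, 8, 6, 4, 2, 0] .nil (.cons [8, 1, 10, 2, 4, 6, 8, 18, 20, 14, 12, 10, 2, 4, 6, 8, 18, 16, 14, 12, 10, 8, 6, 4, 2, 0] (.cons [8, 4, 6, 16, 18, 2, 0, 14, 8, 12, 10, 16, 6, 4, 2, 8, 6, 4, 16, 6, 8, 10, 12, 14] (.cons [8, 12, 10, 4, 6, 14, 8, 6, 8] (.cons [0, 3, 1, 2, 0, 2, 1, 3, 0] (.cons [3, 0, 3, 1, 1, 2, 1, 1, 2, 2] .nil .nil) .nil) .nil) .nil) (.cons [12, 1, 10, 2, 4, 6, 8, 18, 20, 14, 12, 10, 2,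 4, 6, 8, 18, 16, 14, 12, 10, 8, 6, 4, 2, 0] (.cons [8, 2, 4, 6, 16, 18, 16, 12, 10, 8, 6, 4, 2, 16, 10, 8, 6, 4, 14, 12, 10, 8, 6, 16, 18, 4, 2, 0, 8, 10, 6, 4, 2, 8, 6, 4, 16, 6, 8, 10, 12, 14] (.cons [6, 8, 4, 6, 2, 4, 16, 14, 2, 10, 8] .nil .nil) .nil) (.cons [1, 8, 10, 2, 4, 6, 8, 18, 20, 14, 12, 10, 2, 4, 6, 8, 18, 16, 14, 12, 10, 8, 6, 4, 2, 0] .nil (.cons [12, 8, 10, 2, 4, 6, 8, 18, 20, 14, 12, 10, 2, 4, 6, 8, 18, 16, 14, 12, 10, 8, 6, 4, 2, 0] .nil (.cons [12, 6, 8, 10, 4, 6, 8, 18, 20, 14, 12, 10, 2, 4, 6, 8, 18, 16, 14, 12, 10, 8, 6, 4, 2, 0] .nil (.cons [18, 6, 8, 10, 4, 6, 8, 18, 20, 14, 12, 10, 2, 4, 6, 8, 18, 16, 14, 12, 10, 8, 6, 4, 2, 0] .nil (.cons [18, 12, 8, 10, 4, 6, 8, 18, 20, 14, 12, 10, 2, 4, 6, 8,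 18, 16, 14, 12, 10, 8, 6, 4, 2, 0] .nil (.cons [20, 18, 8, 10, 4, 6, 8, 18, 20, 14, 12, 10, 2, 4, 6, 8, 18, 16, 14, 12, 10, 8, 6, 4, 2, 0] .nil (.cons [18, 14, 12, 8, 10, 6, 8, 18, 20, 14, 12, 10, 2, 4, 6, 8, 18, 16, 14, 12, 10, 8, 6, 4, 2, 0] .nil (.cons [20, 18, 12, 8, 10, 6, 8, 18, 20, 14, 12, 10, 2, 4, 6, 8, 18, 16, 14, 12, 10, 8, 6, 4, 2, 0] .nil (.cons [12, 1, 8, 10, 2, 4, 6, 8, 18, 20, 12, 10, 2, 4, 6, 8, 18, 16, 14, 12, 10, 8, 6, 4, 2, 0] .nil (.cons [18, 1, 8, 10, 2, 4, 6, 8, 18, 20, 12, 10, 2, 4, 6, 8, 18, 16, 14, 12, 10, 8, 6, 4, 2, 0] .nil (.cons [14, 1, 12, 10, 2, 4, 6, 8, 18, 20, 12, 10, 2, 4, 6, 8, 18, 16, 14, 12, 10, 8, 6, 4, 2, 0] .nil (.cons [1, 6, 8, 10, 2, 4, 6, 8, 18, 20, 12, 10, 2, 4, 6, 8, 18, 16,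 14, 12, 10, 8, 6, 4, 2, 0] .nil (.cons [18, 6, 8, 10, 2, 4, 6, 8, 18, 20, 12, 10, 2, 4, 6, 8, 18, 16, 14, 12, 10, 8, 6, 4, 2, 0] .nil (.cons [14, 12, 8, 10, 2, 4, 6, 8, 18, 20, 12, 10, 2, 4, 6, 8, 18, 16, 14, 12, 10, 8, 6, 4, 2, 0] .nil (.cons [14, 12, 6, 8, 10, 4, 6, 8, 18, 20, 12, 10, 2, 4, 6, 8, 18, 16, 14, 12, 10, 8, 6, 4, 2, 0] .nil (.cons [18, 12, 6, 8, 10, 4, 6, 8, 18, 20, 12, 10, 2, 4, 6, 8, 18, 16, 14, 12, 10, 8, 6, 4, 2, 0] .nil (.cons [18, 14, 12, 8, 10, 4, 6, 8, 18, 20, 12, 10, 2, 4, 6, 8, 18, 16, 14, 12, 10, 8, 6, 4, 2, 0] .nil (.cons [20, 18, 12, 8, 10, 4, 6, 8, 18, 20, 12, 10, 2, 4, 6, 8, 18, 16, 14, 12, 10, 8, 6, 4, 2, 0] .nil (.cons [20, 18, 14, 12, 8, 10, 6, 8, 18, 20, 12, 10, 2, 4, 6, 8, 18, 16, 14, 12,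 10, 8, 6, 4, 2, 0] .nil (.cons [6, 8, 18, 20, 10, 12, 14, 8, 10, 12, 6, 8, 10, 4, 6, 8, 18, 16, 14, 12, 10, 8, 6, 4, 2, 0] .nil (.cons [4, 6, 8, 18, 20, 12, 14, 8, 10, 12, 6, 8, 10, 4, 6, 8, 18, 16, 14, 12, 10, 8, 6, 4, 2, 0] .nil (.cons [10, 6, 8, 18, 20, 12, 14, 8, 10, 12, 6, 8, 10, 4, 6, 8, 18, 16, 14, 12, 10, 8, 6, 4, 2, 0] (.cons [16, 10, 8, 6, 4, 2, 4, 6, 10, 8, 16, 18, 6, 4, 16, 6, 8, 10, 12, 14] (.cons [10, 8, 4, 6, 14, 2, 8, 6, 8] (.cons [1, 3, 0, 2, 0, 2, 0, 2, 2] (.cons [1, 1, 2, 0, 3, 0, 3, 1, 1, 2] .nil .nil) .nil) .nil) .nil) (.cons [12, 10, 8, 18, 20, 12, 14, 8, 10, 12, 6, 8, 10, 4, 6, 8, 18, 16, 14, 12, 10, 8, 6, 4, 2, 0] .nil (.cons [10, 4, 6, 8, 18, 20, 14, 8, 10, 12, 6, 8, 10, 4, 6, 8, 18, 16, 14, 12,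 10, 8, 6, 4, 2, 0] .nil (.cons [12, 10, 4, 6, 8, 18, 20, 8, 10, 12, 6, 8, 10, 4, 6, 8, 18, 16, 14, 12, 10, 8, 6, 4, 2, 0] .nil (.cons [12, 8, 10, 6, 8, 18, 20, 8, 10, 12, 6, 8, 10, 4, 6, 8, 18, 16, 14, 12, 10, 8, 6, 4, 2, 0] .nil (.cons [18, 8, 10, 6, 8, 18, 20, 8, 10, 12, 6, 8, 10, 4, 6, 8, 18, 16, 14, 12, 10, 8, 6, 4, 2, 0] .nil (.cons [16, 14, 12, 10, 8, 18, 20, 8, 10, 12, 6, 8, 10, 4, 6, 8, 18, 16, 14, 12, 10, 8, 6, 4, 2, 0] .nil (.cons [10, 4, 6, 8, 18, 20, 12, 14, 10, 12, 6, 8, 10, 4, 6, 8, 18, 16, 14, 12, 10, 8, 6, 4, 2, 0] .nil (.cons [0, 2, 4, 6, 8, 18, 20, 14, 10, 12, 6, 8, 10, 4, 6, 8, 18, 16, 14, 12, 10, 8, 6, 4, 2, 0] .nil (.cons [8, 10, 4, 6, 8, 18, 20, 14, 10, 12, 6, 8, 10, 4, 6, 8, 18, 16, 14, 12, 10, 8,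 6, 4, 2, 0] (.cons [4, 8, 10, 12, 6, 18, 16, 6, 8, 10, 4, 6, 8, 2, 4, 6, 16, 18, 2, 0, 6, 4, 2, 8, 6, 4, 16, 6, 8, 10, 12, 14] (.cons [14, 2, 6, 4, 2, 6, 4, 12, 14, 6, 8, 16] (.cons [3, 0, 0, 2, 0, 0, 3, 1, 2] (.cons [0, 0, 3, 3, 1, 3, 3, 0, 3, 0] .nil .nil) .nil) .nil) .nil) (.cons [12, 10, 4, 6, 8, 18, 20, 14, 10, 12, 6, 8, 10, 4, 6, 8, 18, 16, 14, 12, 10, 8, 6, 4, 2, 0] .nil (.cons [12, 8, 10, 6, 8, 18, 20, 14, 10, 12, 6, 8, 10, 4, 6, 8, 18, 16, 14, 12, 10, 8, 6, 4, 2, 0] .nil (.cons [18, 8, 10, 6, 8, 18, 20, 14, 10, 12, 6, 8, 10, 4, 6, 8, 18, 16, 14, 12, 10, 8, 6, 4, 2, 0] .nil (.cons [14, 12, 10, 6, 8, 18, 20, 14, 10, 12, 6, 8, 10, 4, 6, 8, 18, 16, 14, 12, 10, 8, 6, 4, 2, 0] .nil (.cons [10, 1, 2, 4, 6, 8, 18, 20,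 10, 12, 6, 8, 10, 4, 6, 8, 18, 16, 14, 12, 10, 8, 6, 4, 2, 0] .nil (.cons [6, 8, 10, 4, 6, 8, 18, 20, 10, 12, 6, 8, 10, 4, 6, 8, 18, 16, 14, 12, 10, 8, 6, 4, 2, 0] .nil (.cons [12, 8, 10, 4, 6, 8, 18, 20, 10, 12, 6, 8, 10, 4, 6, 8, 18, 16, 14, 12, 10, 8, 6, 4, 2, 0] .nil (.cons [14, 12, 10, 4, 6, 8, 18, 20, 10, 12, 6, 8, 10, 4, 6, 8, 18, 16, 14, 12, 10, 8, 6, 4, 2, 0] .nil (.cons [16, 14, 12, 10, 6, 8, 18, 20, 10, 12, 6, 8, 10, 4, 6, 8, 18, 16, 14, 12, 10, 8, 6, 4, 2, 0] .nil (.cons [12, 10, 2, 4, 6, 8, 18, 20, 14, 12, 6, 8, 10, 4, 6, 8, 18, 16, 14, 12, 10, 8, 6, 4, 2, 0] .nil (.cons [6, 8, 10, 4, 6, 8, 18, 20, 14, 12, 6, 8, 10, 4, 6, 8, 18, 16, 14, 12, 10, 8, 6, 4, 2, 0] .nil (.cons [12, 8, 10, 4, 6, 8, 18, 20, 14, 12,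 6, 8, 10, 4, 6, 8, 18, 16, 14, 12, 10, 8, 6, 4, 2, 0] .nil (.cons [14, 12, 10, 4, 6, 8, 18, 20, 14, 12, 6, 8, 10, 4, 6, 8, 18, 16, 14, 12, 10, 8, 6, 4, 2, 0] .nil (.cons [10, 12, 8, 10, 6, 8, 18, 20, 14, 12, 6, 8, 10, 4, 6, 8, 18, 16, 14, 12, 10, 8, 6, 4, 2, 0] .nil (.cons [18, 12, 8, 10, 6, 8, 18, 20, 14, 12, 6, 8, 10, 4, 6, 8, 18, 16, 14, 12, 10, 8, 6, 4, 2, 0] .nil (.cons [8, 1, 10, 2, 4, 6, 8, 18, 20, 12, 6, 8, 10, 4, 6, 8, 18, 16, 14, 12, 10, 8, 6, 4, 2, 0] .nil (.cons [12, 1, 10, 2, 4, 6, 8, 18, 20, 12, 6, 8, 10, 4, 6, 8, 18, 16, 14, 12, 10, 8, 6, 4, 2, 0] .nil (.cons [6, 8, 10, 2, 4, 6, 8, 18, 20, 12, 6, 8, 10, 4, 6, 8, 18, 16, 14, 12, 10, 8, 6, 4, 2, 0] .nil (.cons [12, 8, 10, 2, 4, 6, 8, 18, 20, 12, 6, 8, 10, 4,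 6, 8, 18, 16, 14, 12, 10, 8, 6, 4, 2, 0] .nil (.cons [18, 8, 10, 2, 4, 6, 8, 18, 20, 12, 6, 8, 10, 4, 6, 8, 18, 16, 14, 12, 10, 8, 6, 4, 2, 0] (.cons [2, 4, 6, 16, 18, 6, 8, 2, 4, 6, 16, 10, 12, 8, 10, 4, 6, 8, 2, 4, 6, 16, 18, 2, 0, 8, 10, 16, 6, 4, 2, 8, 6, 4, 16, 6, 8, 10, 12, 14] (.cons [16, 0, 2, 4, 6, 0, 2, 8, 10, 6, 8] (.cons [2, 2, 0, 0, 0, 3, 0, 0] (.cons [2, 2, 0, 0, 3, 3, 1, 3, 1, 1] .nil .nil) .nil) .nil) .nil) (.cons [1, 12, 10, 2, 4, 6, 8, 18, 20, 12, 6, 8, 10, 4, 6, 8, 18, 16, 14, 12, 10, 8, 6, 4, 2, 0] (.cons [16, 8, 10, 6, 8, 0, 2, 4, 6, 16, 18, 4, 2, 0, 8, 10, 6, 4, 2, 8, 6, 4, 16, 6, 8, 10, 12, 14] (.cons [6, 8, 10, 16, 14, 6, 8, 10] .nil .nil) .nil) (.cons [12, 6, 8, 10, 4, 6, 8, 18, 20, 12, 6, 8, 10,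 4, 6, 8, 18, 16, 14, 12, 10, 8, 6, 4, 2, 0] .nil (.cons [18, 6, 8, 10, 4, 6, 8, 18, 20, 12, 6, 8, 10, 4, 6, 8, 18, 16, 14, 12, 10, 8, 6, 4, 2, 0] (.cons [6, 16, 4, 6, 8, 10, 12, 10, 8, 6, 16, 18, 4, 6, 16, 8, 10, 6, 8, 2, 4, 6, 16, 18, 2, 0, 12, 10, 6, 4, 2, 8, 6, 4, 16, 6, 8, 10, 12, 14] .nil .nil) (.cons [10, 12, 8, 10, 4, 6, 8, 18, 20, 12, 6, 8, 10, 4, 6, 8, 18, 16, 14, 12, 10, 8, 6, 4, 2, 0] .nil (.cons [14, 12, 8, 10, 4, 6, 8, 18, 20, 12, 6, 8, 10, 4, 6, 8, 18, 16, 14, 12, 10, 8, 6, 4, 2, 0] .nil (.cons [18, 12, 8, 10, 4, 6, 8, 18, 20, 12, 6, 8, 10, 4, 6, 8, 18, 16, 14, 12, 10, 8, 6, 4, 2, 0] .nil (.cons [20, 18, 8, 10, 4, 6, 8, 18, 20, 12, 6, 8, 10, 4, 6, 8, 18, 16, 14, 12, 10, 8, 6, 4, 2, 0] .nil (.cons [14, 10,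 12, 8, 10, 6, 8, 18, 20, 12, 6, 8, 10, 4, 6, 8, 18, 16, 14, 12, 10, 8, 6, 4, 2, 0] .nil (.cons [18, 10, 12, 8, 10, 6, 8, 18, 20, 12, 6, 8, 10, 4, 6, 8, 18, 16, 14, 12, 10, 8, 6, 4, 2, 0] (.cons [10, 8, 14, 12, 16, 6, 8, 10, 4, 2, 6, 16, 8, 6, 4, 0, 2, 4, 6, 10, 8, 16, 18, 6, 4, 16, 6, 8, 10, 12, 14] (.cons [10, 6, 8, 2, 4, 6, 14, 2, 4, 2, 10] (.cons [2, 2, 1, 1, 1, 3, 0, 3, 3, 0] .nil .nil) .nil) .nil) (.cons [18, 14, 12, 8, 10, 6, 8, 18, 20, 12, 6, 8, 10, 4, 6, 8, 18, 16, 14, 12, 10, 8, 6, 4, 2, 0] .nil (.cons [20, 18, 12, 8, 10, 6, 8, 18, 20, 12, 6, 8, 10, 4, 6, 8, 18, 16, 14, 12, 10, 8, 6, 4, 2, 0] (.cons [18, 8, 6, 16, 8, 10, 4, 6, 8, 0, 2, 4, 6, 16, 18, 4, 2, 0, 8, 12, 10, 6, 4, 2, 8, 6, 4, 16, 6, 8, 10, 12, 14] .nil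 .nil) (.cons [6, 1, 8, 10, 2, 4, 6, 8, 18, 20, 6, 8, 10, 4, 6, 8, 18, 16, 14, 12, 10, 8, 6, 4, 2, 0] .nil (.cons [18, 1, 8, 10, 2, 4, 6, 8, 18, 20, 6, 8, 10, 4, 6, 8, 18, 16, 14, 12, 10, 8, 6, 4, 2, 0] .nil (.cons [14, 1, 12, 10, 2, 4, 6, 8, 18, 20, 6, 8, 10, 4, 6, 8, 18, 16, 14, 12, 10, 8, 6, 4, 2, 0] .nil (.cons [12, 6, 8, 10, 2, 4, 6, 8, 18, 20, 6, 8, 10, 4, 6, 8, 18, 16, 14, 12, 10, 8, 6, 4, 2, 0] .nil (.cons [18, 6, 8, 10, 2, 4, 6, 8, 18, 20, 6, 8, 10, 4, 6, 8, 18, 16, 14, 12, 10, 8, 6, 4, 2, 0] .nil (.cons [14, 12, 8, 10, 2, 4, 6, 8, 18, 20, 6, 8, 10, 4, 6, 8, 18, 16, 14, 12, 10, 8, 6, 4, 2, 0] .nil (.cons [20, 18, 8, 10, 2, 4, 6, 8, 18, 20, 6, 8, 10, 4, 6, 8, 18, 16, 14, 12, 10, 8, 6, 4, 2, 0] .nil (.cons [16, 14,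 12, 10, 2, 4, 6, 8, 18, 20, 6, 8, 10, 4, 6, 8, 18, 16, 14, 12, 10, 8, 6, 4, 2, 0] .nil (.cons [10, 12, 6, 8, 10, 4, 6, 8, 18, 20, 6, 8, 10, 4, 6, 8, 18, 16, 14, 12, 10, 8, 6, 4, 2, 0] .nil (.cons [18, 12, 6, 8, 10, 4, 6, 8, 18, 20, 6, 8, 10, 4, 6, 8, 18, 16, 14, 12, 10, 8, 6, 4, 2, 0] .nil (.cons [14, 10, 12, 8, 10, 4, 6, 8, 18, 20, 6, 8, 10, 4, 6, 8, 18, 16, 14, 12, 10, 8, 6, 4, 2, 0] .nil (.cons [18, 10, 12, 8, 10, 4, 6, 8, 18, 20, 6, 8, 10, 4, 6, 8, 18, 16, 14, 12, 10, 8, 6, 4, 2, 0] .nil (.cons [18, 14, 12, 8, 10, 4, 6, 8, 18, 20, 6, 8, 10, 4, 6, 8, 18, 16, 14, 12, 10, 8, 6, 4, 2, 0] (.cons [14, 12, 10, 8, 2, 4, 6, 16, 18, 8, 4, 6, 16, 10, 12, 8, 10, 4, 6, 8, 2, 4, 6, 16, 18, 2, 0, 8, 10, 16, 6, 4, 2, 8, 6, 4, 16, 6,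 8, 10, 12, 14] (.cons [6, 8, 10, 6, 4, 14, 8, 16] .nil .nil) .nil) (.cons [20, 18, 12, 8, 10, 4, 6, 8, 18, 20, 6, 8, 10, 4, 6, 8, 18, 16, 14, 12, 10, 8, 6, 4, 2, 0] .nil (.cons [12, 14, 10, 12, 8, 10, 6, 8, 18, 20, 6, 8, 10, 4, 6, 8, 18, 16, 14, 12, 10, 8, 6, 4, 2, 0] .nil (.cons [16, 14, 10, 12, 8, 10, 6, 8, 18, 20, 6, 8, 10, 4, 6, 8, 18, 16, 14, 12, 10, 8, 6, 4, 2, 0] .nil (.cons [8, 18, 10, 12, 8, 10, 6, 8, 18, 20, 6, 8, 10, 4, 6, 8, 18, 16, 14, 12, 10, 8, 6, 4, 2, 0] .nil (.cons [20, 18, 10, 12, 8, 10, 6, 8, 18, 20, 6, 8, 10, 4, 6, 8, 18, 16, 14, 12, 10, 8, 6, 4, 2, 0] .nil (.cons [18, 16, 14, 12, 8, 10, 6, 8, 18, 20, 6, 8, 10, 4, 6, 8, 18, 16, 14, 12, 10, 8, 6, 4, 2, 0] .nil (.cons [20, 18, 14, 12, 8, 10, 6, 8, 18,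 20, 6, 8, 10, 4, 6, 8, 18, 16, 14, 12, 10, 8, 6, 4, 2, 0] .nil (.cons [10, 8, 18, 20, 10, 8, 18, 12, 14, 10, 12, 8, 10, 4, 6, 8, 18, 16, 14, 12, 10, 8, 6, 4, 2, 0] .nil (.cons [10, 6, 8, 18, 20, 8, 18, 12, 14, 10, 12, 8, 10, 4, 6, 8, 18, 16, 14, 12, 10, 8, 6, 4, 2, 0] .nil (.cons [8, 10, 6, 8, 18, 20, 18, 12, 14, 10, 12, 8, 10, 4, 6, 8, 18, 16, 14, 12, 10, 8, 6, 4, 2, 0] .nil (.cons [0, 2, 4, 6, 8, 18, 20, 12, 14, 10, 12, 8, 10, 4, 6, 8, 18, 16, 14, 12, 10, 8, 6, 4, 2, 0] .nil (.cons [1, 2, 4, 6, 8, 18, 20, 12, 14, 10, 12, 8, 10, 4, 6, 8, 18, 16, 14, 12, 10, 8, 6, 4, 2, 0] .nil (.cons [10, 2, 4, 6, 8, 18, 20, 12, 14, 10, 12, 8, 10, 4, 6, 8, 18, 16, 14, 12, 10, 8, 6, 4, 2, 0] .nil (.cons [8, 10, 4, 6, 8, 18, 20, 12, 14,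 10, 12, 8, 10, 4, 6, 8, 18, 16, 14, 12, 10, 8, 6, 4, 2, 0] .nil (.cons [14, 12, 10, 6, 8, 18, 20, 12, 14, 10, 12, 8, 10, 4, 6, 8, 18, 16, 14, 12, 10, 8, 6, 4, 2, 0] .nil (.cons [8, 10, 6, 8, 18, 20, 8, 18, 14, 10, 12, 8, 10, 4, 6, 8, 18, 16, 14, 12, 10, 8, 6, 4, 2, 0] .nil (.cons [14, 12, 10, 8, 18, 20, 8, 18, 14, 10, 12, 8, 10, 4, 6, 8, 18, 16, 14, 12, 10, 8, 6, 4, 2, 0] .nil (.cons [8, 10, 4, 6, 8, 18, 20, 18, 14, 10, 12, 8, 10, 4, 6, 8, 18, 16, 14, 12, 10, 8, 6, 4, 2, 0] .nil (.cons [12, 8, 10, 6, 8, 18, 20, 18, 14, 10, 12, 8, 10, 4, 6, 8, 18, 16, 14, 12, 10, 8, 6, 4, 2, 0] .nil (.cons [16, 14, 12, 10, 8, 18, 20, 18, 14, 10, 12, 8, 10, 4, 6, 8, 18, 16, 14, 12, 10, 8, 6, 4, 2, 0] .nil (.cons [1, 10, 2, 4, 6, 8, 18, 20,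 14, 10, 12, 8, 10, 4, 6, 8, 18, 16, 14, 12, 10, 8, 6, 4, 2, 0] .nil (.cons [12, 10, 2, 4, 6, 8, 18, 20, 14, 10, 12, 8, 10, 4, 6, 8, 18, 16, 14, 12, 10, 8, 6, 4, 2, 0] .nil (.cons [6, 8, 10, 4, 6, 8, 18, 20, 14, 10, 12, 8, 10, 4, 6, 8, 18, 16, 14, 12, 10, 8, 6, 4, 2, 0] (.cons [16, 14, 12, 10, 4, 6, 8, 16, 4, 6, 2, 0, 4, 2, 12, 8, 6, 10, 8, 16, 18, 6, 4, 16, 6, 8, 10, 12, 14] (.cons [2, 0, 2, 4, 8, 10, 16, 14, 6, 8, 10] (.cons [3, 0, 3, 1, 3, 3, 1, 3, 1, 3] .nil .nil) .nil) .nil) (.cons [12, 8, 10, 4, 6, 8, 18, 20, 14, 10, 12, 8, 10, 4, 6, 8, 18, 16, 14, 12, 10, 8, 6, 4, 2, 0] .nil (.cons [18, 8, 10, 4, 6, 8, 18, 20, 14, 10, 12, 8, 10, 4, 6, 8, 18, 16, 14, 12, 10, 8, 6, 4, 2, 0] .nil (.cons [14, 12, 10, 4, 6, 8, 18, 20,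 14, 10, 12, 8, 10, 4, 6, 8, 18, 16, 14, 12, 10, 8, 6, 4, 2, 0] (.cons [16, 18, 6, 16, 10, 12, 8, 10, 6, 8, 4, 6, 16, 18, 2, 0, 12, 10, 4, 2, 8, 6, 4, 16, 6, 8, 10, 12, 14] (.cons [16, 10, 0, 14, 6, 4, 2, 8, 16] (.cons [1, 1, 3, 1, 3, 1, 3] .nil .nil) .nil) .nil) (.cons [10, 12, 8, 10, 6, 8, 18, 20, 14, 10, 12, 8, 10, 4, 6, 8, 18, 16, 14, 12, 10, 8, 6, 4, 2, 0] .nil (.cons [14, 12, 8, 10, 6, 8, 18, 20, 14, 10, 12, 8, 10, 4, 6, 8, 18, 16, 14, 12, 10, 8, 6, 4, 2, 0] .nil (.cons [18, 12, 8, 10, 6, 8, 18, 20, 14, 10, 12, 8, 10, 4, 6, 8, 18, 16, 14, 12, 10, 8, 6, 4, 2, 0] .nil (.cons [12, 8, 10, 6, 8, 18, 20, 8, 18, 10, 12, 8, 10, 4, 6, 8, 18, 16, 14, 12, 10, 8, 6, 4, 2, 0] .nil (.cons [14, 12, 10, 6, 8, 18, 20, 8, 18, 10, 12,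 8, 10, 4, 6, 8, 18, 16, 14, 12, 10, 8, 6, 4, 2, 0] .nil (.cons [16, 14, 12, 10, 8, 18, 20, 8, 18, 10, 12, 8, 10, 4, 6, 8, 18, 16, 14, 12, 10, 8, 6, 4, 2, 0] .nil (.cons [12, 8, 10, 4, 6, 8, 18, 20, 18, 10, 12, 8, 10, 4, 6, 8, 18, 16, 14, 12, 10, 8, 6, 4, 2, 0] .nil (.cons [18, 8, 10, 4, 6, 8, 18, 20, 18, 10, 12, 8, 10, 4, 6, 8, 18, 16, 14, 12, 10, 8, 6, 4, 2, 0] .nil (.cons [14, 12, 10, 4, 6, 8, 18, 20, 18, 10, 12, 8, 10, 4, 6, 8, 18, 16, 14, 12, 10, 8, 6, 4, 2, 0] .nil (.cons [14, 12, 8, 10, 6, 8, 18, 20, 18, 10, 12, 8, 10, 4, 6, 8, 18, 16, 14, 12, 10, 8, 6, 4, 2, 0] .nil (.cons [18, 12, 8, 10, 6, 8, 18, 20, 18, 10, 12, 8, 10, 4, 6, 8, 18, 16, 14, 12, 10, 8, 6, 4, 2, 0] .nil (.cons [12, 1, 10, 2, 4, 6, 8, 18, 20, 10, 12,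 8, 10, 4, 6, 8, 18, 16, 14, 12, 10, 8, 6, 4, 2, 0] .nil (.cons [6, 8, 10, 2, 4, 6, 8, 18, 20, 10, 12, 8, 10, 4, 6, 8, 18, 16, 14, 12, 10, 8, 6, 4, 2, 0] .nil (.cons [12, 8, 10, 2, 4, 6, 8, 18, 20, 10, 12, 8, 10, 4, 6, 8, 18, 16, 14, 12, 10, 8, 6, 4, 2, 0] .nil (.cons [1, 12, 10, 2, 4, 6, 8, 18, 20, 10, 12, 8, 10, 4, 6, 8, 18, 16, 14, 12, 10, 8, 6, 4, 2, 0] .nil (.cons [14, 12, 10, 2, 4, 6, 8, 18, 20, 10, 12, 8, 10, 4, 6, 8, 18, 16, 14, 12, 10, 8, 6, 4, 2, 0] .nil (.cons [12, 6, 8, 10, 4, 6, 8, 18, 20, 10, 12, 8, 10, 4, 6, 8, 18, 16, 14, 12, 10, 8, 6, 4, 2, 0] .nil (.cons [18, 6, 8, 10, 4, 6, 8, 18, 20, 10, 12, 8, 10, 4, 6, 8, 18, 16, 14, 12, 10, 8, 6, 4, 2, 0] .nil (.cons [16, 14, 12, 10, 4, 6, 8, 18, 20, 10, 12, 8, 10,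 4, 6, 8, 18, 16, 14, 12, 10, 8, 6, 4, 2, 0] .nil (.cons [14, 10, 12, 8, 10, 6, 8, 18, 20, 10, 12, 8, 10, 4, 6, 8, 18, 16, 14, 12, 10, 8, 6, 4, 2, 0] .nil (.cons [16, 14, 12, 8, 10, 6, 8, 18, 20, 10, 12, 8, 10, 4, 6, 8, 18, 16, 14, 12, 10, 8, 6, 4, 2, 0] .nil (.cons [18, 14, 12, 8, 10, 6, 8, 18, 20, 10, 12, 8, 10, 4, 6, 8, 18, 16, 14, 12, 10, 8, 6, 4, 2, 0] (.cons [10, 8, 6, 16, 8, 10, 4, 6, 8, 2, 4, 6, 16, 18, 4, 2, 0, 8, 10, 6, 4, 2, 8, 6, 4, 16, 6, 8, 10, 12, 14] (.cons [10, 0, 4, 2, 8, 6, 4, 14, 6, 8, 16] .nil .nil) .nil) (.cons [20, 18, 12, 8, 10, 6, 8, 18, 20, 10, 12, 8, 10, 4, 6, 8, 18, 16, 14, 12, 10, 8, 6, 4, 2, 0] .nil (.cons [10, 1, 2, 4, 6, 8, 18, 20, 18, 14, 12, 8, 10, 4, 6, 8, 18, 16, 14, 12, 10, 8, 6, 4, 2,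 0] .nil (.cons [1, 10, 2, 4, 6, 8, 18, 20, 18, 14, 12, 8, 10, 4, 6, 8, 18, 16, 14, 12, 10, 8, 6, 4, 2, 0] .nil (.cons [8, 10, 2, 4, 6, 8, 18, 20, 18, 14, 12, 8, 10, 4, 6, 8, 18, 16, 14, 12, 10, 8, 6, 4, 2, 0] (.cons [6, 16, 12, 8, 10, 6, 8, 4, 6, 16, 18, 4, 2, 0, 16, 6, 4, 2, 8, 6, 4, 16, 6, 8, 10, 12, 14] (.cons [14, 10, 0, 2, 8, 6, 14, 4, 6, 8] (.cons [1, 1, 3, 0, 0, 0, 2, 2, 0] .nil .nil) .nil) .nil) (.cons [18, 8, 10, 4, 6, 8, 18, 20, 18, 14, 12, 8, 10, 4, 6, 8, 18, 16, 14, 12, 10, 8, 6, 4, 2, 0] .nil (.cons [14, 12, 10, 4, 6, 8, 18, 20, 18, 14, 12, 8, 10, 4, 6, 8, 18, 16, 14, 12, 10, 8, 6, 4, 2, 0] (.cons [4, 6, 2, 0, 4, 2, 8, 6, 10, 8, 16, 18, 6, 4, 16, 6, 8, 10, 12, 14] (.cons [14, 12, 10, 4, 6, 2, 4, 14, 6, 8, 10,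 16] (.cons [1, 2, 2, 1, 1, 3, 0, 0, 3] .nil .nil) .nil) .nil) (.cons [18, 12, 8, 10, 6, 8, 18, 20, 18, 14, 12, 8, 10, 4, 6, 8, 18, 16, 14, 12, 10, 8, 6, 4, 2, 0] (.cons [18, 6, 8, 4, 6, 16, 10, 12, 8, 10, 6, 8, 4, 6, 2, 0, 4, 2, 12, 8, 6, 10, 8, 16, 18, 6, 4, 16, 6, 8, 10, 12, 14] (.cons [12, 14, 0, 2, 4, 16, 14, 6, 8, 10] (.cons [3, 3, 0, 2, 0, 2, 1, 3, 1] (.cons [2, 0, 2, 2, 0, 2, 0, 2] .nil .nil) .nil) .nil) .nil) (.cons [16, 14, 12, 10, 6, 8, 18, 20, 18, 14, 12, 8, 10, 4, 6, 8, 18, 16, 14, 12, 10, 8, 6, 4, 2, 0] .nil (.cons [8, 1, 10, 2, 4, 6, 8, 18, 20, 14, 12, 8, 10, 4, 6, 8, 18, 16, 14, 12, 10, 8, 6, 4, 2, 0] .nil (.cons [12, 1, 10, 2, 4, 6, 8, 18, 20, 14, 12, 8, 10, 4, 6, 8, 18, 16, 14, 12, 10, 8, 6, 4, 2, 0] .nil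 (.cons [6, 8, 10, 2, 4, 6, 8, 18, 20, 14, 12, 8, 10, 4, 6, 8, 18, 16, 14, 12, 10, 8, 6, 4, 2, 0] .nil (.cons [18, 8, 10, 2, 4, 6, 8, 18, 20, 14, 12, 8, 10, 4, 6, 8, 18, 16, 14, 12, 10, 8, 6, 4, 2, 0] .nil (.cons [1, 12, 10, 2, 4, 6, 8, 18, 20, 14, 12, 8, 10, 4, 6, 8, 18, 16, 14, 12, 10, 8, 6, 4, 2, 0] .nil (.cons [14, 12, 10, 2, 4, 6, 8, 18, 20, 14, 12, 8, 10, 4, 6, 8, 18, 16, 14, 12, 10, 8, 6, 4, 2, 0] .nil (.cons [12, 6, 8, 10, 4, 6, 8, 18, 20, 14, 12, 8, 10, 4, 6, 8, 18, 16, 14, 12, 10, 8, 6, 4, 2, 0] .nil (.cons [18, 6, 8, 10, 4, 6, 8, 18, 20, 14, 12, 8, 10, 4, 6, 8, 18, 16, 14, 12, 10, 8, 6, 4, 2, 0] .nil (.cons [10, 12, 8, 10, 4, 6, 8, 18, 20, 14, 12, 8, 10, 4, 6, 8, 18, 16, 14, 12, 10, 8, 6, 4, 2, 0] .nil (.cons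 [14, 12, 8, 10, 4, 6, 8, 18, 20, 14, 12, 8, 10, 4, 6, 8, 18, 16, 14, 12, 10, 8, 6, 4, 2, 0] .nil (.cons [20, 18, 8, 10, 4, 6, 8, 18, 20, 14, 12, 8, 10, 4, 6, 8, 18, 16, 14, 12, 10, 8, 6, 4, 2, 0] (.cons [18, 16, 6, 8, 4, 6, 16, 10, 12, 6, 8, 10, 4, 6, 8, 2, 4, 6, 16, 18, 2, 0, 8, 10, 16, 6, 4, 2, 8, 6, 4, 16, 6, 8, 10, 12, 14] (.cons [8, 10, 6, 8, 4, 6, 16, 14, 2, 4, 8, 10] (.cons [3, 1, 2, 0, 3, 1, 2, 1, 3] (.cons [0, 2, 1, 3, 1, 1, 3] .nil .nil) .nil) .nil) .nil) (.cons [16, 14, 12, 10, 4, 6, 8, 18, 20, 14, 12, 8, 10, 4, 6, 8, 18, 16, 14, 12, 10, 8, 6, 4, 2, 0] .nil (.cons [18, 10, 12, 8, 10, 6, 8, 18, 20, 14, 12, 8, 10, 4, 6, 8, 18, 16, 14, 12, 10, 8, 6, 4, 2, 0] .nil (.cons [18, 14, 12, 8, 10, 6, 8, 18, 20, 14, 12,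 8, 10, 4, 6, 8, 18, 16, 14, 12, 10, 8, 6, 4, 2, 0] .nil (.cons [8, 1, 10, 2, 4, 6, 8, 18, 20, 18, 12, 8, 10, 4, 6, 8, 18, 16, 14, 12, 10, 8, 6, 4, 2, 0] .nil (.cons [18, 8, 10, 2, 4, 6, 8, 18, 20, 18, 12, 8, 10, 4, 6, 8, 18, 16, 14, 12, 10, 8, 6, 4, 2, 0] .nil (.cons [1, 12, 10, 2, 4, 6, 8, 18, 20, 18, 12, 8, 10, 4, 6, 8, 18, 16, 14, 12, 10, 8, 6, 4, 2, 0] .nil (.cons [14, 12, 10, 2, 4, 6, 8, 18, 20, 18, 12, 8, 10, 4, 6, 8, 18, 16, 14, 12, 10, 8, 6, 4, 2, 0] .nil (.cons [12, 6, 8, 10, 4, 6, 8, 18, 20, 18, 12, 8, 10, 4, 6, 8, 18, 16, 14, 12, 10, 8, 6, 4, 2, 0] .nil (.cons [18, 6, 8, 10, 4, 6, 8, 18, 20, 18, 12, 8, 10, 4, 6, 8, 18, 16, 14, 12, 10, 8, 6, 4, 2, 0] .nil (.cons [10, 12, 8, 10, 4, 6, 8, 18, 20, 18, 12, 8, 10,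 4, 6, 8, 18, 16, 14, 12, 10, 8, 6, 4, 2, 0] .nil (.cons [18, 12, 8, 10, 4, 6, 8, 18, 20, 18, 12, 8, 10, 4, 6, 8, 18, 16, 14, 12, 10, 8, 6, 4, 2, 0] .nil (.cons [20, 18, 8, 10, 4, 6, 8, 18, 20, 18, 12, 8, 10, 4, 6, 8, 18, 16, 14, 12, 10, 8, 6, 4, 2, 0] .nil (.cons [16, 14, 12, 10, 4, 6, 8, 18, 20, 18, 12, 8, 10, 4, 6, 8, 18, 16, 14, 12, 10, 8, 6, 4, 2, 0] .nil (.cons [18, 10, 12, 8, 10, 6, 8, 18, 20, 18, 12, 8, 10, 4, 6, 8, 18, 16, 14, 12, 10, 8, 6, 4, 2, 0] .nil (.cons [16, 14, 12, 8, 10, 6, 8, 18, 20, 18, 12, 8, 10, 4, 6, 8, 18, 16, 14, 12, 10, 8, 6, 4, 2, 0] (.cons [6, 16, 8, 10, 12, 6, 8, 10, 4, 6, 8, 2, 4, 6, 16, 18, 0, 10, 16, 6, 4, 2, 8, 6, 4, 16, 6, 8, 10, 12, 14] (.cons [2, 14, 6, 12, 4, 6, 8, 16] (.cons [1, 2,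 2, 0, 3, 0, 3] (.cons [1, 1, 2, 0, 2, 1, 2, 2, 1, 1] .nil .nil) .nil) .nil) .nil) (.cons [12, 1, 8, 10, 2, 4, 6, 8, 18, 20, 12, 8, 10, 4, 6, 8, 18, 16, 14, 12, 10, 8, 6, 4, 2, 0] .nil (.cons [18, 1, 8, 10, 2, 4, 6, 8, 18, 20, 12, 8, 10, 4, 6, 8, 18, 16, 14, 12, 10, 8, 6, 4, 2, 0] .nil (.cons [14, 1, 12, 10, 2, 4, 6, 8, 18, 20, 12, 8, 10, 4, 6, 8, 18, 16, 14, 12, 10, 8, 6, 4, 2, 0] .nil (.cons [1, 6, 8, 10, 2, 4, 6, 8, 18, 20, 12, 8, 10, 4, 6, 8, 18, 16, 14, 12, 10, 8, 6, 4, 2, 0] .nil (.cons [12, 6, 8, 10, 2, 4, 6, 8, 18, 20, 12, 8, 10, 4, 6, 8, 18, 16, 14, 12, 10, 8, 6, 4, 2, 0] .nil (.cons [18, 6, 8, 10, 2, 4, 6, 8, 18, 20, 12, 8, 10, 4, 6, 8, 18, 16, 14, 12, 10, 8, 6, 4, 2, 0] .nil (.cons [1, 18, 8, 10, 2, 4, 6, 8, 18,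 20, 12, 8, 10, 4, 6, 8, 18, 16, 14, 12, 10, 8, 6, 4, 2, 0] .nil (.cons [20, 18, 8, 10, 2, 4, 6, 8, 18, 20, 12, 8, 10, 4, 6, 8, 18, 16, 14, 12, 10, 8, 6, 4, 2, 0] (.cons [8, 10, 4, 6, 8, 2, 4, 6, 16, 18, 16, 6, 8, 4, 6, 16, 10, 12, 6, 8, 10, 4, 6, 8, 2, 4, 6, 16, 18, 4, 2, 0, 12, 10, 6, 4, 2, 8, 6, 4, 16, 6, 8, 10, 12, 14] (.cons [12, 0, 14, 2, 6, 4, 8, 6] (.cons [2, 1, 1, 1, 2, 1, 1, 2, 2, 0, 0] (.cons [2, 2, 0, 2, 1, 2, 0, 3] .nil .nil) .nil) .nil) .nil) (.cons [14, 12, 6, 8, 10, 4, 6, 8, 18, 20, 12, 8, 10, 4, 6, 8, 18, 16, 14, 12, 10, 8, 6, 4, 2, 0] .nil (.cons [18, 12, 6, 8, 10, 4, 6, 8, 18, 20, 12, 8, 10, 4, 6, 8, 18, 16, 14, 12, 10, 8, 6, 4, 2, 0] (.cons [16, 18, 8, 6, 16, 10, 12, 8, 10, 4, 6, 8, 16, 4, 6, 2, 0, 4,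 2, 8, 6, 10, 8, 16, 18, 6, 4, 16, 6, 8, 10, 12, 14] (.cons [6, 8, 0, 2, 4, 6, 16, 14, 2, 4, 10] (.cons [1, 2, 1, 3, 1, 3, 1, 2, 0] (.cons [1, 3, 3, 0, 3, 1, 3, 0, 0, 2, 1] .nil .nil) .nil) .nil) .nil) (.cons [20, 18, 6, 8, 10, 4, 6, 8, 18, 20, 12, 8, 10, 4, 6, 8, 18, 16, 14, 12, 10, 8, 6, 4, 2, 0] .nil (.cons [14, 10, 12, 8, 10, 4, 6, 8, 18, 20, 12, 8, 10, 4, 6, 8, 18, 16, 14, 12, 10, 8, 6, 4, 2, 0] .nil (.cons [18, 10, 12, 8, 10, 4, 6, 8, 18, 20, 12, 8, 10, 4, 6, 8, 18, 16, 14, 12, 10, 8, 6, 4, 2, 0] .nil (.cons [16, 14, 12, 8, 10, 4, 6, 8, 18, 20, 12, 8, 10, 4, 6, 8, 18, 16, 14, 12, 10, 8, 6, 4, 2, 0] .nil (.cons [18, 14, 12, 8, 10, 4, 6, 8, 18, 20, 12, 8, 10, 4, 6, 8, 18, 16, 14, 12, 10, 8, 6, 4, 2, 0] .nil (.cons [12,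 14, 10, 12, 8, 10, 6, 8, 18, 20, 12, 8, 10, 4, 6, 8, 18, 16, 14, 12, 10, 8, 6, 4, 2, 0] .nil (.cons [16, 14, 10, 12, 8, 10, 6, 8, 18, 20, 12, 8, 10, 4, 6, 8, 18, 16, 14, 12, 10, 8, 6, 4, 2, 0] .nil (.cons [18, 14, 10, 12, 8, 10, 6, 8, 18, 20, 12, 8, 10, 4, 6, 8, 18, 16, 14, 12, 10, 8, 6, 4, 2, 0] .nil (.cons [8, 18, 10, 12, 8, 10, 6, 8, 18, 20, 12, 8, 10, 4, 6, 8, 18, 16, 14, 12, 10, 8, 6, 4, 2, 0] .nil (.cons [20, 18, 10, 12, 8, 10, 6, 8, 18, 20, 12, 8, 10, 4, 6, 8, 18, 16, 14, 12, 10, 8, 6, 4, 2, 0] .nil (.cons [18, 16, 14, 12, 8, 10, 6, 8, 18, 20, 12, 8, 10, 4, 6, 8, 18, 16, 14, 12, 10, 8, 6, 4, 2, 0] .nil (.cons [20, 18, 14, 12, 8, 10, 6, 8, 18, 20, 12, 8, 10, 4, 6, 8, 18, 16, 14, 12, 10, 8, 6, 4, 2, 0] .nil (.cons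 [12, 1, 8, 10, 2, 4, 6, 8, 18, 20, 18, 8, 10, 4, 6, 8, 18, 16, 14, 12, 10, 8, 6, 4, 2, 0] .nil (.cons [14, 1, 12, 10, 2, 4, 6, 8, 18, 20, 18, 8, 10, 4, 6, 8, 18, 16, 14, 12, 10, 8, 6, 4, 2, 0] .nil (.cons [12, 6, 8, 10, 2, 4, 6, 8, 18, 20, 18, 8, 10, 4, 6, 8, 18, 16, 14, 12, 10, 8, 6, 4, 2, 0] .nil (.cons [1, 12, 8, 10, 2, 4, 6, 8, 18, 20, 18, 8, 10, 4, 6, 8, 18, 16, 14, 12, 10, 8, 6, 4, 2, 0] .nil (.cons [10, 12, 8, 10, 2, 4, 6, 8, 18, 20, 18, 8, 10, 4, 6, 8, 18, 16, 14, 12, 10, 8, 6, 4, 2, 0] .nil (.cons [14, 12, 8, 10, 2, 4, 6, 8, 18, 20, 18, 8, 10, 4, 6, 8, 18, 16, 14, 12, 10, 8, 6, 4, 2, 0] .nil (.cons [1, 14, 12, 10, 2, 4, 6, 8, 18, 20, 18, 8, 10, 4, 6, 8, 18, 16, 14, 12, 10, 8, 6, 4, 2, 0] .nil (.cons [16, 14, 12,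 10, 2, 4, 6, 8, 18, 20, 18, 8, 10, 4, 6, 8, 18, 16, 14, 12, 10, 8, 6, 4, 2, 0] .nil (.cons [14, 12, 6, 8, 10, 4, 6, 8, 18, 20, 18, 8, 10, 4, 6, 8, 18, 16, 14, 12, 10, 8, 6, 4, 2, 0] .nil (.cons [18, 12, 6, 8, 10, 4, 6, 8, 18, 20, 18, 8, 10, 4, 6, 8, 18, 16, 14, 12, 10, 8, 6, 4, 2, 0] .nil (.cons [14, 10, 12, 8, 10, 4, 6, 8, 18, 20, 18, 8, 10, 4, 6, 8, 18, 16, 14, 12, 10, 8, 6, 4, 2, 0] .nil (.cons [16, 14, 12, 8, 10, 4, 6, 8, 18, 20, 18, 8, 10, 4, 6, 8, 18, 16, 14, 12, 10, 8, 6, 4, 2, 0] .nil (.cons [18, 14, 12, 8, 10, 4, 6, 8, 18, 20, 18, 8, 10, 4, 6, 8, 18, 16, 14, 12, 10, 8, 6, 4, 2, 0] .nil (.cons [20, 18, 12, 8, 10, 4, 6, 8, 18, 20, 18, 8, 10, 4, 6, 8, 18, 16, 14, 12, 10, 8, 6, 4, 2, 0] .nil (.cons [16, 14, 10, 12,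 8, 10, 6, 8, 18, 20, 18, 8, 10, 4, 6, 8, 18, 16, 14, 12, 10, 8, 6, 4, 2, 0] .nil .nil)))))))))))))))))))))))))))))))))))))))))))))))))))))))))))))))))))))))))))))))))))))))))))))))))))))))))))))))))))))))))))))))))))))))))))))))))))))))))))))))))))))))))))))))))))))))))))))))))))))))))))))))))))))))))))))))))))))))))))))))))))))))))))))))))))) (⟨cu_l0.b, cu_l0.S, [], cu_R39, 0⟩ :: cu_tl) (0 :: cu_lk) Pd.nil 0 = true := by decide +kernel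
theorem cu_r40 : cu_S.run (.cons [12, 1, 6, 8, 10, 2, 4, 6, 8, 18, 20, 8, 10, 4, 6, 8, 18, 16, 14, 12, 10, 8, 6, 4, 2, 0] (.cons [10, 12, 6, 8, 10, 4, 6, 8, 2, 4, 6, 16, 18, 2, 0, 16, 6, 4, 2, 8, 6, 4, 16, 6, 8, 10, 12, 14] (.cons [10, 8, 2, 6, 14, 10, 8, 6] (.cons [0, 2, 0, 2, 1, 2, 2] (.cons [2, 1, 3, 3, 0, 3, 0, 3, 1] .nil .nil) .nil) .nil) .nil) (.cons [10, 1, 12, 8, 10, 2, 4, 6, 8, 18, 20, 8, 10, 4, 6, 8, 18, 16, 14, 12, 10, 8, 6, 4, 2, 0] .nil (.cons [16, 1, 14, 12, 10, 2, 4, 6, 8, 18, 20, 8, 10, 4, 6, 8, 18, 16, 14, 12, 10, 8, 6, 4, 2, 0] .nil (.cons [12, 4, 6, 8, 10, 2, 4, 6, 8, 18, 20, 8, 10, 4, 6, 8, 18, 16, 14, 12, 10, 8, 6, 4, 2, 0] (.cons [10, 4, 6, 8, 2, 4, 6, 16, 18, 6, 8, 4, 6, 16, 10, 12, 6, 8, 10, 4, 6,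 8, 2, 4, 6, 16, 18, 4, 2, 0, 12, 10, 6, 4, 2, 8, 6, 4, 16, 6, 8, 10, 12, 14] (.cons [14, 4, 6, 2, 4, 8, 6, 16] .nil .nil) .nil) (.cons [1, 12, 6, 8, 10, 2, 4, 6, 8, 18, 20, 8, 10, 4, 6, 8, 18, 16, 14, 12, 10, 8, 6, 4, 2, 0] .nil (.cons [10, 12, 6, 8, 10, 2, 4, 6, 8, 18, 20, 8, 10, 4, 6, 8, 18, 16, 14, 12, 10, 8, 6, 4, 2, 0] .nil (.cons [14, 12, 6, 8, 10, 2, 4, 6, 8, 18, 20, 8, 10, 4, 6, 8, 18, 16, 14, 12, 10, 8, 6, 4, 2, 0] .nil (.cons [18, 12, 6, 8, 10, 2, 4, 6, 8, 18, 20, 8, 10, 4, 6, 8, 18, 16, 14, 12, 10, 8, 6, 4, 2, 0] .nil (.cons [1, 10, 12, 8, 10, 2, 4, 6, 8, 18, 20, 8, 10, 4, 6, 8, 18, 16, 14, 12, 10, 8, 6, 4, 2, 0] .nil (.cons [14, 10, 12, 8, 10, 2, 4, 6, 8, 18, 20, 8, 10, 4, 6, 8, 18, 16, 14, 12, 10, 8, 6, 4,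 2, 0] (.cons [18, 2, 16, 12, 14, 10, 12, 8, 10, 6, 8, 4, 6, 16, 18, 2, 0, 14, 12, 10, 6, 4, 2, 8, 6, 4, 16, 6, 8, 10, 12, 14] (.cons [12, 0, 16, 6, 4, 14, 8, 6, 14] (.cons [0, 0, 2, 1, 3, 0, 2, 2] (.cons [2, 2, 0, 3, 0, 3, 1, 3, 1] .nil .nil) .nil) .nil) .nil) (.cons [18, 10, 12, 8, 10, 2, 4, 6, 8, 18, 20, 8, 10, 4, 6, 8, 18, 16, 14, 12, 10, 8, 6, 4, 2, 0] .nil (.cons [1, 14, 12, 8, 10, 2, 4, 6, 8, 18, 20, 8, 10, 4, 6, 8, 18, 16, 14, 12, 10, 8, 6, 4, 2, 0] .nil (.cons [16, 14, 12, 8, 10, 2, 4, 6, 8, 18, 20, 8, 10, 4, 6, 8, 18, 16, 14, 12, 10, 8, 6, 4, 2, 0] .nil (.cons [20, 18, 12, 8, 10, 2, 4, 6, 8, 18, 20, 8, 10, 4, 6, 8, 18, 16, 14, 12, 10, 8, 6, 4, 2, 0] .nil (.cons [14, 10, 12, 6, 8, 10, 4, 6, 8, 18, 20, 8, 10, 4,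 6, 8, 18, 16, 14, 12, 10, 8, 6, 4, 2, 0] .nil (.cons [18, 10, 12, 6, 8, 10, 4, 6, 8, 18, 20, 8, 10, 4, 6, 8, 18, 16, 14, 12, 10, 8, 6, 4, 2, 0] .nil (.cons [16, 14, 12, 6, 8, 10, 4, 6, 8, 18, 20, 8, 10, 4, 6, 8, 18, 16, 14, 12, 10, 8, 6, 4, 2, 0] .nil (.cons [8, 18, 10, 12, 8, 10, 4, 6, 8, 18, 20, 8, 10, 4, 6, 8, 18, 16, 14, 12, 10, 8, 6, 4, 2, 0] .nil (.cons [16, 12, 14, 10, 12, 8, 10, 6, 8, 18, 20, 8, 10, 4, 6, 8, 18, 16, 14, 12, 10, 8, 6, 4, 2, 0] .nil (.cons [18, 12, 14, 10, 12, 8, 10, 6, 8, 18, 20, 8, 10, 4, 6, 8, 18, 16, 14, 12, 10, 8, 6, 4, 2, 0] .nil (.cons [8, 18, 14, 10, 12, 8, 10, 6, 8, 18, 20, 8, 10, 4, 6, 8, 18, 16, 14, 12, 10, 8, 6, 4, 2, 0] .nil (.cons [20, 8, 18, 10, 12, 8, 10, 6, 8, 18, 20, 8, 10, 4, 6,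 8, 18, 16, 14, 12, 10, 8, 6, 4, 2, 0] .nil (.cons [6, 1, 8, 10, 2, 4, 6, 8, 18, 20, 14, 12, 10, 4, 6, 8, 18, 16, 14, 12, 10, 8, 6, 4, 2, 0] .nil (.cons [18, 1, 8, 10, 2, 4, 6, 8, 18, 20, 14, 12, 10, 4, 6, 8, 18, 16, 14, 12, 10, 8, 6, 4, 2, 0] .nil (.cons [14, 1, 12, 10, 2, 4, 6, 8, 18, 20, 14, 12, 10, 4, 6, 8, 18, 16, 14, 12, 10, 8, 6, 4, 2, 0] .nil (.cons [1, 6, 8, 10, 2, 4, 6, 8, 18, 20, 14, 12, 10, 4, 6, 8, 18, 16, 14, 12, 10, 8, 6, 4, 2, 0] .nil (.cons [4, 6, 8, 10, 2, 4, 6, 8, 18, 20, 14, 12, 10, 4, 6, 8, 18, 16, 14, 12, 10, 8, 6, 4, 2, 0] .nil (.cons [12, 6, 8, 10, 2, 4, 6, 8, 18, 20, 14, 12, 10, 4, 6, 8, 18, 16, 14, 12, 10, 8, 6, 4, 2, 0] (.cons [2, 12, 10, 8, 6, 4, 14, 12, 10, 8, 6, 16, 18, 4, 2, 0, 14, 12, 10,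 6, 4, 2, 8, 6, 4, 16, 6, 8, 10, 12, 14] (.cons [4, 6, 14, 10, 12, 4, 2, 6, 4, 8, 10] (.cons [2, 0, 0, 2, 0, 3, 1, 1, 1, 1] (.cons [3, 0, 0, 3, 1, 2, 2] .nil .nil) .nil) .nil) .nil) (.cons [1, 12, 8, 10, 2, 4, 6, 8, 18, 20, 14, 12, 10, 4, 6, 8, 18, 16, 14, 12, 10, 8, 6, 4, 2, 0] .nil (.cons [10, 12, 8, 10, 2, 4, 6, 8, 18, 20, 14, 12, 10, 4, 6, 8, 18, 16, 14, 12, 10, 8, 6, 4, 2, 0] .nil (.cons [18, 12, 8, 10, 2, 4, 6, 8, 18, 20, 14, 12, 10, 4, 6, 8, 18, 16, 14, 12, 10, 8, 6, 4, 2, 0] .nil (.cons [20, 18, 8, 10, 2, 4, 6, 8, 18, 20, 14, 12, 10, 4, 6, 8, 18, 16, 14, 12, 10, 8, 6, 4, 2, 0] .nil (.cons [1, 14, 12, 10, 2, 4, 6, 8, 18, 20, 14, 12, 10, 4, 6, 8, 18, 16, 14, 12, 10, 8, 6, 4, 2, 0] .nil (.cons [10, 12, 6, 8, 10, 4,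 6, 8, 18, 20, 14, 12, 10, 4, 6, 8, 18, 16, 14, 12, 10, 8, 6, 4, 2, 0] (.cons [8, 6, 16, 6, 8, 10, 4, 6, 8, 0, 2, 4, 6, 16, 18, 4, 2, 0, 12, 10, 16, 6, 4, 2, 8, 6, 4, 16, 6, 8, 10, 12, 14] (.cons [0, 16, 2, 6, 4, 2, 8, 6, 8] (.cons [0, 2, 2, 1, 2, 1, 2, 2] .nil .nil) .nil) .nil) (.cons [8, 18, 6, 8, 10, 4, 6, 8, 18, 20, 14, 12, 10, 4, 6, 8, 18, 16, 14, 12, 10, 8, 6, 4, 2, 0] .nil (.cons [14, 10, 12, 8, 10, 4, 6, 8, 18, 20, 14, 12, 10, 4, 6, 8, 18, 16, 14, 12, 10, 8, 6, 4, 2, 0] .nil (.cons [18, 10, 12, 8, 10, 4, 6, 8, 18, 20, 14, 12, 10, 4, 6, 8, 18, 16, 14, 12, 10, 8, 6, 4, 2, 0] .nil (.cons [18, 14, 12, 8, 10, 4, 6, 8, 18, 20, 14, 12, 10, 4, 6, 8, 18, 16, 14, 12, 10, 8, 6, 4, 2, 0] .nil (.cons [16, 14, 10, 12, 8, 10, 6,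 8, 18, 20, 14, 12, 10, 4, 6, 8, 18, 16, 14, 12, 10, 8, 6, 4, 2, 0] .nil (.cons [8, 18, 10, 12, 8, 10, 6, 8, 18, 20, 14, 12, 10, 4, 6, 8, 18, 16, 14, 12, 10, 8, 6, 4, 2, 0] .nil (.cons [20, 18, 10, 12, 8, 10, 6, 8, 18, 20, 14, 12, 10, 4, 6, 8, 18, 16, 14, 12, 10, 8, 6, 4, 2, 0] .nil (.cons [18, 16, 14, 12, 8, 10, 6, 8, 18, 20, 14, 12, 10, 4, 6, 8, 18, 16, 14, 12, 10, 8, 6, 4, 2, 0] .nil (.cons [12, 1, 6, 8, 10, 2, 4, 6, 8, 18, 20, 12, 10, 4, 6, 8, 18, 16, 14, 12, 10, 8, 6, 4, 2, 0] .nil (.cons [20, 1, 18, 8, 10, 2, 4, 6, 8, 18, 20, 12, 10, 4, 6, 8, 18, 16, 14, 12, 10, 8, 6, 4, 2, 0] (.cons [4, 6, 16, 18, 16, 6, 8, 4, 6, 16, 10, 12, 6, 8, 10, 4, 6, 8, 2, 4, 6, 16, 18, 4, 2, 0, 12, 10, 6, 4, 2, 8, 6, 4, 16, 6, 8, 10, 12, 14]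 (.cons [10, 6, 4, 2, 8, 12, 10, 12, 8] (.cons [1, 2, 2, 0, 0, 0, 3] .nil .nil) .nil) .nil) (.cons [1, 4, 6, 8, 10, 2, 4, 6, 8, 18, 20, 12, 10, 4, 6, 8, 18, 16, 14, 12, 10, 8, 6, 4, 2, 0] .nil (.cons [18, 4, 6, 8, 10, 2, 4, 6, 8, 18, 20, 12, 10, 4, 6, 8, 18, 16, 14, 12, 10, 8, 6, 4, 2, 0] .nil (.cons [14, 12, 6, 8, 10, 2, 4, 6, 8, 18, 20, 12, 10, 4, 6, 8, 18, 16, 14, 12, 10, 8, 6, 4, 2, 0] .nil (.cons [1, 18, 6, 8, 10, 2, 4, 6, 8, 18, 20, 12, 10, 4, 6, 8, 18, 16, 14, 12, 10, 8, 6, 4, 2, 0] .nil (.cons [8, 18, 6, 8, 10, 2, 4, 6, 8, 18, 20, 12, 10, 4, 6, 8, 18, 16, 14, 12, 10, 8, 6, 4, 2, 0] .nil (.cons [18, 10, 12, 8, 10, 2, 4, 6, 8, 18, 20, 12, 10, 4, 6, 8, 18, 16, 14, 12, 10, 8, 6, 4, 2, 0] .nil (.cons [1, 14, 12, 8, 10,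 2, 4, 6, 8, 18, 20, 12, 10, 4, 6, 8, 18, 16, 14, 12, 10, 8, 6, 4, 2, 0] .nil (.cons [18, 14, 12, 8, 10, 2, 4, 6, 8, 18, 20, 12, 10, 4, 6, 8, 18, 16, 14, 12, 10, 8, 6, 4, 2, 0] .nil (.cons [1, 18, 12, 8, 10, 2, 4, 6, 8, 18, 20, 12, 10, 4, 6, 8, 18, 16, 14, 12, 10, 8, 6, 4, 2, 0] .nil (.cons [20, 18, 12, 8, 10, 2, 4, 6, 8, 18, 20, 12, 10, 4, 6, 8, 18, 16, 14, 12, 10, 8, 6, 4, 2, 0] .nil (.cons [1, 16, 14, 12, 10, 2, 4, 6, 8, 18, 20, 12, 10, 4, 6, 8, 18, 16, 14, 12, 10, 8, 6, 4, 2, 0] .nil (.cons [18, 10, 12, 6, 8, 10, 4, 6, 8, 18, 20, 12, 10, 4, 6, 8, 18, 16, 14, 12, 10, 8, 6, 4, 2, 0] .nil (.cons [18, 14, 12, 6, 8, 10, 4, 6, 8, 18, 20, 12, 10, 4, 6, 8, 18, 16, 14, 12, 10, 8, 6, 4, 2, 0] .nil (.cons [8, 18, 12, 6, 8, 10,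 4, 6, 8, 18, 20, 12, 10, 4, 6, 8, 18, 16, 14, 12, 10, 8, 6, 4, 2, 0] .nil (.cons [10, 8, 18, 6, 8, 10, 4, 6, 8, 18, 20, 12, 10, 4, 6, 8, 18, 16, 14, 12, 10, 8, 6, 4, 2, 0] .nil (.cons [18, 14, 10, 12, 8, 10, 4, 6, 8, 18, 20, 12, 10, 4, 6, 8, 18, 16, 14, 12, 10, 8, 6, 4, 2, 0] .nil (.cons [20, 18, 10, 12, 8, 10, 4, 6, 8, 18, 20, 12, 10, 4, 6, 8, 18, 16, 14, 12, 10, 8, 6, 4, 2, 0] (.cons [4, 2, 14, 12, 8, 6, 10, 8, 16, 18, 6, 4, 16, 6, 8, 10, 12, 14] (.cons [10, 8, 6, 8, 4, 6, 14, 2, 10, 8] (.cons [0, 0, 3, 0, 0, 0, 2, 2] (.cons [2, 2, 0, 3, 1, 3, 0, 3, 0, 2] .nil .nil) .nil) .nil) .nil) (.cons [20, 18, 14, 10, 12, 8, 10, 6, 8, 18, 20, 12, 10, 4, 6, 8, 18, 16, 14, 12, 10, 8, 6, 4, 2, 0] .nil (.cons [6, 8, 18, 10, 12, 8, 10,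 6, 8, 18, 20, 12, 10, 4, 6, 8, 18, 16, 14, 12, 10, 8, 6, 4, 2, 0] .nil (.cons [20, 8, 18, 10, 12, 8, 10, 6, 8, 18, 20, 12, 10, 4, 6, 8, 18, 16, 14, 12, 10, 8, 6, 4, 2, 0] .nil (.cons [18, 1, 10, 12, 8, 10, 2, 4, 6, 8, 18, 20, 10, 4, 6, 8, 18, 16, 14, 12, 10, 8, 6, 4, 2, 0] .nil (.cons [18, 1, 14, 12, 8, 10, 2, 4, 6, 8, 18, 20, 10, 4, 6, 8, 18, 16, 14, 12, 10, 8, 6, 4, 2, 0] .nil (.cons [20, 1, 18, 12, 8, 10, 2, 4, 6, 8, 18, 20, 10, 4, 6, 8, 18, 16, 14, 12, 10, 8, 6, 4, 2, 0] .nil (.cons [18, 14, 10, 12, 8, 10, 2, 4, 6, 8, 18, 20, 10, 4, 6, 8, 18, 16, 14, 12, 10, 8, 6, 4, 2, 0] .nil (.cons [20, 18, 10, 12, 8, 10, 2, 4, 6, 8, 18, 20, 10, 4, 6, 8, 18, 16, 14, 12, 10, 8, 6, 4, 2, 0] .nil (.cons [1, 18, 14, 12, 8, 10, 2, 4,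 6, 8, 18, 20, 10, 4, 6, 8, 18, 16, 14, 12, 10, 8, 6, 4, 2, 0] .nil (.cons [6, 8, 18, 10, 12, 8, 10, 4, 6, 8, 18, 20, 10, 4, 6, 8, 18, 16, 14, 12, 10, 8, 6, 4, 2, 0] (.cons [10, 8, 6, 16, 14, 8, 10, 12, 6, 8, 10, 4, 6, 8, 2, 4, 6, 16, 18, 4, 2, 0, 8, 10, 16, 6, 4, 2, 8, 6, 4, 16, 6, 8, 10, 12, 14] (.cons [8, 0, 2, 4, 6, 14, 8, 6] (.cons [0, 2, 0, 0, 0, 2, 1, 1] .nil .nil) .nil) .nil) (.cons [20, 8, 18, 10, 12, 8, 10, 4, 6, 8, 18, 20, 10, 4, 6, 8, 18, 16, 14, 12, 10, 8, 6, 4, 2, 0] .nil (.cons [8, 18, 12, 14, 10, 12, 8, 10, 6, 8, 18, 20, 10, 4, 6, 8, 18, 16, 14, 12, 10, 8, 6, 4, 2, 0] .nil (.cons [6, 8, 18, 14, 10, 12, 8, 10, 6, 8, 18, 20, 10, 4, 6, 8, 18, 16, 14, 12, 10, 8, 6, 4, 2, 0] .nil (.cons [4, 6, 8, 18, 10, 12, 8,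 10, 6, 8, 18, 20, 10, 4, 6, 8, 18, 16, 14, 12, 10, 8, 6, 4, 2, 0] .nil (.cons [18, 20, 8, 18, 10, 12, 8, 10, 6, 8, 18, 20, 10, 4, 6, 8, 18, 16, 14, 12, 10, 8, 6, 4, 2, 0] .nil (.cons [6, 8, 18, 12, 14, 10, 12, 8, 10, 6, 8, 18, 20, 4, 6, 8, 18, 16, 14, 12, 10, 8, 6, 4, 2, 0] .nil (.cons [10, 8, 18, 12, 14, 10, 12, 8, 10, 6, 8, 18, 20, 4, 6, 8, 18, 16, 14, 12, 10, 8, 6, 4, 2, 0] .nil (.cons [4, 6, 8, 18, 14, 10, 12, 8, 10, 6, 8, 18, 20, 4, 6, 8, 18, 16, 14, 12, 10, 8, 6, 4, 2, 0] .nil (.cons [12, 10, 6, 8, 18, 20, 8, 18, 12, 14, 10, 12, 8, 10, 6, 8, 18, 16, 14, 12, 10, 8, 6, 4, 2, 0] .nil (.cons [14, 12, 10, 8, 18, 20, 8, 18, 12, 14, 10, 12, 8, 10, 6, 8, 18, 16, 14, 12, 10, 8, 6, 4, 2, 0] .nil (.cons [10, 2, 4, 6, 8, 18,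 20, 18, 12, 14, 10, 12, 8, 10, 6, 8, 18, 16, 14, 12, 10, 8, 6, 4, 2, 0] .nil (.cons [12, 10, 4, 6, 8, 18, 20, 18, 12, 14, 10, 12, 8, 10, 6, 8, 18, 16, 14, 12, 10, 8, 6, 4, 2, 0] .nil (.cons [14, 12, 10, 6, 8, 18, 20, 18, 12, 14, 10, 12, 8, 10, 6, 8, 18, 16, 14, 12, 10, 8, 6, 4, 2, 0] .nil (.cons [16, 14, 12, 10, 8, 18, 20, 18, 12, 14, 10, 12, 8, 10, 6, 8, 18, 16, 14, 12, 10, 8, 6, 4, 2, 0] .nil (.cons [10, 1, 2, 4, 6, 8, 18, 20, 12, 14, 10, 12, 8, 10, 6, 8, 18, 16, 14, 12, 10, 8, 6, 4, 2, 0] .nil (.cons [8, 10, 2, 4, 6, 8, 18, 20, 12, 14, 10, 12, 8, 10, 6, 8, 18, 16, 14, 12, 10, 8, 6, 4, 2, 0] .nil (.cons [12, 10, 2, 4, 6, 8, 18, 20, 12, 14, 10, 12, 8, 10, 6, 8, 18, 16, 14, 12, 10, 8, 6, 4, 2, 0] .nil (.cons [14, 12, 10,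 4, 6, 8, 18, 20, 12, 14, 10, 12, 8, 10, 6, 8, 18, 16, 14, 12, 10, 8, 6, 4, 2, 0] .nil (.cons [10, 12, 8, 10, 6, 8, 18, 20, 12, 14, 10, 12, 8, 10, 6, 8, 18, 16, 14, 12, 10, 8, 6, 4, 2, 0] .nil (.cons [14, 12, 8, 10, 6, 8, 18, 20, 12, 14, 10, 12, 8, 10, 6, 8, 18, 16, 14, 12, 10, 8, 6, 4, 2, 0] .nil (.cons [16, 14, 12, 10, 8, 18, 20, 8, 18, 14, 10, 12, 8, 10, 6, 8, 18, 16, 14, 12, 10, 8, 6, 4, 2, 0] .nil (.cons [8, 10, 2, 4, 6, 8, 18, 20, 18, 14, 10, 12, 8, 10, 6, 8, 18, 16, 14, 12, 10, 8, 6, 4, 2, 0] .nil (.cons [12, 10, 2, 4, 6, 8, 18, 20, 18, 14, 10, 12, 8, 10, 6, 8, 18, 16, 14, 12, 10, 8, 6, 4, 2, 0] .nil (.cons [12, 8, 10, 4, 6, 8, 18, 20, 18, 14, 10, 12, 8, 10, 6, 8, 18, 16, 14, 12, 10, 8, 6, 4, 2, 0] .nil (.cons [14,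 12, 10, 4, 6, 8, 18, 20, 18, 14, 10, 12, 8, 10, 6, 8, 18, 16, 14, 12, 10, 8, 6, 4, 2, 0] .nil (.cons [10, 12, 8, 10, 6, 8, 18, 20, 18, 14, 10, 12, 8, 10, 6, 8, 18, 16, 14, 12, 10, 8, 6, 4, 2, 0] .nil (.cons [20, 18, 8, 10, 6, 8, 18, 20, 18, 14, 10, 12, 8, 10, 6, 8, 18, 16, 14, 12, 10, 8, 6, 4, 2, 0] .nil (.cons [16, 14, 12, 10, 6, 8, 18, 20, 18, 14, 10, 12, 8, 10, 6, 8, 18, 16, 14, 12, 10, 8, 6, 4, 2, 0] .nil (.cons [12, 1, 10, 2, 4, 6, 8, 18, 20, 14, 10, 12, 8, 10, 6, 8, 18, 16, 14, 12, 10, 8, 6, 4, 2, 0] .nil (.cons [6, 8, 10, 2, 4, 6, 8, 18, 20, 14, 10, 12, 8, 10, 6, 8, 18, 16, 14, 12, 10, 8, 6, 4, 2, 0] .nil (.cons [12, 8, 10, 2, 4, 6, 8, 18, 20, 14, 10, 12, 8, 10, 6, 8, 18, 16, 14, 12, 10, 8, 6, 4, 2, 0] .nil (.cons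 [18, 8, 10, 2, 4, 6, 8, 18, 20, 14, 10, 12, 8, 10, 6, 8, 18, 16, 14, 12, 10, 8, 6, 4, 2, 0] .nil (.cons [12, 6, 8, 10, 4, 6, 8, 18, 20, 14, 10, 12, 8, 10, 6, 8, 18, 16, 14, 12, 10, 8, 6, 4, 2, 0] .nil (.cons [20, 18, 8, 10, 4, 6, 8, 18, 20, 14, 10, 12, 8, 10, 6, 8, 18, 16, 14, 12, 10, 8, 6, 4, 2, 0] .nil (.cons [14, 10, 12, 8, 10, 6, 8, 18, 20, 14, 10, 12, 8, 10, 6, 8, 18, 16, 14, 12, 10, 8, 6, 4, 2, 0] (.cons [6, 16, 18, 2, 6, 4, 14, 12, 10, 8, 6, 16, 18, 4, 2, 0, 14, 12, 10, 6, 4, 2, 8, 6, 4, 16, 6, 8, 10, 12, 14] (.cons [6, 0, 2, 4, 16, 6, 14, 2] (.cons [2, 1, 3, 1, 1, 3, 1, 2, 1] .nil .nil) .nil) .nil) (.cons [18, 10, 12, 8, 10, 6, 8, 18, 20, 14, 10, 12, 8, 10, 6, 8, 18, 16, 14, 12, 10, 8, 6, 4, 2, 0] (.cons [16, 18,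 8, 6, 16, 4, 12, 10, 8, 6, 4, 2, 0, 14, 12, 10, 8, 2, 4, 6, 16, 18, 8, 10, 6, 4, 2, 8, 6, 4, 16, 6, 8, 10, 12, 14] (.cons [16, 12, 14, 10, 8, 6, 4, 2, 16] (.cons [1, 3, 3, 0, 0, 0, 3, 1, 2, 1] (.cons [1, 1, 2, 1, 2, 0, 3, 3] .nil .nil) .nil) .nil) .nil) (.cons [20, 18, 12, 8, 10, 6, 8, 18, 20, 14, 10, 12, 8, 10, 6, 8, 18, 16, 14, 12, 10, 8, 6, 4, 2, 0] .nil (.cons [6, 8, 10, 2, 4, 6, 8, 18, 20, 18, 10, 12, 8, 10, 6, 8, 18, 16, 14, 12, 10, 8, 6, 4, 2, 0] .nil (.cons [12, 8, 10, 2, 4, 6, 8, 18, 20, 18, 10, 12, 8, 10, 6, 8, 18, 16, 14, 12, 10, 8, 6, 4, 2, 0] .nil (.cons [14, 12, 10, 2, 4, 6, 8, 18, 20, 18, 10, 12, 8, 10, 6, 8, 18, 16, 14, 12, 10, 8, 6, 4, 2, 0] .nil (.cons [12, 6, 8, 10, 4, 6, 8, 18, 20, 18, 10, 12, 8, 10,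 6, 8, 18, 16, 14, 12, 10, 8, 6, 4, 2, 0] .nil (.cons [16, 14, 12, 10, 4, 6, 8, 18, 20, 18, 10, 12, 8, 10, 6, 8, 18, 16, 14, 12, 10, 8, 6, 4, 2, 0] .nil (.cons [16, 14, 12, 8, 10, 6, 8, 18, 20, 18, 10, 12, 8, 10, 6, 8, 18, 16, 14, 12, 10, 8, 6, 4, 2, 0] .nil (.cons [6, 1, 8, 10, 2, 4, 6, 8, 18, 20, 10, 12, 8, 10, 6, 8, 18, 16, 14, 12, 10, 8, 6, 4, 2, 0] .nil (.cons [4, 6, 8, 10, 2, 4, 6, 8, 18, 20, 10, 12, 8, 10, 6, 8, 18, 16, 14, 12, 10, 8, 6, 4, 2, 0] .nil (.cons [18, 6, 8, 10, 2, 4, 6, 8, 18, 20, 10, 12, 8, 10, 6, 8, 18, 16, 14, 12, 10, 8, 6, 4, 2, 0] .nil (.cons [1, 12, 8, 10, 2, 4, 6, 8, 18, 20, 10, 12, 8, 10, 6, 8, 18, 16, 14, 12, 10, 8, 6, 4, 2, 0] .nil (.cons [10, 12, 8, 10, 2, 4, 6, 8, 18, 20, 10, 12, 8, 10, 6,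 8, 18, 16, 14, 12, 10, 8, 6, 4, 2, 0] .nil (.cons [1, 18, 8, 10, 2, 4, 6, 8, 18, 20, 10, 12, 8, 10, 6, 8, 18, 16, 14, 12, 10, 8, 6, 4, 2, 0] .nil (.cons [14, 12, 6, 8, 10, 4, 6, 8, 18, 20, 10, 12, 8, 10, 6, 8, 18, 16, 14, 12, 10, 8, 6, 4, 2, 0] .nil (.cons [18, 10, 12, 8, 10, 4, 6, 8, 18, 20, 10, 12, 8, 10, 6, 8, 18, 16, 14, 12, 10, 8, 6, 4, 2, 0] .nil (.cons [18, 14, 12, 8, 10, 4, 6, 8, 18, 20, 10, 12, 8, 10, 6, 8, 18, 16, 14, 12, 10, 8, 6, 4, 2, 0] .nil (.cons [12, 14, 10, 12, 8, 10, 6, 8, 18, 20, 10, 12, 8, 10, 6, 8, 18, 16, 14, 12, 10, 8, 6, 4, 2, 0] (.cons [14, 12, 10, 6, 8, 2, 4, 6, 16, 18, 12, 10, 16, 6, 4, 2, 8, 6, 4, 16, 6, 8, 10, 12, 14] (.cons [12, 8, 6, 4, 6, 8, 16] (.cons [0, 3, 0, 2, 1, 3, 1, 2] (.cons [1,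 2, 1, 1, 3, 1, 2] .nil .nil) .nil) .nil) .nil) (.cons [20, 18, 14, 12, 8, 10, 6, 8, 18, 20, 10, 12, 8, 10, 6, 8, 18, 16, 14, 12, 10, 8, 6, 4, 2, 0] .nil (.cons [1, 8, 10, 2, 4, 6, 8, 18, 20, 18, 14, 12, 8, 10, 6, 8, 18, 16, 14, 12, 10, 8, 6, 4, 2, 0] .nil (.cons [12, 8, 10, 2, 4, 6, 8, 18, 20, 18, 14, 12, 8, 10, 6, 8, 18, 16, 14, 12, 10, 8, 6, 4, 2, 0] .nil (.cons [1, 12, 10, 2, 4, 6, 8, 18, 20, 18, 14, 12, 8, 10, 6, 8, 18, 16, 14, 12, 10, 8, 6, 4, 2, 0] .nil (.cons [14, 12, 10, 2, 4, 6, 8, 18, 20, 18, 14, 12, 8, 10, 6, 8, 18, 16, 14, 12, 10, 8, 6, 4, 2, 0] .nil (.cons [12, 6, 8, 10, 4, 6, 8, 18, 20, 18, 14, 12, 8, 10, 6, 8, 18, 16, 14, 12, 10, 8, 6, 4, 2, 0] .nil (.cons [10, 12, 8, 10, 4, 6, 8, 18, 20, 18, 14, 12, 8, 10,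 6, 8, 18, 16, 14, 12, 10, 8, 6, 4, 2, 0] .nil (.cons [16, 14, 12, 10, 4, 6, 8, 18, 20, 18, 14, 12, 8, 10, 6, 8, 18, 16, 14, 12, 10, 8, 6, 4, 2, 0] .nil (.cons [14, 10, 12, 8, 10, 6, 8, 18, 20, 18, 14, 12, 8, 10, 6, 8, 18, 16, 14, 12, 10, 8, 6, 4, 2, 0] .nil (.cons [18, 10, 12, 8, 10, 6, 8, 18, 20, 18, 14, 12, 8, 10, 6, 8, 18, 16, 14, 12, 10, 8, 6, 4, 2, 0] .nil (.cons [18, 14, 12, 8, 10, 6, 8, 18, 20, 18, 14, 12, 8, 10, 6, 8, 18, 16, 14, 12, 10, 8, 6, 4, 2, 0] .nil (.cons [6, 1, 8, 10, 2, 4, 6, 8, 18, 20, 14, 12, 8, 10, 6, 8, 18, 16, 14, 12, 10, 8, 6, 4, 2, 0] .nil (.cons [14, 1, 12, 10, 2, 4, 6, 8, 18, 20, 14, 12, 8, 10, 6, 8, 18, 16, 14, 12, 10, 8, 6, 4, 2, 0] .nil (.cons [1, 6, 8, 10, 2, 4, 6, 8, 18, 20, 14, 12, 8, 10,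 6, 8, 18, 16, 14, 12, 10, 8, 6, 4, 2, 0] (.cons [18, 10, 8, 6, 16, 12, 8, 10, 6, 4, 2, 8, 6, 4, 0, 2, 12, 4, 6, 10, 8, 16, 18, 6, 4, 16, 6, 8, 10, 12, 14] (.cons [0, 2, 4, 12, 6, 14, 8, 10, 16] (.cons [1, 3, 3, 1, 2, 1, 2, 2, 0] (.cons [1, 1, 3, 3, 1, 2, 0, 3, 1, 1] .nil .nil) .nil) .nil) .nil) (.cons [4, 6, 8, 10, 2, 4, 6, 8, 18, 20, 14, 12, 8, 10, 6, 8, 18, 16, 14, 12, 10, 8, 6, 4, 2, 0] .nil (.cons [18, 6, 8, 10, 2, 4, 6, 8, 18, 20, 14, 12, 8, 10, 6, 8, 18, 16, 14, 12, 10, 8, 6, 4, 2, 0] .nil (.cons [14, 12, 8, 10, 2, 4, 6, 8, 18, 20, 14, 12, 8, 10, 6, 8, 18, 16, 14, 12, 10, 8, 6, 4, 2, 0] .nil (.cons [18, 12, 8, 10, 2, 4, 6, 8, 18, 20, 14, 12, 8, 10, 6, 8, 18, 16, 14, 12, 10, 8, 6, 4, 2, 0] .nil (.cons [1, 18, 8, 10,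 2, 4, 6, 8, 18, 20, 14, 12, 8, 10, 6, 8, 18, 16, 14, 12, 10, 8, 6, 4, 2, 0] .nil (.cons [1, 14, 12, 10, 2, 4, 6, 8, 18, 20, 14, 12, 8, 10, 6, 8, 18, 16, 14, 12, 10, 8, 6, 4, 2, 0] .nil (.cons [16, 14, 12, 10, 2, 4, 6, 8, 18, 20, 14, 12, 8, 10, 6, 8, 18, 16, 14, 12, 10, 8, 6, 4, 2, 0] (.cons [18, 14, 4, 8, 6, 10, 8, 12, 10, 16, 6, 4, 2, 8, 6, 4, 16, 6, 8, 10, 12, 14] (.cons [2, 4, 6, 4, 14, 2, 8, 6, 8] .nil .nil) .nil) (.cons [10, 12, 6, 8, 10, 4, 6, 8, 18, 20, 14, 12, 8, 10, 6, 8, 18, 16, 14, 12, 10, 8, 6, 4, 2, 0] (.cons [18, 8, 6, 4, 2, 16, 8, 6, 4, 12, 10, 8, 6, 16, 18, 4, 2, 0, 14, 12, 10, 6, 4, 2, 8, 6, 4, 16, 6, 8, 10, 12, 14] (.cons [6, 8, 4, 6, 14, 0, 2, 4, 6, 14, 8, 16] (.cons [1, 2, 2, 1, 2, 0, 2, 0] (.cons [1,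 3, 1, 2, 1, 1, 3, 0, 3, 1, 1] .nil .nil) .nil) .nil) .nil) (.cons [14, 10, 12, 8, 10, 4, 6, 8, 18, 20, 14, 12, 8, 10, 6, 8, 18, 16, 14, 12, 10, 8, 6, 4, 2, 0] .nil (.cons [18, 10, 12, 8, 10, 4, 6, 8, 18, 20, 14, 12, 8, 10, 6, 8, 18, 16, 14, 12, 10, 8, 6, 4, 2, 0] .nil (.cons [18, 14, 12, 8, 10, 4, 6, 8, 18, 20, 14, 12, 8, 10, 6, 8, 18, 16, 14, 12, 10, 8, 6, 4, 2, 0] (.cons [4, 6, 16, 18, 16, 12, 6, 4, 8, 10, 12, 6, 8, 10, 4, 6, 16, 6, 4, 2, 8, 6, 4, 0, 2, 4, 6, 10, 8, 16, 18, 6, 4, 16, 6, 8, 10, 12, 14] (.cons [8, 10, 6, 14, 4, 8, 6, 4, 8] (.cons [3, 0, 0, 0, 2, 0, 2, 1, 2, 1] (.cons [3, 0, 3, 0, 3, 1, 3, 0] .nil .nil) .nil) .nil) .nil) (.cons [6, 1, 8, 10, 2, 4, 6, 8, 18, 20, 18, 12, 8, 10, 6, 8, 18, 16, 14, 12, 10, 8,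 6, 4, 2, 0] .nil (.cons [12, 1, 8, 10, 2, 4, 6, 8, 18, 20, 18, 12, 8, 10, 6, 8, 18, 16, 14, 12, 10, 8, 6, 4, 2, 0] (.cons [16, 18, 2, 4, 6, 16, 8, 10, 6, 8, 4, 6, 16, 18, 2, 0, 8, 12, 10, 6, 4, 2, 8, 6, 4, 16, 6, 8, 10, 12, 14] (.cons [6, 14, 10, 2, 4, 12] (.cons [2, 0, 3, 1, 1, 3, 1, 2, 1, 2] (.cons [0, 3, 0, 3, 3, 0, 3, 0, 0, 2, 0] .nil .nil) .nil) .nil) .nil) (.cons [14, 1, 12, 10, 2, 4, 6, 8, 18, 20, 18, 12, 8, 10, 6, 8, 18, 16, 14, 12, 10, 8, 6, 4, 2, 0] (.cons [18, 4, 6, 16, 8, 10, 6, 8, 4, 6, 16, 18, 2, 0, 14, 12, 10, 16, 6, 4, 2, 8, 6, 4, 16, 6, 8, 10, 12, 14] (.cons [14, 12, 8, 4, 2, 6, 4, 8] (.cons [2, 1, 1, 1, 2, 0, 0, 3, 3, 0] (.cons [3, 3, 0, 2, 0, 0, 2, 1, 1, 2] .nil .nil) .nil) .nil) .nil) (.cons [1, 18,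 8, 10, 2, 4, 6, 8, 18, 20, 18, 12, 8, 10, 6, 8, 18, 16, 14, 12, 10, 8, 6, 4, 2, 0] .nil (.cons [1, 14, 12, 10, 2, 4, 6, 8, 18, 20, 18, 12, 8, 10, 6, 8, 18, 16, 14, 12, 10, 8, 6, 4, 2, 0] .nil (.cons [10, 12, 6, 8, 10, 4, 6, 8, 18, 20, 18, 12, 8, 10, 6, 8, 18, 16, 14, 12, 10, 8, 6, 4, 2, 0] (.cons [18, 6, 16, 6, 8, 10, 4, 6, 8, 2, 4, 6, 16, 18, 2, 0, 8, 10, 16, 6, 4, 2, 8, 6, 4, 16, 6, 8, 10, 12, 14] (.cons [10, 12, 0, 2, 6, 8] (.cons [3, 1, 1, 3, 3, 1, 1, 1, 3] (.cons [1, 3, 1, 3, 1, 2, 1, 2, 1] .nil .nil) .nil) .nil) .nil) (.cons [14, 12, 6, 8, 10, 4, 6, 8, 18, 20, 18, 12, 8, 10, 6, 8, 18, 16, 14, 12, 10, 8, 6, 4, 2, 0] .nil (.cons [18, 12, 6, 8, 10, 4, 6, 8, 18, 20, 18, 12, 8, 10, 6, 8, 18, 16, 14, 12, 10, 8, 6, 4, 2,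 0] .nil (.cons [14, 10, 12, 8, 10, 4, 6, 8, 18, 20, 18, 12, 8, 10, 6, 8, 18, 16, 14, 12, 10, 8, 6, 4, 2, 0] (.cons [4, 6, 8, 0, 2, 4, 6, 16, 18, 6, 8, 4, 6, 16, 8, 10, 12, 6, 8, 10, 4, 6, 8, 2, 4, 6, 16, 18, 4, 2, 0, 12, 10, 6, 4, 2, 8, 6, 4, 16, 6, 8, 10, 12, 14] .nil .nil) (.cons [18, 10, 12, 8, 10, 4, 6, 8, 18, 20, 18, 12, 8, 10, 6, 8, 18, 16, 14, 12, 10, 8, 6, 4, 2, 0] .nil (.cons [16, 14, 12, 8, 10, 4, 6, 8, 18, 20, 18, 12, 8, 10, 6, 8, 18, 16, 14, 12, 10, 8, 6, 4, 2, 0] .nil (.cons [12, 14, 10, 12, 8, 10, 6, 8, 18, 20, 18, 12, 8, 10, 6, 8, 18, 16, 14, 12, 10, 8, 6, 4, 2, 0] .nil (.cons [12, 1, 6, 8, 10, 2, 4, 6, 8, 18, 20, 12, 8, 10, 6, 8, 18, 16, 14, 12, 10, 8, 6, 4, 2, 0] .nil (.cons [10, 1, 12, 8, 10, 2, 4, 6,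 8, 18, 20, 12, 8, 10, 6, 8, 18, 16, 14, 12, 10, 8, 6, 4, 2, 0] .nil (.cons [12, 4, 6, 8, 10, 2, 4, 6, 8, 18, 20, 12, 8, 10, 6, 8, 18, 16, 14, 12, 10, 8, 6, 4, 2, 0] .nil (.cons [1, 12, 6, 8, 10, 2, 4, 6, 8, 18, 20, 12, 8, 10, 6, 8, 18, 16, 14, 12, 10, 8, 6, 4, 2, 0] .nil (.cons [10, 12, 6, 8, 10, 2, 4, 6, 8, 18, 20, 12, 8, 10, 6, 8, 18, 16, 14, 12, 10, 8, 6, 4, 2, 0] .nil (.cons [18, 12, 6, 8, 10, 2, 4, 6, 8, 18, 20, 12, 8, 10, 6, 8, 18, 16, 14, 12, 10, 8, 6, 4, 2, 0] .nil (.cons [1, 10, 12, 8, 10, 2, 4, 6, 8, 18, 20, 12, 8, 10, 6, 8, 18, 16, 14, 12, 10, 8, 6, 4, 2, 0] .nil (.cons [14, 10, 12, 8, 10, 2, 4, 6, 8, 18, 20, 12, 8, 10, 6, 8, 18, 16, 14, 12, 10, 8, 6, 4, 2, 0] .nil (.cons [18, 10, 12, 8, 10, 2, 4, 6, 8, 18, 20,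 12, 8, 10, 6, 8, 18, 16, 14, 12, 10, 8, 6, 4, 2, 0] .nil (.cons [1, 14, 12, 8, 10, 2, 4, 6, 8, 18, 20, 12, 8, 10, 6, 8, 18, 16, 14, 12, 10, 8, 6, 4, 2, 0] .nil (.cons [14, 10, 12, 6, 8, 10, 4, 6, 8, 18, 20, 12, 8, 10, 6, 8, 18, 16, 14, 12, 10, 8, 6, 4, 2, 0] .nil (.cons [18, 10, 12, 6, 8, 10, 4, 6, 8, 18, 20, 12, 8, 10, 6, 8, 18, 16, 14, 12, 10, 8, 6, 4, 2, 0] .nil (.cons [10, 8, 18, 6, 8, 10, 4, 6, 8, 18, 20, 12, 8, 10, 6, 8, 18, 16, 14, 12, 10, 8, 6, 4, 2, 0] .nil (.cons [20, 8, 18, 6, 8, 10, 4, 6, 8, 18, 20, 12, 8, 10, 6, 8, 18, 16, 14, 12, 10, 8, 6, 4, 2, 0] .nil (.cons [12, 14, 10, 12, 8, 10, 4, 6, 8, 18, 20, 12, 8, 10, 6, 8, 18, 16, 14, 12, 10, 8, 6, 4, 2, 0] .nil (.cons [18, 14, 10, 12, 8, 10, 4, 6, 8, 18, 20, 12,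 8, 10, 6, 8, 18, 16, 14, 12, 10, 8, 6, 4, 2, 0] .nil (.cons [20, 18, 10, 12, 8, 10, 4, 6, 8, 18, 20, 12, 8, 10, 6, 8, 18, 16, 14, 12, 10, 8, 6, 4, 2, 0] .nil (.cons [18, 16, 14, 12, 8, 10, 4, 6, 8, 18, 20, 12, 8, 10, 6, 8, 18, 16, 14, 12, 10, 8, 6, 4, 2, 0] .nil (.cons [18, 12, 14, 10, 12, 8, 10, 6, 8, 18, 20, 12, 8, 10, 6, 8, 18, 16, 14, 12, 10, 8, 6, 4, 2, 0] (.cons [6, 16, 12, 8, 10, 6, 8, 2, 4, 6, 16, 18, 4, 2, 0, 16, 6, 4, 2, 8, 6, 4, 16, 6, 8, 10, 12, 14] (.cons [14, 0, 6, 4, 14, 8, 6, 14] .nil .nil) .nil) (.cons [8, 10, 12, 6, 8, 10, 4, 6, 8, 18, 20, 18, 8, 10, 6, 8, 18, 16, 14, 12, 10, 8, 6, 4, 2, 0] .nil (.cons [18, 12, 14, 10, 12, 8, 10, 6, 8, 18, 20, 18, 8, 10, 6, 8, 18, 16, 14, 12, 10, 8, 6, 4, 2, 0] .nil (.cons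 [10, 1, 12, 6, 8, 10, 2, 4, 6, 8, 18, 20, 8, 10, 6, 8, 18, 16, 14, 12, 10, 8, 6, 4, 2, 0] .nil (.cons [1, 10, 12, 6, 8, 10, 2, 4, 6, 8, 18, 20, 8, 10, 6, 8, 18, 16, 14, 12, 10, 8, 6, 4, 2, 0] .nil (.cons [8, 10, 12, 6, 8, 10, 2, 4, 6, 8, 18, 20, 8, 10, 6, 8, 18, 16, 14, 12, 10, 8, 6, 4, 2, 0] .nil (.cons [14, 10, 12, 6, 8, 10, 2, 4, 6, 8, 18, 20, 8, 10, 6, 8, 18, 16, 14, 12, 10, 8, 6, 4, 2, 0] .nil (.cons [12, 14, 10, 12, 8, 10, 2, 4, 6, 8, 18, 20, 8, 10, 6, 8, 18, 16, 14, 12, 10, 8, 6, 4, 2, 0] .nil (.cons [16, 14, 10, 12, 6, 8, 10, 4, 6, 8, 18, 20, 8, 10, 6, 8, 18, 16, 14, 12, 10, 8, 6, 4, 2, 0] (.cons [8, 2, 4, 6, 16, 18, 10, 8, 6, 16, 8, 10, 12, 6, 8, 10, 4, 6, 8, 2, 4, 6, 16, 18, 4, 2, 0, 12, 10, 6, 4, 2, 8, 6, 4,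 16, 6, 8, 10, 12, 14] (.cons [8, 6, 14, 10, 12, 10, 2, 6] .nil .nil) .nil) (.cons [12, 1, 6, 8, 10, 2, 4, 6, 8, 18, 20, 14, 12, 10, 6, 8, 18, 16, 14, 12, 10, 8, 6, 4, 2, 0] .nil (.cons [12, 4, 6, 8, 10, 2, 4, 6, 8, 18, 20, 14, 12, 10, 6, 8, 18, 16, 14, 12, 10, 8, 6, 4, 2, 0] (.cons [8, 2, 4, 6, 16, 8, 10, 4, 6, 8, 2, 4, 6, 16, 18, 2, 0, 14, 12, 10, 16, 6, 4, 2, 8, 6, 4, 16, 6, 8, 10, 12, 14] (.cons [2, 10, 12, 6, 4, 2, 8] (.cons [0, 2, 1, 1, 1, 3, 0, 3, 1, 2] .nil .nil) .nil) .nil) (.cons [18, 4, 6, 8, 10, 2, 4, 6, 8, 18, 20, 14, 12, 10, 6, 8, 18, 16, 14, 12, 10, 8, 6, 4, 2, 0] .nil (.cons [1, 12, 6, 8, 10, 2, 4, 6, 8, 18, 20, 14, 12, 10, 6, 8, 18, 16, 14, 12, 10, 8, 6, 4, 2, 0] .nil (.cons [10, 12, 6, 8, 10, 2, 4, 6, 8,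 18, 20, 14, 12, 10, 6, 8, 18, 16, 14, 12, 10, 8, 6, 4, 2, 0] .nil (.cons [1, 18, 6, 8, 10, 2, 4, 6, 8, 18, 20, 14, 12, 10, 6, 8, 18, 16, 14, 12, 10, 8, 6, 4, 2, 0] (.cons [18, 10, 8, 6, 16, 12, 6, 8, 10, 4, 6, 8, 2, 4, 6, 16, 18, 2, 0, 8, 10, 6, 4, 2, 8, 6, 4, 16, 6, 8, 10, 12, 14] (.cons [6, 14, 12, 4, 10, 2, 0] (.cons [1, 1, 2, 0, 0, 3, 1, 3, 0, 0] (.cons [1, 3, 1, 3, 1, 3, 3, 0] .nil .nil) .nil) .nil) .nil) (.cons [1, 14, 12, 8, 10, 2, 4, 6, 8, 18, 20, 14, 12, 10, 6, 8, 18, 16, 14, 12, 10, 8, 6, 4, 2, 0] .nil (.cons [18, 14, 12, 8, 10, 2, 4, 6, 8, 18, 20, 14, 12, 10, 6, 8, 18, 16, 14, 12, 10, 8, 6, 4, 2, 0] .nil (.cons [8, 10, 12, 6, 8, 10, 4, 6, 8, 18, 20, 14, 12, 10, 6, 8, 18, 16, 14, 12, 10, 8, 6, 4, 2, 0] .nil (.cons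 [16, 14, 12, 6, 8, 10, 4, 6, 8, 18, 20, 14, 12, 10, 6, 8, 18, 16, 14, 12, 10, 8, 6, 4, 2, 0] .nil (.cons [8, 18, 12, 6, 8, 10, 4, 6, 8, 18, 20, 14, 12, 10, 6, 8, 18, 16, 14, 12, 10, 8, 6, 4, 2, 0] .nil (.cons [20, 18, 12, 6, 8, 10, 4, 6, 8, 18, 20, 14, 12, 10, 6, 8, 18, 16, 14, 12, 10, 8, 6, 4, 2, 0] .nil (.cons [20, 8, 18, 6, 8, 10, 4, 6, 8, 18, 20, 14, 12, 10, 6, 8, 18, 16, 14, 12, 10, 8, 6, 4, 2, 0] .nil (.cons [16, 14, 10, 12, 8, 10, 4, 6, 8, 18, 20, 14, 12, 10, 6, 8, 18, 16, 14, 12, 10, 8, 6, 4, 2, 0] .nil (.cons [18, 14, 10, 12, 8, 10, 4, 6, 8, 18, 20, 14, 12, 10, 6, 8, 18, 16, 14, 12, 10, 8, 6, 4, 2, 0] .nil (.cons [8, 18, 10, 12, 8, 10, 4, 6, 8, 18, 20, 14, 12, 10, 6, 8, 18, 16, 14, 12, 10, 8, 6, 4, 2, 0] .nil (.cons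 [20, 18, 10, 12, 8, 10, 4, 6, 8, 18, 20, 14, 12, 10, 6, 8, 18, 16, 14, 12, 10, 8, 6, 4, 2, 0] .nil (.cons [18, 16, 14, 12, 8, 10, 4, 6, 8, 18, 20, 14, 12, 10, 6, 8, 18, 16, 14, 12, 10, 8, 6, 4, 2, 0] .nil (.cons [18, 16, 14, 10, 12, 8, 10, 6, 8, 18, 20, 14, 12, 10, 6, 8, 18, 16, 14, 12, 10, 8, 6, 4, 2, 0] .nil (.cons [8, 18, 14, 10, 12, 8, 10, 6, 8, 18, 20, 14, 12, 10, 6, 8, 18, 16, 14, 12, 10, 8, 6, 4, 2, 0] .nil (.cons [20, 18, 16, 14, 12, 8, 10, 6, 8, 18, 20, 14, 12, 10, 6, 8, 18, 16, 14, 12, 10, 8, 6, 4, 2, 0] .nil (.cons [14, 1, 12, 6, 8, 10, 2, 4, 6, 8, 18, 20, 12, 10, 6, 8, 18, 16, 14, 12, 10, 8, 6, 4, 2, 0] .nil (.cons [16, 1, 14, 12, 8, 10, 2, 4, 6, 8, 18, 20, 12, 10, 6, 8, 18, 16, 14, 12, 10, 8, 6, 4, 2, 0] .nil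 (.cons [1, 12, 4, 6, 8, 10, 2, 4, 6, 8, 18, 20, 12, 10, 6, 8, 18, 16, 14, 12, 10, 8, 6, 4, 2, 0] .nil (.cons [14, 12, 4, 6, 8, 10, 2, 4, 6, 8, 18, 20, 12, 10, 6, 8, 18, 16, 14, 12, 10, 8, 6, 4, 2, 0] .nil (.cons [16, 14, 12, 6, 8, 10, 2, 4, 6, 8, 18, 20, 12, 10, 6, 8, 18, 16, 14, 12, 10, 8, 6, 4, 2, 0] .nil (.cons [10, 8, 18, 6, 8, 10, 2, 4, 6, 8, 18, 20, 12, 10, 6, 8, 18, 16, 14, 12, 10, 8, 6, 4, 2, 0] .nil (.cons [18, 16, 14, 12, 8, 10, 2, 4, 6, 8, 18, 20, 12, 10, 6, 8, 18, 16, 14, 12, 10, 8, 6, 4, 2, 0] .nil (.cons [1, 18, 14, 12, 8, 10, 2, 4, 6, 8, 18, 20, 12, 10, 6, 8, 18, 16, 14, 12, 10, 8, 6, 4, 2, 0] .nil (.cons [18, 16, 14, 12, 6, 8, 10, 4, 6, 8, 18, 20, 12, 10, 6, 8, 18, 16, 14, 12, 10, 8, 6, 4, 2, 0] .nil (.cons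 [8, 18, 14, 12, 6, 8, 10, 4, 6, 8, 18, 20, 12, 10, 6, 8, 18, 16, 14, 12, 10, 8, 6, 4, 2, 0] .nil (.cons [20, 18, 14, 12, 6, 8, 10, 4, 6, 8, 18, 20, 12, 10, 6, 8, 18, 16, 14, 12, 10, 8, 6, 4, 2, 0] .nil (.cons [10, 8, 18, 12, 6, 8, 10, 4, 6, 8, 18, 20, 12, 10, 6, 8, 18, 16, 14, 12, 10, 8, 6, 4, 2, 0] .nil (.cons [12, 10, 8, 18, 6, 8, 10, 4, 6, 8, 18, 20, 12, 10, 6, 8, 18, 16, 14, 12, 10, 8, 6, 4, 2, 0] (.cons [18, 0, 6, 8, 12, 10, 16, 6, 4, 2, 8, 6, 4, 16, 6, 8, 10, 12, 14] (.cons [14, 16, 6, 4, 2, 10, 8, 6, 4, 12, 14, 6, 8, 16] (.cons [1, 1, 3, 3, 0, 0, 2, 1, 1] (.cons [2, 1, 3, 1, 1, 2, 1, 2] .nil .nil) .nil) .nil) .nil) (.cons [18, 20, 8, 18, 6, 8, 10, 4, 6, 8, 18, 20, 12, 10, 6, 8, 18, 16, 14, 12, 10, 8, 6, 4, 2, 0]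 .nil (.cons [20, 18, 16, 14, 12, 8, 10, 4, 6, 8, 18, 20, 12, 10, 6, 8, 18, 16, 14, 12, 10, 8, 6, 4, 2, 0] .nil (.cons [12, 1, 4, 6, 8, 10, 2, 4, 6, 8, 18, 20, 14, 12, 10, 8, 18, 16, 14, 12, 10, 8, 6, 4, 2, 0] .nil (.cons [10, 1, 12, 6, 8, 10, 2, 4, 6, 8, 18, 20, 14, 12, 10, 8, 18, 16, 14, 12, 10, 8, 6, 4, 2, 0] .nil (.cons [1, 12, 4, 6, 8, 10, 2, 4, 6, 8, 18, 20, 14, 12, 10, 8, 18, 16, 14, 12, 10, 8, 6, 4, 2, 0] .nil (.cons [18, 12, 4, 6, 8, 10, 2, 4, 6, 8, 18, 20, 14, 12, 10, 8, 18, 16, 14, 12, 10, 8, 6, 4, 2, 0] .nil (.cons [1, 10, 12, 6, 8, 10, 2, 4, 6, 8, 18, 20, 14, 12, 10, 8, 18, 16, 14, 12, 10, 8, 6, 4, 2, 0] .nil (.cons [8, 10, 12, 6, 8, 10, 2, 4, 6, 8, 18, 20, 14, 12, 10, 8, 18, 16, 14, 12, 10, 8, 6, 4, 2, 0] .nil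 (.cons [18, 10, 12, 6, 8, 10, 2, 4, 6, 8, 18, 20, 14, 12, 10, 8, 18, 16, 14, 12, 10, 8, 6, 4, 2, 0] .nil (.cons [1, 18, 10, 12, 8, 10, 2, 4, 6, 8, 18, 20, 14, 12, 10, 8, 18, 16, 14, 12, 10, 8, 6, 4, 2, 0] .nil (.cons [10, 8, 18, 12, 6, 8, 10, 4, 6, 8, 18, 20, 14, 12, 10, 8, 18, 16, 14, 12, 10, 8, 6, 4, 2, 0] .nil (.cons [12, 10, 8, 18, 6, 8, 10, 4, 6, 8, 18, 20, 14, 12, 10, 8, 18, 16, 14, 12, 10, 8, 6, 4, 2, 0] .nil (.cons [20, 10, 8, 18, 6, 8, 10, 4, 6, 8, 18, 20, 14, 12, 10, 8, 18, 16, 14, 12, 10, 8, 6, 4, 2, 0] .nil (.cons [6, 8, 18, 10, 12, 8, 10, 4, 6, 8, 18, 20, 14, 12, 10, 8, 18, 16, 14, 12, 10, 8, 6, 4, 2, 0] .nil (.cons [4, 6, 8, 18, 10, 12, 8, 10, 6, 8, 18, 20, 14, 12, 10, 8, 18, 16, 14, 12, 10, 8, 6, 4, 2, 0]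 .nil (.cons [20, 6, 8, 18, 10, 12, 8, 10, 6, 8, 18, 20, 14, 12, 10, 8, 18, 16, 14, 12, 10, 8, 6, 4, 2, 0] .nil (.cons [18, 20, 8, 18, 10, 12, 8, 10, 6, 8, 18, 20, 14, 12, 10, 8, 18, 16, 14, 12, 10, 8, 6, 4, 2, 0] .nil (.cons [12, 10, 8, 18, 6, 8, 10, 2, 4, 6, 8, 18, 20, 12, 10, 8, 18, 16, 14, 12, 10, 8, 6, 4, 2, 0] .nil (.cons [14, 12, 10, 8, 18, 6, 8, 10, 4, 6, 8, 18, 20, 12, 10, 8, 18, 16, 14, 12, 10, 8, 6, 4, 2, 0] .nil (.cons [20, 12, 10, 8, 18, 6, 8, 10, 4, 6, 8, 18, 20, 12, 10, 8, 18, 16, 14, 12, 10, 8, 6, 4, 2, 0] .nil (.cons [18, 20, 10, 8, 18, 6, 8, 10, 4, 6, 8, 18, 20, 12, 10, 8, 18, 16, 14, 12, 10, 8, 6, 4, 2, 0] .nil (.cons [12, 8, 10, 2, 4, 6, 8, 18, 20, 10, 12, 8, 10, 2, 4, 6, 8, 18, 14, 12, 10, 8, 6, 4, 2,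 0] .nil (.cons [18, 8, 10, 2, 4, 6, 8, 18, 20, 10, 12, 8, 10, 2, 4, 6, 8, 18, 14, 12, 10, 8, 6, 4, 2, 0] .nil (.cons [12, 6, 8, 10, 4, 6, 8, 18, 20, 10, 12, 8, 10, 2, 4, 6, 8, 18, 14, 12, 10, 8, 6, 4, 2, 0] .nil (.cons [10, 12, 8, 10, 4, 6, 8, 18, 20, 10, 12, 8, 10, 2, 4, 6, 8, 18, 14, 12, 10, 8, 6, 4, 2, 0] .nil (.cons [18, 12, 8, 10, 4, 6, 8, 18, 20, 10, 12, 8, 10, 2, 4, 6, 8, 18, 14, 12, 10, 8, 6, 4, 2, 0] .nil (.cons [20, 18, 8, 10, 4, 6, 8, 18, 20, 10, 12, 8, 10, 2, 4, 6, 8, 18, 14, 12, 10, 8, 6, 4, 2, 0] .nil (.cons [20, 18, 12, 8, 10, 6, 8, 18, 20, 10, 12, 8, 10, 2, 4, 6, 8, 18, 14, 12, 10, 8, 6, 4, 2, 0] (.cons [16, 12, 10, 8, 6, 4, 16, 14, 12, 14, 10, 12, 8, 10, 6, 8, 16, 4, 6, 2, 0, 4, 2, 8, 6, 10, 8, 16, 18,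 6, 4, 16, 6, 8, 10, 12, 14] (.cons [16, 14, 6, 8, 10] .nil .nil) .nil) (.cons [6, 1, 8, 10, 2, 4, 6, 8, 18, 20, 12, 8, 10, 2, 4, 6, 8, 18, 14, 12, 10, 8, 6, 4, 2, 0] .nil (.cons [12, 1, 8, 10, 2, 4, 6, 8, 18, 20, 12, 8, 10, 2, 4, 6, 8, 18, 14, 12, 10, 8, 6, 4, 2, 0] .nil (.cons [4, 6, 8, 10, 2, 4, 6, 8, 18, 20, 12, 8, 10, 2, 4, 6, 8, 18, 14, 12, 10, 8, 6, 4, 2, 0] .nil (.cons [1, 12, 8, 10, 2, 4, 6, 8, 18, 20, 12, 8, 10, 2, 4, 6, 8, 18, 14, 12, 10, 8, 6, 4, 2, 0] .nil (.cons [10, 12, 8, 10, 2, 4, 6, 8, 18, 20, 12, 8, 10, 2, 4, 6, 8, 18, 14, 12, 10, 8, 6, 4, 2, 0] .nil (.cons [20, 18, 8, 10, 2, 4, 6, 8, 18, 20, 12, 8, 10, 2, 4, 6, 8, 18, 14, 12, 10, 8, 6, 4, 2, 0] (.cons [18, 10, 8, 6, 16, 14, 10, 12, 8, 10, 6, 4, 2, 8,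 6, 4, 0, 2, 4, 6, 10, 8, 16, 18, 6, 4, 16, 6, 8, 10, 12, 14] (.cons [2, 4, 6, 16, 14, 2, 12, 10] .nil .nil) .nil) (.cons [10, 12, 6, 8, 10, 4, 6, 8, 18, 20, 12, 8, 10, 2, 4, 6, 8, 18, 14, 12, 10, 8, 6, 4, 2, 0] .nil (.cons [8, 18, 6, 8, 10, 4, 6, 8, 18, 20, 12, 8, 10, 2, 4, 6, 8, 18, 14, 12, 10, 8, 6, 4, 2, 0] .nil (.cons [18, 10, 12, 8, 10, 4, 6, 8, 18, 20, 12, 8, 10, 2, 4, 6, 8, 18, 14, 12, 10, 8, 6, 4, 2, 0] .nil (.cons [12, 1, 6, 8, 10, 2, 4, 6, 8, 18, 20, 8, 10, 2, 4, 6, 8, 18, 14, 12, 10, 8, 6, 4, 2, 0] .nil (.cons [10, 1, 12, 8, 10, 2, 4, 6, 8, 18, 20, 8, 10, 2, 4, 6, 8, 18, 14, 12, 10, 8, 6, 4, 2, 0] .nil (.cons [12, 4, 6, 8, 10, 2, 4, 6, 8, 18, 20, 8, 10, 2, 4, 6, 8, 18, 14, 12, 10, 8, 6, 4, 2, 0] .nil (.cons [8,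 10, 12, 6, 8, 10, 4, 6, 8, 18, 20, 8, 10, 2, 4, 6, 8, 18, 14, 12, 10, 8, 6, 4, 2, 0] .nil (.cons [12, 1, 6, 8, 10, 2, 4, 6, 8, 18, 20, 12, 10, 2, 4, 6, 8, 18, 14, 12, 10, 8, 6, 4, 2, 0] .nil (.cons [12, 4, 6, 8, 10, 2, 4, 6, 8, 18, 20, 12, 10, 2, 4, 6, 8, 18, 14, 12, 10, 8, 6, 4, 2, 0] .nil (.cons [1, 12, 6, 8, 10, 2, 4, 6, 8, 18, 20, 12, 10, 2, 4, 6, 8, 18, 14, 12, 10, 8, 6, 4, 2, 0] .nil (.cons [18, 12, 6, 8, 10, 2, 4, 6, 8, 18, 20, 12, 10, 2, 4, 6, 8, 18, 14, 12, 10, 8, 6, 4, 2, 0] .nil (.cons [20, 18, 6, 8, 10, 2, 4, 6, 8, 18, 20, 12, 10, 2, 4, 6, 8, 18, 14, 12, 10, 8, 6, 4, 2, 0] .nil (.cons [20, 18, 12, 8, 10, 2, 4, 6, 8, 18, 20, 12, 10, 2, 4, 6, 8, 18, 14, 12, 10, 8, 6, 4, 2, 0] .nil (.cons [8, 18, 12, 6, 8, 10,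 4, 6, 8, 18, 20, 12, 10, 2, 4, 6, 8, 18, 14, 12, 10, 8, 6, 4, 2, 0] .nil (.cons [12, 8, 10, 4, 6, 8, 18, 20, 8, 10, 12, 6, 8, 10, 4, 6, 8, 18, 14, 12, 10, 8, 6, 4, 2, 0] (.cons [10, 12, 8, 10, 6, 8, 6, 16, 4, 6, 2, 0, 4, 2, 10, 12, 8, 6, 10, 8, 16, 18, 6, 4, 16, 6, 8, 10, 12, 14] (.cons [12, 8, 0, 4, 6, 14, 8, 10, 12, 16] .nil .nil) .nil) (.cons [14, 12, 10, 4, 6, 8, 18, 20, 8, 10, 12, 6, 8, 10, 4, 6, 8, 18, 14, 12, 10, 8, 6, 4, 2, 0] .nil (.cons [14, 12, 8, 10, 6, 8, 18, 20, 8, 10, 12, 6, 8, 10, 4, 6, 8, 18, 14, 12, 10, 8, 6, 4, 2, 0] .nil (.cons [6, 8, 10, 2, 4, 6, 8, 18, 20, 10, 12, 6, 8, 10, 4, 6, 8, 18, 14, 12, 10, 8, 6, 4, 2, 0] .nil (.cons [14, 12, 8, 10, 4, 6, 8, 18, 20, 10, 12, 6, 8, 10, 4, 6, 8, 18, 14, 12, 10,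 8, 6, 4, 2, 0] .nil (.cons [20, 18, 8, 10, 4, 6, 8, 18, 20, 10, 12, 6, 8, 10, 4, 6, 8, 18, 14, 12, 10, 8, 6, 4, 2, 0] .nil (.cons [14, 10, 12, 8, 10, 6, 8, 18, 20, 10, 12, 6, 8, 10, 4, 6, 8, 18, 14, 12, 10, 8, 6, 4, 2, 0] .nil (.cons [20, 18, 12, 8, 10, 6, 8, 18, 20, 10, 12, 6, 8, 10, 4, 6, 8, 18, 14, 12, 10, 8, 6, 4, 2, 0] .nil (.cons [6, 1, 8, 10, 2, 4, 6, 8, 18, 20, 12, 6, 8, 10, 4, 6, 8, 18, 14, 12, 10, 8, 6, 4, 2, 0] .nil (.cons [1, 6, 8, 10, 2, 4, 6, 8, 18, 20, 12, 6, 8, 10, 4, 6, 8, 18, 14, 12, 10, 8, 6, 4, 2, 0] .nil (.cons [1, 12, 8, 10, 2, 4, 6, 8, 18, 20, 12, 6, 8, 10, 4, 6, 8, 18, 14, 12, 10, 8, 6, 4, 2, 0] .nil (.cons [18, 12, 8, 10, 2, 4, 6, 8, 18, 20, 12, 6, 8, 10, 4, 6, 8, 18, 14, 12, 10, 8, 6, 4, 2, 0]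 .nil (.cons [1, 18, 8, 10, 2, 4, 6, 8, 18, 20, 12, 6, 8, 10, 4, 6, 8, 18, 14, 12, 10, 8, 6, 4, 2, 0] .nil (.cons [20, 18, 8, 10, 2, 4, 6, 8, 18, 20, 12, 6, 8, 10, 4, 6, 8, 18, 14, 12, 10, 8, 6, 4, 2, 0] .nil (.cons [10, 12, 6, 8, 10, 4, 6, 8, 18, 20, 12, 6, 8, 10, 4, 6, 8, 18, 14, 12, 10, 8, 6, 4, 2, 0] .nil (.cons [14, 12, 6, 8, 10, 4, 6, 8, 18, 20, 12, 6, 8, 10, 4, 6, 8, 18, 14, 12, 10, 8, 6, 4, 2, 0] .nil (.cons [8, 18, 6, 8, 10, 4, 6, 8, 18, 20, 12, 6, 8, 10, 4, 6, 8, 18, 14, 12, 10, 8, 6, 4, 2, 0] .nil (.cons [14, 10, 12, 8, 10, 4, 6, 8, 18, 20, 12, 6, 8, 10, 4, 6, 8, 18, 14, 12, 10, 8, 6, 4, 2, 0] .nil (.cons [18, 10, 12, 8, 10, 4, 6, 8, 18, 20, 12, 6, 8, 10, 4, 6, 8, 18, 14, 12, 10, 8, 6, 4, 2, 0] .nil (.cons [20,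 18, 12, 8, 10, 4, 6, 8, 18, 20, 12, 6, 8, 10, 4, 6, 8, 18, 14, 12, 10, 8, 6, 4, 2, 0] .nil (.cons [18, 14, 10, 12, 8, 10, 6, 8, 18, 20, 12, 6, 8, 10, 4, 6, 8, 18, 14, 12, 10, 8, 6, 4, 2, 0] .nil .nil))))))))))))))))))))))))))))))))))))))))))))))))))))))))))))))))))))))))))))))))))))))))))))))))))))))))))))))))))))))))))))))))))))))))))))))))))))))))))))))))))))))))))))))))))))))))))))))))))))))))))))))))))))))))))))))))))))))))))))))))))))))))))))))))))))))))))))))))))))))))))))))))))) (⟨cu_l0.b, cu_l0.S, [], cu_R40, 0⟩ :: cu_tl) (0 :: cu_lk) Pd.nil 0 = true := by decide +kernel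
theorem cu_r41 : cu_S.run (.cons [20, 18, 10, 12, 8, 10, 6, 8, 18, 20, 12, 6, 8, 10, 4, 6, 8, 18, 14, 12, 10, 8, 6, 4, 2, 0] .nil (.cons [20, 18, 14, 12, 8, 10, 6, 8, 18, 20, 12, 6, 8, 10, 4, 6, 8, 18, 14, 12, 10, 8, 6, 4, 2, 0] .nil (.cons [14, 1, 12, 8, 10, 2, 4, 6, 8, 18, 20, 6, 8, 10, 4, 6, 8, 18, 14, 12, 10, 8, 6, 4, 2, 0] .nil (.cons [18, 1, 12, 8, 10, 2, 4, 6, 8, 18, 20, 6, 8, 10, 4, 6, 8, 18, 14, 12, 10, 8, 6, 4, 2, 0] .nil (.cons [10, 12, 6, 8, 10, 2, 4, 6, 8, 18, 20, 6, 8, 10, 4, 6, 8, 18, 14, 12, 10, 8, 6, 4, 2, 0] .nil (.cons [14, 10, 12, 8, 10, 2, 4, 6, 8, 18, 20, 6, 8, 10, 4, 6, 8, 18, 14, 12, 10, 8, 6, 4, 2, 0] .nil (.cons [18, 10, 12, 8, 10, 2, 4, 6, 8, 18, 20, 6, 8, 10, 4, 6, 8, 18, 14, 12, 10, 8, 6, 4,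 2, 0] .nil (.cons [12, 14, 10, 12, 8, 10, 4, 6, 8, 18, 20, 6, 8, 10, 4, 6, 8, 18, 14, 12, 10, 8, 6, 4, 2, 0] .nil (.cons [18, 14, 10, 12, 8, 10, 4, 6, 8, 18, 20, 6, 8, 10, 4, 6, 8, 18, 14, 12, 10, 8, 6, 4, 2, 0] .nil (.cons [8, 18, 10, 12, 8, 10, 4, 6, 8, 18, 20, 6, 8, 10, 4, 6, 8, 18, 14, 12, 10, 8, 6, 4, 2, 0] .nil (.cons [8, 18, 14, 10, 12, 8, 10, 6, 8, 18, 20, 6, 8, 10, 4, 6, 8, 18, 14, 12, 10, 8, 6, 4, 2, 0] .nil (.cons [6, 8, 18, 10, 12, 8, 10, 6, 8, 18, 20, 6, 8, 10, 4, 6, 8, 18, 14, 12, 10, 8, 6, 4, 2, 0] .nil (.cons [10, 12, 8, 10, 6, 8, 18, 20, 8, 18, 10, 12, 8, 10, 4, 6, 8, 18, 14, 12, 10, 8, 6, 4, 2, 0] .nil (.cons [14, 12, 8, 10, 6, 8, 18, 20, 8, 18, 10, 12, 8, 10, 4, 6, 8, 18, 14, 12, 10, 8, 6, 4, 2, 0] .nil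 (.cons [18, 12, 8, 10, 6, 8, 18, 20, 8, 18, 10, 12, 8, 10, 4, 6, 8, 18, 14, 12, 10, 8, 6, 4, 2, 0] (.cons [4, 6, 16, 18, 8, 4, 6, 16, 10, 12, 6, 8, 10, 4, 6, 8, 16, 4, 6, 2, 0, 4, 2, 8, 6, 10, 8, 16, 18, 6, 4, 16, 6, 8, 10, 12, 14] (.cons [10, 8, 10, 4, 6, 2, 4, 8, 6, 14, 0, 2] (.cons [0, 2, 2, 0, 0, 2, 0, 3, 1, 1] .nil .nil) .nil) .nil) (.cons [20, 18, 8, 10, 6, 8, 18, 20, 8, 18, 10, 12, 8, 10, 4, 6, 8, 18, 14, 12, 10, 8, 6, 4, 2, 0] .nil (.cons [6, 8, 10, 2, 4, 6, 8, 18, 20, 18, 10, 12, 8, 10, 4, 6, 8, 18, 14, 12, 10, 8, 6, 4, 2, 0] .nil (.cons [12, 6, 8, 10, 4, 6, 8, 18, 20, 18, 10, 12, 8, 10, 4, 6, 8, 18, 14, 12, 10, 8, 6, 4, 2, 0] .nil (.cons [10, 12, 8, 10, 4, 6, 8, 18, 20, 18, 10, 12, 8, 10, 4, 6, 8, 18, 14, 12,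 10, 8, 6, 4, 2, 0] .nil (.cons [14, 12, 8, 10, 4, 6, 8, 18, 20, 18, 10, 12, 8, 10, 4, 6, 8, 18, 14, 12, 10, 8, 6, 4, 2, 0] (.cons [8, 6, 16, 10, 4, 6, 8, 6, 16, 4, 6, 2, 0, 4, 2, 8, 6, 10, 8, 16, 18, 6, 4, 16, 6, 8, 10, 12, 14] (.cons [4, 2, 14, 16, 8, 6, 4, 2, 0, 8, 14, 6, 8, 16] (.cons [1, 1, 3, 0, 0, 3, 3, 1, 2, 0] (.cons [1, 3, 1, 2, 0, 2, 2, 1] .nil .nil) .nil) .nil) .nil) (.cons [14, 10, 12, 8, 10, 6, 8, 18, 20, 18, 10, 12, 8, 10, 4, 6, 8, 18, 14, 12, 10, 8, 6, 4, 2, 0] .nil (.cons [18, 10, 12, 8, 10, 6, 8, 18, 20, 18, 10, 12, 8, 10, 4, 6, 8, 18, 14, 12, 10, 8, 6, 4, 2, 0] .nil (.cons [16, 14, 12, 8, 10, 6, 8, 18, 20, 18, 10, 12, 8, 10, 4, 6, 8, 18, 14, 12, 10, 8, 6, 4, 2, 0] .nil (.cons [12, 1, 8, 10, 2, 4, 6, 8,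 18, 20, 10, 12, 8, 10, 4, 6, 8, 18, 14, 12, 10, 8, 6, 4, 2, 0] .nil (.cons [14, 1, 12, 10, 2, 4, 6, 8, 18, 20, 10, 12, 8, 10, 4, 6, 8, 18, 14, 12, 10, 8, 6, 4, 2, 0] .nil (.cons [4, 6, 8, 10, 2, 4, 6, 8, 18, 20, 10, 12, 8, 10, 4, 6, 8, 18, 14, 12, 10, 8, 6, 4, 2, 0] .nil (.cons [18, 6, 8, 10, 2, 4, 6, 8, 18, 20, 10, 12, 8, 10, 4, 6, 8, 18, 14, 12, 10, 8, 6, 4, 2, 0] .nil (.cons [1, 12, 8, 10, 2, 4, 6, 8, 18, 20, 10, 12, 8, 10, 4, 6, 8, 18, 14, 12, 10, 8, 6, 4, 2, 0] (.cons [6, 16, 18, 4, 6, 16, 10, 12, 8, 10, 6, 8, 0, 2, 4, 6, 16, 18, 4, 2, 0, 12, 10, 16, 6, 4, 2, 8, 6, 4, 16, 6, 8, 10, 12, 14] (.cons [8, 10, 6, 14, 8, 6, 4, 2, 6, 8] (.cons [1, 1, 3, 0, 2, 0, 0, 2, 0] (.cons [1, 2, 0, 3, 1, 2, 2, 1, 3, 1, 1] .nil .nil)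 .nil) .nil) .nil) (.cons [20, 18, 8, 10, 2, 4, 6, 8, 18, 20, 10, 12, 8, 10, 4, 6, 8, 18, 14, 12, 10, 8, 6, 4, 2, 0] .nil (.cons [1, 14, 12, 10, 2, 4, 6, 8, 18, 20, 10, 12, 8, 10, 4, 6, 8, 18, 14, 12, 10, 8, 6, 4, 2, 0] .nil (.cons [10, 12, 6, 8, 10, 4, 6, 8, 18, 20, 10, 12, 8, 10, 4, 6, 8, 18, 14, 12, 10, 8, 6, 4, 2, 0] .nil (.cons [14, 10, 12, 8, 10, 4, 6, 8, 18, 20, 10, 12, 8, 10, 4, 6, 8, 18, 14, 12, 10, 8, 6, 4, 2, 0] .nil (.cons [16, 14, 12, 8, 10, 4, 6, 8, 18, 20, 10, 12, 8, 10, 4, 6, 8, 18, 14, 12, 10, 8, 6, 4, 2, 0] .nil (.cons [16, 14, 10, 12, 8, 10, 6, 8, 18, 20, 10, 12, 8, 10, 4, 6, 8, 18, 14, 12, 10, 8, 6, 4, 2, 0] .nil (.cons [20, 18, 10, 12, 8, 10, 6, 8, 18, 20, 10, 12, 8, 10, 4, 6, 8, 18, 14, 12, 10, 8, 6,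 4, 2, 0] (.cons [18, 16, 12, 6, 8, 10, 4, 6, 8, 2, 4, 6, 16, 18, 0, 16, 6, 4, 2, 8, 6, 4, 16, 6, 8, 10, 12, 14] (.cons [4, 2, 8, 6, 14, 4, 2, 6, 8, 10] (.cons [3, 1, 3, 1, 1, 1, 3, 0, 2, 0] (.cons [1, 3, 0, 2, 0, 0, 2, 0, 3] .nil .nil) .nil) .nil) .nil) (.cons [18, 16, 14, 12, 8, 10, 6, 8, 18, 20, 10, 12, 8, 10, 4, 6, 8, 18, 14, 12, 10, 8, 6, 4, 2, 0] .nil (.cons [12, 1, 8, 10, 2, 4, 6, 8, 18, 20, 18, 12, 8, 10, 4, 6, 8, 18, 14, 12, 10, 8, 6, 4, 2, 0] .nil (.cons [18, 1, 8, 10, 2, 4, 6, 8, 18, 20, 18, 12, 8, 10, 4, 6, 8, 18, 14, 12, 10, 8, 6, 4, 2, 0] .nil (.cons [18, 6, 8, 10, 2, 4, 6, 8, 18, 20, 18, 12, 8, 10, 4, 6, 8, 18, 14, 12, 10, 8, 6, 4, 2, 0] .nil (.cons [1, 12, 8, 10, 2, 4, 6, 8, 18, 20, 18, 12, 8, 10, 4, 6, 8,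 18, 14, 12, 10, 8, 6, 4, 2, 0] .nil (.cons [14, 12, 8, 10, 2, 4, 6, 8, 18, 20, 18, 12, 8, 10, 4, 6, 8, 18, 14, 12, 10, 8, 6, 4, 2, 0] .nil (.cons [10, 12, 6, 8, 10, 4, 6, 8, 18, 20, 18, 12, 8, 10, 4, 6, 8, 18, 14, 12, 10, 8, 6, 4, 2, 0] .nil (.cons [14, 12, 6, 8, 10, 4, 6, 8, 18, 20, 18, 12, 8, 10, 4, 6, 8, 18, 14, 12, 10, 8, 6, 4, 2, 0] .nil (.cons [18, 10, 12, 8, 10, 4, 6, 8, 18, 20, 18, 12, 8, 10, 4, 6, 8, 18, 14, 12, 10, 8, 6, 4, 2, 0] .nil (.cons [18, 14, 12, 8, 10, 4, 6, 8, 18, 20, 18, 12, 8, 10, 4, 6, 8, 18, 14, 12, 10, 8, 6, 4, 2, 0] .nil (.cons [20, 18, 12, 8, 10, 4, 6, 8, 18, 20, 18, 12, 8, 10, 4, 6, 8, 18, 14, 12, 10, 8, 6, 4, 2, 0] .nil (.cons [16, 14, 10, 12, 8, 10, 6, 8, 18, 20, 18, 12, 8, 10, 4, 6, 8, 18,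 14, 12, 10, 8, 6, 4, 2, 0] .nil (.cons [18, 14, 10, 12, 8, 10, 6, 8, 18, 20, 18, 12, 8, 10, 4, 6, 8, 18, 14, 12, 10, 8, 6, 4, 2, 0] .nil (.cons [8, 18, 10, 12, 8, 10, 6, 8, 18, 20, 18, 12, 8, 10, 4, 6, 8, 18, 14, 12, 10, 8, 6, 4, 2, 0] .nil (.cons [18, 16, 14, 12, 8, 10, 6, 8, 18, 20, 18, 12, 8, 10, 4, 6, 8, 18, 14, 12, 10, 8, 6, 4, 2, 0] .nil (.cons [20, 18, 14, 12, 8, 10, 6, 8, 18, 20, 18, 12, 8, 10, 4, 6, 8, 18, 14, 12, 10, 8, 6, 4, 2, 0] .nil (.cons [4, 1, 6, 8, 10, 2, 4, 6, 8, 18, 20, 12, 8, 10, 4, 6, 8, 18, 14, 12, 10, 8, 6, 4, 2, 0] .nil (.cons [18, 1, 6, 8, 10, 2, 4, 6, 8, 18, 20, 12, 8, 10, 4, 6, 8, 18, 14, 12, 10, 8, 6, 4, 2, 0] .nil (.cons [14, 1, 12, 8, 10, 2, 4, 6, 8, 18, 20, 12, 8, 10, 4, 6, 8, 18, 14, 12,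 10, 8, 6, 4, 2, 0] .nil (.cons [18, 1, 12, 8, 10, 2, 4, 6, 8, 18, 20, 12, 8, 10, 4, 6, 8, 18, 14, 12, 10, 8, 6, 4, 2, 0] .nil (.cons [1, 4, 6, 8, 10, 2, 4, 6, 8, 18, 20, 12, 8, 10, 4, 6, 8, 18, 14, 12, 10, 8, 6, 4, 2, 0] (.cons [4, 6, 16, 8, 10, 12, 6, 8, 10, 4, 6, 8, 2, 4, 6, 16, 18, 2, 0, 8, 10, 6, 4, 2, 8, 6, 4, 16, 6, 8, 10, 12, 14] .nil .nil) (.cons [10, 12, 6, 8, 10, 2, 4, 6, 8, 18, 20, 12, 8, 10, 4, 6, 8, 18, 14, 12, 10, 8, 6, 4, 2, 0] .nil (.cons [18, 12, 6, 8, 10, 2, 4, 6, 8, 18, 20, 12, 8, 10, 4, 6, 8, 18, 14, 12, 10, 8, 6, 4, 2, 0] .nil (.cons [20, 18, 6, 8, 10, 2, 4, 6, 8, 18, 20, 12, 8, 10, 4, 6, 8, 18, 14, 12, 10, 8, 6, 4, 2, 0] .nil (.cons [1, 10, 12, 8, 10, 2, 4, 6, 8, 18, 20, 12, 8, 10, 4, 6, 8, 18, 14,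 12, 10, 8, 6, 4, 2, 0] .nil (.cons [14, 10, 12, 8, 10, 2, 4, 6, 8, 18, 20, 12, 8, 10, 4, 6, 8, 18, 14, 12, 10, 8, 6, 4, 2, 0] .nil (.cons [1, 14, 12, 8, 10, 2, 4, 6, 8, 18, 20, 12, 8, 10, 4, 6, 8, 18, 14, 12, 10, 8, 6, 4, 2, 0] .nil (.cons [1, 18, 12, 8, 10, 2, 4, 6, 8, 18, 20, 12, 8, 10, 4, 6, 8, 18, 14, 12, 10, 8, 6, 4, 2, 0] .nil (.cons [20, 18, 12, 8, 10, 2, 4, 6, 8, 18, 20, 12, 8, 10, 4, 6, 8, 18, 14, 12, 10, 8, 6, 4, 2, 0] .nil (.cons [1, 16, 14, 12, 10, 2, 4, 6, 8, 18, 20, 12, 8, 10, 4, 6, 8, 18, 14, 12, 10, 8, 6, 4, 2, 0] .nil (.cons [16, 14, 12, 6, 8, 10, 4, 6, 8, 18, 20, 12, 8, 10, 4, 6, 8, 18, 14, 12, 10, 8, 6, 4, 2, 0] .nil (.cons [8, 18, 12, 6, 8, 10, 4, 6, 8, 18, 20, 12, 8, 10, 4, 6, 8, 18, 14, 12, 10, 8,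 6, 4, 2, 0] .nil (.cons [20, 18, 12, 6, 8, 10, 4, 6, 8, 18, 20, 12, 8, 10, 4, 6, 8, 18, 14, 12, 10, 8, 6, 4, 2, 0] .nil (.cons [20, 8, 18, 6, 8, 10, 4, 6, 8, 18, 20, 12, 8, 10, 4, 6, 8, 18, 14, 12, 10, 8, 6, 4, 2, 0] .nil (.cons [16, 14, 10, 12, 8, 10, 4, 6, 8, 18, 20, 12, 8, 10, 4, 6, 8, 18, 14, 12, 10, 8, 6, 4, 2, 0] .nil (.cons [20, 18, 10, 12, 8, 10, 4, 6, 8, 18, 20, 12, 8, 10, 4, 6, 8, 18, 14, 12, 10, 8, 6, 4, 2, 0] (.cons [16, 12, 8, 10, 6, 8, 2, 4, 6, 16, 18, 4, 2, 0, 10, 6, 4, 2, 8, 6, 4, 16, 6, 8, 10, 12, 14] (.cons [14, 16, 6, 0, 4, 2, 6, 4, 12, 14, 6, 8, 16] (.cons [0, 2, 2, 0, 0, 2, 1, 2] .nil .nil) .nil) .nil) (.cons [18, 16, 14, 12, 8, 10, 4, 6, 8, 18, 20, 12, 8, 10, 4, 6, 8, 18, 14, 12, 10, 8, 6, 4, 2, 0]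 (.cons [8, 4, 6, 16, 18, 2, 0, 14, 8, 12, 10, 16, 6, 4, 2, 8, 6, 4, 16, 6, 8, 10, 12, 14] (.cons [14, 6, 8, 10, 12, 10, 4, 8, 6, 4, 8] (.cons [3, 3, 0, 0, 3, 1, 3, 0, 3] .nil .nil) .nil) .nil) (.cons [20, 18, 14, 12, 8, 10, 4, 6, 8, 18, 20, 12, 8, 10, 4, 6, 8, 18, 14, 12, 10, 8, 6, 4, 2, 0] .nil (.cons [10, 12, 6, 8, 10, 2, 4, 6, 8, 18, 20, 18, 8, 10, 4, 6, 8, 18, 14, 12, 10, 8, 6, 4, 2, 0] .nil (.cons [16, 14, 10, 12, 8, 10, 4, 6, 8, 18, 20, 18, 8, 10, 4, 6, 8, 18, 14, 12, 10, 8, 6, 4, 2, 0] .nil (.cons [1, 10, 12, 6, 8, 10, 2, 4, 6, 8, 18, 20, 8, 10, 4, 6, 8, 18, 14, 12, 10, 8, 6, 4, 2, 0] .nil (.cons [18, 10, 12, 6, 8, 10, 2, 4, 6, 8, 18, 20, 8, 10, 4, 6, 8, 18, 14, 12, 10, 8, 6, 4, 2, 0] .nil (.cons [16, 14, 10, 12,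 8, 10, 2, 4, 6, 8, 18, 20, 8, 10, 4, 6, 8, 18, 14, 12, 10, 8, 6, 4, 2, 0] .nil (.cons [8, 18, 10, 12, 8, 10, 2, 4, 6, 8, 18, 20, 8, 10, 4, 6, 8, 18, 14, 12, 10, 8, 6, 4, 2, 0] .nil (.cons [14, 8, 10, 12, 6, 8, 10, 4, 6, 8, 18, 20, 8, 10, 4, 6, 8, 18, 14, 12, 10, 8, 6, 4, 2, 0] .nil (.cons [18, 8, 10, 12, 6, 8, 10, 4, 6, 8, 18, 20, 8, 10, 4, 6, 8, 18, 14, 12, 10, 8, 6, 4, 2, 0] .nil (.cons [16, 14, 10, 12, 6, 8, 10, 4, 6, 8, 18, 20, 8, 10, 4, 6, 8, 18, 14, 12, 10, 8, 6, 4, 2, 0] .nil (.cons [4, 6, 8, 18, 10, 12, 8, 10, 6, 8, 18, 20, 8, 10, 4, 6, 8, 18, 14, 12, 10, 8, 6, 4, 2, 0] .nil (.cons [10, 1, 12, 6, 8, 10, 2, 4, 6, 8, 18, 20, 12, 10, 4, 6, 8, 18, 14, 12, 10, 8, 6, 4, 2, 0] .nil (.cons [20, 1, 18, 6, 8, 10, 2, 4, 6,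 8, 18, 20, 12, 10, 4, 6, 8, 18, 14, 12, 10, 8, 6, 4, 2, 0] .nil (.cons [18, 1, 10, 12, 8, 10, 2, 4, 6, 8, 18, 20, 12, 10, 4, 6, 8, 18, 14, 12, 10, 8, 6, 4, 2, 0] .nil (.cons [10, 12, 4, 6, 8, 10, 2, 4, 6, 8, 18, 20, 12, 10, 4, 6, 8, 18, 14, 12, 10, 8, 6, 4, 2, 0] .nil (.cons [1, 18, 4, 6, 8, 10, 2, 4, 6, 8, 18, 20, 12, 10, 4, 6, 8, 18, 14, 12, 10, 8, 6, 4, 2, 0] (.cons [16, 12, 6, 8, 10, 4, 6, 8, 6, 16, 4, 6, 2, 0, 4, 2, 12, 8, 6, 10, 8, 16, 18, 6, 4, 16, 6, 8, 10, 12, 14] (.cons [0, 2, 4, 2, 8, 16] (.cons [1, 3, 1, 3, 0, 0, 2, 1, 1] .nil .nil) .nil) .nil) (.cons [8, 18, 4, 6, 8, 10, 2, 4, 6, 8, 18, 20, 12, 10, 4, 6, 8, 18, 14, 12, 10, 8, 6, 4, 2, 0] .nil (.cons [1, 14, 12, 6, 8, 10, 2, 4, 6, 8, 18, 20, 12, 10, 4, 6, 8,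 18, 14, 12, 10, 8, 6, 4, 2, 0] .nil (.cons [16, 14, 12, 6, 8, 10, 2, 4, 6, 8, 18, 20, 12, 10, 4, 6, 8, 18, 14, 12, 10, 8, 6, 4, 2, 0] (.cons [12, 6, 16, 18, 2, 4, 6, 16, 8, 10, 6, 8, 4, 6, 16, 18, 2, 0, 12, 10, 4, 2, 8, 6, 4, 16, 6, 8, 10, 12, 14] (.cons [16, 2, 4, 0, 6, 14, 8, 10] (.cons [3, 1, 2, 0, 2, 0, 0, 0] (.cons [1, 3, 3, 1, 2, 2, 1, 2, 0] .nil .nil) .nil) .nil) .nil) (.cons [8, 18, 12, 6, 8, 10, 2, 4, 6, 8, 18, 20, 12, 10, 4, 6, 8, 18, 14, 12, 10, 8, 6, 4, 2, 0] .nil (.cons [1, 8, 18, 6, 8, 10, 2, 4, 6, 8, 18, 20, 12, 10, 4, 6, 8, 18, 14, 12, 10, 8, 6, 4, 2, 0] .nil (.cons [8, 18, 10, 12, 8, 10, 2, 4, 6, 8, 18, 20, 12, 10, 4, 6, 8, 18, 14, 12, 10, 8, 6, 4, 2, 0] .nil (.cons [20, 18, 10, 12, 8, 10, 2, 4, 6, 8, 18,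 20, 12, 10, 4, 6, 8, 18, 14, 12, 10, 8, 6, 4, 2, 0] .nil (.cons [18, 16, 14, 12, 8, 10, 2, 4, 6, 8, 18, 20, 12, 10, 4, 6, 8, 18, 14, 12, 10, 8, 6, 4, 2, 0] (.cons [18, 16, 12, 10, 6, 8, 2, 4, 6, 16, 18, 2, 0, 14, 12, 10, 16, 6, 4, 2, 8, 6, 4, 16, 6, 8, 10, 12, 14] (.cons [2, 14, 16, 6, 4, 8, 6, 14] (.cons [3, 1, 2, 2, 1, 1, 1, 1] .nil .nil) .nil) .nil) (.cons [1, 18, 14, 12, 8, 10, 2, 4, 6, 8, 18, 20, 12, 10, 4, 6, 8, 18, 14, 12, 10, 8, 6, 4, 2, 0] .nil (.cons [20, 18, 14, 12, 8, 10, 2, 4, 6, 8, 18, 20, 12, 10, 4, 6, 8, 18, 14, 12, 10, 8, 6, 4, 2, 0] .nil (.cons [8, 18, 10, 12, 6, 8, 10, 4, 6, 8, 18, 20, 12, 10, 4, 6, 8, 18, 14, 12, 10, 8, 6, 4, 2, 0] .nil (.cons [20, 18, 10, 12, 6, 8, 10, 4, 6, 8, 18, 20, 12, 10, 4, 6,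 8, 18, 14, 12, 10, 8, 6, 4, 2, 0] .nil (.cons [8, 18, 14, 12, 6, 8, 10, 4, 6, 8, 18, 20, 12, 10, 4, 6, 8, 18, 14, 12, 10, 8, 6, 4, 2, 0] .nil (.cons [6, 8, 18, 10, 12, 8, 10, 4, 6, 8, 18, 20, 12, 10, 4, 6, 8, 18, 14, 12, 10, 8, 6, 4, 2, 0] .nil (.cons [1, 8, 18, 10, 12, 8, 10, 2, 4, 6, 8, 18, 20, 10, 4, 6, 8, 18, 14, 12, 10, 8, 6, 4, 2, 0] .nil (.cons [4, 6, 8, 18, 10, 12, 8, 10, 4, 6, 8, 18, 20, 10, 4, 6, 8, 18, 14, 12, 10, 8, 6, 4, 2, 0] .nil (.cons [2, 4, 6, 8, 18, 10, 12, 8, 10, 6, 8, 18, 20, 10, 4, 6, 8, 18, 14, 12, 10, 8, 6, 4, 2, 0] .nil (.cons [4, 6, 8, 10, 2, 4, 6, 8, 18, 20, 18, 10, 12, 8, 10, 6, 8, 18, 14, 12, 10, 8, 6, 4, 2, 0] .nil (.cons [12, 6, 8, 10, 2, 4, 6, 8, 18, 20, 18, 10, 12, 8, 10, 6, 8, 18, 14, 12,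 10, 8, 6, 4, 2, 0] .nil (.cons [16, 14, 12, 10, 2, 4, 6, 8, 18, 20, 18, 10, 12, 8, 10, 6, 8, 18, 14, 12, 10, 8, 6, 4, 2, 0] .nil (.cons [14, 12, 6, 8, 10, 4, 6, 8, 18, 20, 18, 10, 12, 8, 10, 6, 8, 18, 14, 12, 10, 8, 6, 4, 2, 0] .nil (.cons [4, 1, 6, 8, 10, 2, 4, 6, 8, 18, 20, 10, 12, 8, 10, 6, 8, 18, 14, 12, 10, 8, 6, 4, 2, 0] .nil (.cons [12, 1, 6, 8, 10, 2, 4, 6, 8, 18, 20, 10, 12, 8, 10, 6, 8, 18, 14, 12, 10, 8, 6, 4, 2, 0] (.cons [8, 4, 6, 16, 18, 0, 6, 4, 2, 8, 6, 4, 16, 6, 8, 10, 12, 14] (.cons [6, 10, 4, 0, 2, 4, 6, 14, 8, 16] (.cons [1, 2, 1, 2, 1, 3, 0, 3, 3] (.cons [3, 3, 0, 2, 1, 2, 0, 0, 3, 0, 3] .nil .nil) .nil) .nil) .nil) (.cons [10, 1, 12, 8, 10, 2, 4, 6, 8, 18, 20, 10, 12, 8, 10, 6, 8, 18, 14, 12, 10, 8,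 6, 4, 2, 0] .nil (.cons [18, 1, 12, 8, 10, 2, 4, 6, 8, 18, 20, 10, 12, 8, 10, 6, 8, 18, 14, 12, 10, 8, 6, 4, 2, 0] .nil (.cons [16, 1, 14, 12, 10, 2, 4, 6, 8, 18, 20, 10, 12, 8, 10, 6, 8, 18, 14, 12, 10, 8, 6, 4, 2, 0] .nil (.cons [1, 4, 6, 8, 10, 2, 4, 6, 8, 18, 20, 10, 12, 8, 10, 6, 8, 18, 14, 12, 10, 8, 6, 4, 2, 0] .nil (.cons [18, 4, 6, 8, 10, 2, 4, 6, 8, 18, 20, 10, 12, 8, 10, 6, 8, 18, 14, 12, 10, 8, 6, 4, 2, 0] .nil (.cons [8, 18, 6, 8, 10, 2, 4, 6, 8, 18, 20, 10, 12, 8, 10, 6, 8, 18, 14, 12, 10, 8, 6, 4, 2, 0] .nil (.cons [20, 18, 6, 8, 10, 2, 4, 6, 8, 18, 20, 10, 12, 8, 10, 6, 8, 18, 14, 12, 10, 8, 6, 4, 2, 0] .nil (.cons [1, 14, 12, 8, 10, 2, 4, 6, 8, 18, 20, 10, 12, 8, 10, 6, 8, 18, 14, 12, 10, 8, 6, 4, 2, 0]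 .nil (.cons [16, 14, 12, 8, 10, 2, 4, 6, 8, 18, 20, 10, 12, 8, 10, 6, 8, 18, 14, 12, 10, 8, 6, 4, 2, 0] .nil (.cons [14, 10, 12, 6, 8, 10, 4, 6, 8, 18, 20, 10, 12, 8, 10, 6, 8, 18, 14, 12, 10, 8, 6, 4, 2, 0] .nil (.cons [16, 14, 12, 6, 8, 10, 4, 6, 8, 18, 20, 10, 12, 8, 10, 6, 8, 18, 14, 12, 10, 8, 6, 4, 2, 0] .nil (.cons [18, 14, 12, 6, 8, 10, 4, 6, 8, 18, 20, 10, 12, 8, 10, 6, 8, 18, 14, 12, 10, 8, 6, 4, 2, 0] .nil (.cons [10, 8, 18, 6, 8, 10, 4, 6, 8, 18, 20, 10, 12, 8, 10, 6, 8, 18, 14, 12, 10, 8, 6, 4, 2, 0] .nil (.cons [20, 8, 18, 6, 8, 10, 4, 6, 8, 18, 20, 10, 12, 8, 10, 6, 8, 18, 14, 12, 10, 8, 6, 4, 2, 0] .nil (.cons [4, 1, 6, 8, 10, 2, 4, 6, 8, 18, 20, 18, 12, 8, 10, 6, 8, 18, 14, 12, 10, 8, 6, 4, 2, 0] .nil (.cons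 [12, 1, 6, 8, 10, 2, 4, 6, 8, 18, 20, 18, 12, 8, 10, 6, 8, 18, 14, 12, 10, 8, 6, 4, 2, 0] .nil (.cons [1, 4, 6, 8, 10, 2, 4, 6, 8, 18, 20, 18, 12, 8, 10, 6, 8, 18, 14, 12, 10, 8, 6, 4, 2, 0] .nil (.cons [18, 4, 6, 8, 10, 2, 4, 6, 8, 18, 20, 18, 12, 8, 10, 6, 8, 18, 14, 12, 10, 8, 6, 4, 2, 0] .nil (.cons [1, 12, 6, 8, 10, 2, 4, 6, 8, 18, 20, 18, 12, 8, 10, 6, 8, 18, 14, 12, 10, 8, 6, 4, 2, 0] .nil (.cons [10, 12, 6, 8, 10, 2, 4, 6, 8, 18, 20, 18, 12, 8, 10, 6, 8, 18, 14, 12, 10, 8, 6, 4, 2, 0] .nil (.cons [18, 12, 6, 8, 10, 2, 4, 6, 8, 18, 20, 18, 12, 8, 10, 6, 8, 18, 14, 12, 10, 8, 6, 4, 2, 0] .nil (.cons [1, 18, 6, 8, 10, 2, 4, 6, 8, 18, 20, 18, 12, 8, 10, 6, 8, 18, 14, 12, 10, 8, 6, 4, 2, 0] .nil (.cons [1, 18, 12, 8,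 10, 2, 4, 6, 8, 18, 20, 18, 12, 8, 10, 6, 8, 18, 14, 12, 10, 8, 6, 4, 2, 0] .nil (.cons [16, 14, 12, 6, 8, 10, 4, 6, 8, 18, 20, 18, 12, 8, 10, 6, 8, 18, 14, 12, 10, 8, 6, 4, 2, 0] .nil (.cons [8, 18, 12, 6, 8, 10, 4, 6, 8, 18, 20, 18, 12, 8, 10, 6, 8, 18, 14, 12, 10, 8, 6, 4, 2, 0] .nil (.cons [12, 1, 4, 6, 8, 10, 2, 4, 6, 8, 18, 20, 12, 8, 10, 6, 8, 18, 14, 12, 10, 8, 6, 4, 2, 0] .nil (.cons [14, 12, 4, 6, 8, 10, 2, 4, 6, 8, 18, 20, 12, 8, 10, 6, 8, 18, 14, 12, 10, 8, 6, 4, 2, 0] .nil (.cons [18, 12, 4, 6, 8, 10, 2, 4, 6, 8, 18, 20, 12, 8, 10, 6, 8, 18, 14, 12, 10, 8, 6, 4, 2, 0] .nil (.cons [1, 14, 12, 6, 8, 10, 2, 4, 6, 8, 18, 20, 12, 8, 10, 6, 8, 18, 14, 12, 10, 8, 6, 4, 2, 0] .nil (.cons [16, 14, 12, 6, 8, 10, 2, 4,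 6, 8, 18, 20, 12, 8, 10, 6, 8, 18, 14, 12, 10, 8, 6, 4, 2, 0] (.cons [14, 12, 10, 2, 8, 6, 4, 0, 2, 14, 12, 4, 6, 10, 8, 16, 18, 6, 4, 16, 6, 8, 10, 12, 14] (.cons [10, 0, 2, 6, 4, 12, 14, 6, 8, 16] (.cons [3, 0, 0, 0, 2, 0, 0, 3, 3, 0] (.cons [0, 2, 2, 0, 2, 1, 3] .nil .nil) .nil) .nil) .nil) (.cons [1, 8, 18, 6, 8, 10, 2, 4, 6, 8, 18, 20, 12, 8, 10, 6, 8, 18, 14, 12, 10, 8, 6, 4, 2, 0] .nil (.cons [10, 8, 18, 6, 8, 10, 2, 4, 6, 8, 18, 20, 12, 8, 10, 6, 8, 18, 14, 12, 10, 8, 6, 4, 2, 0] .nil (.cons [1, 16, 14, 12, 8, 10, 2, 4, 6, 8, 18, 20, 12, 8, 10, 6, 8, 18, 14, 12, 10, 8, 6, 4, 2, 0] .nil (.cons [1, 18, 14, 12, 8, 10, 2, 4, 6, 8, 18, 20, 12, 8, 10, 6, 8, 18, 14, 12, 10, 8, 6, 4, 2, 0] (.cons [6, 8, 0, 2, 4, 6, 16,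 18, 8, 10, 12, 6, 8, 10, 6, 8, 4, 6, 16, 6, 4, 2, 8, 6, 4, 0, 2, 12, 4, 6, 10, 8, 16, 18, 6, 4, 16, 6, 8, 10, 12, 14] (.cons [6, 8, 2, 16, 0, 4, 2, 6, 4, 10, 8, 6, 8] (.cons [1, 1, 1, 3, 0, 0, 3, 1, 3] .nil .nil) .nil) .nil) (.cons [14, 8, 10, 12, 6, 8, 10, 4, 6, 8, 18, 20, 12, 8, 10, 6, 8, 18, 14, 12, 10, 8, 6, 4, 2, 0] .nil (.cons [18, 8, 10, 12, 6, 8, 10, 4, 6, 8, 18, 20, 12, 8, 10, 6, 8, 18, 14, 12, 10, 8, 6, 4, 2, 0] .nil (.cons [16, 14, 10, 12, 6, 8, 10, 4, 6, 8, 18, 20, 12, 8, 10, 6, 8, 18, 14, 12, 10, 8, 6, 4, 2, 0] .nil (.cons [8, 18, 10, 12, 6, 8, 10, 4, 6, 8, 18, 20, 12, 8, 10, 6, 8, 18, 14, 12, 10, 8, 6, 4, 2, 0] .nil (.cons [10, 8, 18, 12, 6, 8, 10, 4, 6, 8, 18, 20, 12, 8, 10, 6, 8, 18, 14, 12, 10, 8, 6, 4,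 2, 0] .nil (.cons [20, 8, 18, 12, 6, 8, 10, 4, 6, 8, 18, 20, 12, 8, 10, 6, 8, 18, 14, 12, 10, 8, 6, 4, 2, 0] (.cons [0, 2, 4, 6, 8, 10, 12, 4, 6, 16, 18, 6, 8, 10, 6, 8, 4, 6, 16, 6, 4, 2, 8, 6, 4, 0, 2, 4, 6, 10, 8, 16, 18, 6, 4, 16, 6, 8, 10, 12, 14] (.cons [16, 12, 0, 2, 10, 12, 8, 6, 4, 2, 0, 14, 6, 8, 16] (.cons [1, 3, 3, 0, 3, 0, 2, 0, 0, 3] (.cons [3, 1, 2, 1, 1, 2, 0, 2, 1, 1] .nil .nil) .nil) .nil) .nil) (.cons [20, 10, 8, 18, 6, 8, 10, 4, 6, 8, 18, 20, 12, 8, 10, 6, 8, 18, 14, 12, 10, 8, 6, 4, 2, 0] .nil (.cons [18, 20, 8, 18, 6, 8, 10, 4, 6, 8, 18, 20, 12, 8, 10, 6, 8, 18, 14, 12, 10, 8, 6, 4, 2, 0] .nil (.cons [1, 8, 10, 12, 6, 8, 10, 2, 4, 6, 8, 18, 20, 8, 10, 6, 8, 18, 14, 12, 10, 8, 6, 4, 2, 0] .nil (.cons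 [18, 14, 8, 10, 12, 6, 8, 10, 4, 6, 8, 18, 20, 8, 10, 6, 8, 18, 14, 12, 10, 8, 6, 4, 2, 0] .nil (.cons [20, 18, 8, 10, 12, 6, 8, 10, 4, 6, 8, 18, 20, 8, 10, 6, 8, 18, 14, 12, 10, 8, 6, 4, 2, 0] .nil (.cons [1, 14, 12, 4, 6, 8, 10, 2, 4, 6, 8, 18, 20, 12, 10, 6, 8, 18, 14, 12, 10, 8, 6, 4, 2, 0] .nil (.cons [16, 14, 12, 4, 6, 8, 10, 2, 4, 6, 8, 18, 20, 12, 10, 6, 8, 18, 14, 12, 10, 8, 6, 4, 2, 0] .nil (.cons [18, 14, 12, 4, 6, 8, 10, 2, 4, 6, 8, 18, 20, 12, 10, 6, 8, 18, 14, 12, 10, 8, 6, 4, 2, 0] .nil (.cons [8, 18, 12, 4, 6, 8, 10, 2, 4, 6, 8, 18, 20, 12, 10, 6, 8, 18, 14, 12, 10, 8, 6, 4, 2, 0] .nil (.cons [6, 8, 18, 4, 6, 8, 10, 2, 4, 6, 8, 18, 20, 12, 10, 6, 8, 18, 14, 12, 10, 8, 6, 4, 2, 0] .nil (.cons [1, 16, 14,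 12, 6, 8, 10, 2, 4, 6, 8, 18, 20, 12, 10, 6, 8, 18, 14, 12, 10, 8, 6, 4, 2, 0] .nil (.cons [1, 18, 14, 12, 6, 8, 10, 2, 4, 6, 8, 18, 20, 12, 10, 6, 8, 18, 14, 12, 10, 8, 6, 4, 2, 0] .nil (.cons [8, 18, 14, 12, 6, 8, 10, 2, 4, 6, 8, 18, 20, 12, 10, 6, 8, 18, 14, 12, 10, 8, 6, 4, 2, 0] .nil (.cons [1, 8, 18, 12, 6, 8, 10, 2, 4, 6, 8, 18, 20, 12, 10, 6, 8, 18, 14, 12, 10, 8, 6, 4, 2, 0] .nil (.cons [1, 18, 16, 14, 12, 8, 10, 2, 4, 6, 8, 18, 20, 12, 10, 6, 8, 18, 14, 12, 10, 8, 6, 4, 2, 0] .nil (.cons [8, 18, 16, 14, 12, 6, 8, 10, 4, 6, 8, 18, 20, 12, 10, 6, 8, 18, 14, 12, 10, 8, 6, 4, 2, 0] .nil (.cons [20, 18, 16, 14, 12, 6, 8, 10, 4, 6, 8, 18, 20, 12, 10, 6, 8, 18, 14, 12, 10, 8, 6, 4, 2, 0] .nil (.cons [18, 20, 10, 8, 18,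 6, 8, 10, 4, 6, 8, 18, 20, 12, 10, 6, 8, 18, 14, 12, 10, 8, 6, 4, 2, 0] .nil (.cons [20, 14, 12, 10, 8, 18, 6, 8, 10, 4, 6, 8, 18, 20, 12, 10, 8, 18, 14, 12, 10, 8, 6, 4, 2, 0] .nil (.cons [2, 4, 1, 6, 8, 10, 2, 4, 6, 8, 18, 20, 12, 8, 10, 6, 8, 18, 14, 12, 10, 8, 6, 4, 2, 0] .nil (.cons [14, 12, 10, 8, 18, 20, 12, 14, 10, 12, 8, 10, 0, 2, 4, 6, 8, 18, 16, 14, 12, 10, 8, 6, 4, 2, 0] .nil (.cons [14, 12, 10, 6, 8, 18, 20, 14, 10, 12, 8, 10, 0, 2, 4, 6, 8, 18, 16, 14, 12, 10, 8, 6, 4, 2, 0] .nil (.cons [18, 8, 10, 4, 6, 8, 18, 20, 10, 12, 8, 10, 0, 2, 4, 6, 8, 18, 16, 14, 12, 10, 8, 6, 4, 2, 0] .nil (.cons [14, 12, 10, 4, 6, 8, 18, 20, 10, 12, 8, 10, 0, 2, 4, 6, 8, 18, 16, 14, 12, 10, 8, 6, 4, 2, 0] .nil (.cons [10, 12, 8,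 10, 6, 8, 18, 20, 10, 12, 8, 10, 0, 2, 4, 6, 8, 18, 16, 14, 12, 10, 8, 6, 4, 2, 0] .nil (.cons [14, 12, 8, 10, 6, 8, 18, 20, 10, 12, 8, 10, 0, 2, 4, 6, 8, 18, 16, 14, 12, 10, 8, 6, 4, 2, 0] .nil (.cons [18, 12, 8, 10, 6, 8, 18, 20, 10, 12, 8, 10, 0, 2, 4, 6, 8, 18, 16, 14, 12, 10, 8, 6, 4, 2, 0] .nil (.cons [20, 18, 8, 10, 6, 8, 18, 20, 10, 12, 8, 10, 0, 2, 4, 6, 8, 18, 16, 14, 12, 10, 8, 6, 4, 2, 0] .nil (.cons [1, 10, 2, 4, 6, 8, 18, 20, 14, 12, 8, 10, 0, 2, 4, 6, 8, 18, 16, 14, 12, 10, 8, 6, 4, 2, 0] .nil (.cons [8, 10, 2, 4, 6, 8, 18, 20, 14, 12, 8, 10, 0, 2, 4, 6, 8, 18, 16, 14, 12, 10, 8, 6, 4, 2, 0] .nil (.cons [12, 10, 2, 4, 6, 8, 18, 20, 14, 12, 8, 10, 0, 2, 4, 6, 8, 18, 16, 14, 12, 10, 8, 6, 4, 2, 0] .nil (.cons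 [14, 12, 10, 4, 6, 8, 18, 20, 14, 12, 8, 10, 0, 2, 4, 6, 8, 18, 16, 14, 12, 10, 8, 6, 4, 2, 0] .nil (.cons [14, 12, 8, 10, 6, 8, 18, 20, 14, 12, 8, 10, 0, 2, 4, 6, 8, 18, 16, 14, 12, 10, 8, 6, 4, 2, 0] .nil (.cons [20, 18, 8, 10, 6, 8, 18, 20, 14, 12, 8, 10, 0, 2, 4, 6, 8, 18, 16, 14, 12, 10, 8, 6, 4, 2, 0] .nil (.cons [8, 1, 10, 2, 4, 6, 8, 18, 20, 12, 8, 10, 0, 2, 4, 6, 8, 18, 16, 14, 12, 10, 8, 6, 4, 2, 0] .nil (.cons [6, 8, 10, 2, 4, 6, 8, 18, 20, 12, 8, 10, 0, 2, 4, 6, 8, 18, 16, 14, 12, 10, 8, 6, 4, 2, 0] .nil (.cons [12, 8, 10, 2, 4, 6, 8, 18, 20, 12, 8, 10, 0, 2, 4, 6, 8, 18, 16, 14, 12, 10, 8, 6, 4, 2, 0] .nil (.cons [18, 8, 10, 2, 4, 6, 8, 18, 20, 12, 8, 10, 0, 2, 4, 6, 8, 18, 16, 14, 12, 10, 8, 6, 4, 2, 0] .nil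 (.cons [18, 6, 8, 10, 4, 6, 8, 18, 20, 12, 8, 10, 0, 2, 4, 6, 8, 18, 16, 14, 12, 10, 8, 6, 4, 2, 0] .nil (.cons [10, 12, 8, 10, 4, 6, 8, 18, 20, 12, 8, 10, 0, 2, 4, 6, 8, 18, 16, 14, 12, 10, 8, 6, 4, 2, 0] .nil (.cons [14, 12, 8, 10, 4, 6, 8, 18, 20, 12, 8, 10, 0, 2, 4, 6, 8, 18, 16, 14, 12, 10, 8, 6, 4, 2, 0] .nil (.cons [18, 12, 8, 10, 4, 6, 8, 18, 20, 12, 8, 10, 0, 2, 4, 6, 8, 18, 16, 14, 12, 10, 8, 6, 4, 2, 0] .nil (.cons [20, 18, 8, 10, 4, 6, 8, 18, 20, 12, 8, 10, 0, 2, 4, 6, 8, 18, 16, 14, 12, 10, 8, 6, 4, 2, 0] .nil (.cons [14, 12, 8, 10, 2, 4, 6, 8, 18, 20, 8, 10, 0, 2, 4, 6, 8, 18, 16, 14, 12, 10, 8, 6, 4, 2, 0] .nil (.cons [1, 14, 12, 10, 2, 4, 6, 8, 18, 20, 8, 10, 0, 2, 4, 6, 8, 18, 16, 14, 12, 10, 8, 6, 4, 2,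 0] .nil (.cons [14, 10, 12, 8, 10, 4, 6, 8, 18, 20, 8, 10, 0, 2, 4, 6, 8, 18, 16, 14, 12, 10, 8, 6, 4, 2, 0] .nil (.cons [8, 1, 10, 2, 4, 6, 8, 18, 20, 14, 12, 10, 0, 2, 4, 6, 8, 18, 16, 14, 12, 10, 8, 6, 4, 2, 0] .nil (.cons [12, 1, 10, 2, 4, 6, 8, 18, 20, 14, 12, 10, 0, 2, 4, 6, 8, 18, 16, 14, 12, 10, 8, 6, 4, 2, 0] .nil (.cons [1, 8, 10, 2, 4, 6, 8, 18, 20, 14, 12, 10, 0, 2, 4, 6, 8, 18, 16, 14, 12, 10, 8, 6, 4, 2, 0] .nil (.cons [12, 8, 10, 2, 4, 6, 8, 18, 20, 14, 12, 10, 0, 2, 4, 6, 8, 18, 16, 14, 12, 10, 8, 6, 4, 2, 0] .nil (.cons [18, 8, 10, 2, 4, 6, 8, 18, 20, 14, 12, 10, 0, 2, 4, 6, 8, 18, 16, 14, 12, 10, 8, 6, 4, 2, 0] .nil (.cons [14, 12, 10, 2, 4, 6, 8, 18, 20, 14, 12, 10, 0, 2, 4, 6, 8, 18, 16, 14, 12, 10,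 8, 6, 4, 2, 0] .nil (.cons [12, 6, 8, 10, 4, 6, 8, 18, 20, 14, 12, 10, 0, 2, 4, 6, 8, 18, 16, 14, 12, 10, 8, 6, 4, 2, 0] .nil (.cons [18, 12, 8, 10, 4, 6, 8, 18, 20, 14, 12, 10, 0, 2, 4, 6, 8, 18, 16, 14, 12, 10, 8, 6, 4, 2, 0] .nil (.cons [20, 18, 8, 10, 4, 6, 8, 18, 20, 14, 12, 10, 0, 2, 4, 6, 8, 18, 16, 14, 12, 10, 8, 6, 4, 2, 0] .nil (.cons [14, 10, 12, 8, 10, 6, 8, 18, 20, 14, 12, 10, 0, 2, 4, 6, 8, 18, 16, 14, 12, 10, 8, 6, 4, 2, 0] .nil (.cons [18, 14, 12, 8, 10, 6, 8, 18, 20, 14, 12, 10, 0, 2, 4, 6, 8, 18, 16, 14, 12, 10, 8, 6, 4, 2, 0] .nil (.cons [6, 1, 8, 10, 2, 4, 6, 8, 18, 20, 12, 10, 0, 2, 4, 6, 8, 18, 16, 14, 12, 10, 8, 6, 4, 2, 0] .nil (.cons [12, 1, 8, 10, 2, 4, 6, 8, 18, 20, 12, 10, 0, 2, 4, 6, 8, 18,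 16, 14, 12, 10, 8, 6, 4, 2, 0] .nil (.cons [14, 12, 8, 10, 2, 4, 6, 8, 18, 20, 12, 10, 0, 2, 4, 6, 8, 18, 16, 14, 12, 10, 8, 6, 4, 2, 0] (.cons [4, 6, 16, 18, 8, 6, 16, 8, 10, 4, 6, 8, 2, 4, 6, 16, 18, 4, 2, 0, 12, 10, 16, 6, 4, 2, 8, 6, 4, 16, 6, 8, 10, 12, 14] .nil .nil) (.cons [1, 14, 12, 10, 2, 4, 6, 8, 18, 20, 12, 10, 0, 2, 4, 6, 8, 18, 16, 14, 12, 10, 8, 6, 4, 2, 0] .nil (.cons [8, 18, 6, 8, 10, 4, 6, 8, 18, 20, 12, 10, 0, 2, 4, 6, 8, 18, 16, 14, 12, 10, 8, 6, 4, 2, 0] .nil (.cons [20, 18, 14, 12, 8, 10, 6, 8, 18, 20, 12, 10, 0, 2, 4, 6, 8, 18, 16, 14, 12, 10, 8, 6, 4, 2, 0] .nil (.cons [1, 2, 4, 6, 8, 18, 20, 12, 14, 10, 12, 8, 10, 2, 4, 6, 8, 18, 16, 14, 12, 10, 8, 6, 4, 2, 0] .nil (.cons [10, 2, 4, 6, 8, 18, 20,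 12, 14, 10, 12, 8, 10, 2, 4, 6, 8, 18, 16, 14, 12, 10, 8, 6, 4, 2, 0] .nil (.cons [8, 10, 4, 6, 8, 18, 20, 12, 14, 10, 12, 8, 10, 2, 4, 6, 8, 18, 16, 14, 12, 10, 8, 6, 4, 2, 0] .nil (.cons [12, 10, 4, 6, 8, 18, 20, 12, 14, 10, 12, 8, 10, 2, 4, 6, 8, 18, 16, 14, 12, 10, 8, 6, 4, 2, 0] .nil (.cons [1, 10, 2, 4, 6, 8, 18, 20, 14, 10, 12, 8, 10, 2, 4, 6, 8, 18, 16, 14, 12, 10, 8, 6, 4, 2, 0] .nil (.cons [8, 10, 2, 4, 6, 8, 18, 20, 14, 10, 12, 8, 10, 2, 4, 6, 8, 18, 16, 14, 12, 10, 8, 6, 4, 2, 0] .nil (.cons [12, 8, 10, 4, 6, 8, 18, 20, 14, 10, 12, 8, 10, 2, 4, 6, 8, 18, 16, 14, 12, 10, 8, 6, 4, 2, 0] .nil (.cons [18, 8, 10, 4, 6, 8, 18, 20, 14, 10, 12, 8, 10, 2, 4, 6, 8, 18, 16, 14, 12, 10, 8, 6, 4, 2, 0] .nil (.cons [18, 12,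 8, 10, 6, 8, 18, 20, 14, 10, 12, 8, 10, 2, 4, 6, 8, 18, 16, 14, 12, 10, 8, 6, 4, 2, 0] .nil (.cons [20, 18, 8, 10, 6, 8, 18, 20, 14, 10, 12, 8, 10, 2, 4, 6, 8, 18, 16, 14, 12, 10, 8, 6, 4, 2, 0] .nil (.cons [6, 8, 10, 2, 4, 6, 8, 18, 20, 10, 12, 8, 10, 2, 4, 6, 8, 18, 16, 14, 12, 10, 8, 6, 4, 2, 0] .nil (.cons [1, 12, 10, 2, 4, 6, 8, 18, 20, 10, 12, 8, 10, 2, 4, 6, 8, 18, 16, 14, 12, 10, 8, 6, 4, 2, 0] .nil (.cons [12, 6, 8, 10, 4, 6, 8, 18, 20, 10, 12, 8, 10, 2, 4, 6, 8, 18, 16, 14, 12, 10, 8, 6, 4, 2, 0] .nil (.cons [10, 12, 8, 10, 4, 6, 8, 18, 20, 10, 12, 8, 10, 2, 4, 6, 8, 18, 16, 14, 12, 10, 8, 6, 4, 2, 0] .nil (.cons [14, 12, 8, 10, 4, 6, 8, 18, 20, 10, 12, 8, 10, 2, 4, 6, 8, 18, 16, 14, 12, 10, 8, 6, 4, 2, 0] .nil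 (.cons [18, 12, 8, 10, 4, 6, 8, 18, 20, 10, 12, 8, 10, 2, 4, 6, 8, 18, 16, 14, 12, 10, 8, 6, 4, 2, 0] .nil (.cons [14, 10, 12, 8, 10, 6, 8, 18, 20, 10, 12, 8, 10, 2, 4, 6, 8, 18, 16, 14, 12, 10, 8, 6, 4, 2, 0] .nil (.cons [18, 10, 12, 8, 10, 6, 8, 18, 20, 10, 12, 8, 10, 2, 4, 6, 8, 18, 16, 14, 12, 10, 8, 6, 4, 2, 0] .nil (.cons [20, 18, 12, 8, 10, 6, 8, 18, 20, 10, 12, 8, 10, 2, 4, 6, 8, 18, 16, 14, 12, 10, 8, 6, 4, 2, 0] .nil (.cons [8, 1, 10, 2, 4, 6, 8, 18, 20, 14, 12, 8, 10, 2, 4, 6, 8, 18, 16, 14, 12, 10, 8, 6, 4, 2, 0] .nil (.cons [12, 1, 10, 2, 4, 6, 8, 18, 20, 14, 12, 8, 10, 2, 4, 6, 8, 18, 16, 14, 12, 10, 8, 6, 4, 2, 0] .nil (.cons [1, 8, 10, 2, 4, 6, 8, 18, 20, 14, 12, 8, 10, 2, 4, 6, 8, 18, 16, 14, 12, 10, 8,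 6, 4, 2, 0] .nil (.cons [6, 8, 10, 2, 4, 6, 8, 18, 20, 14, 12, 8, 10, 2, 4, 6, 8, 18, 16, 14, 12, 10, 8, 6, 4, 2, 0] (.cons [16, 18, 8, 0, 2, 4, 6, 16, 10, 12, 8, 10, 4, 6, 8, 16, 4, 6, 2, 0, 4, 2, 8, 6, 10, 8, 16, 18, 6, 4, 16, 6, 8, 10, 12, 14] (.cons [16, 6, 14, 6, 4, 2, 6, 4, 14, 6, 8, 16] (.cons [3, 1, 2, 1, 1, 3, 1, 2] .nil .nil) .nil) .nil) (.cons [18, 8, 10, 2, 4, 6, 8, 18, 20, 14, 12, 8, 10, 2, 4, 6, 8, 18, 16, 14, 12, 10, 8, 6, 4, 2, 0] .nil (.cons [1, 12, 10, 2, 4, 6, 8, 18, 20, 14, 12, 8, 10, 2, 4, 6, 8, 18, 16, 14, 12, 10, 8, 6, 4, 2, 0] .nil (.cons [14, 12, 10, 2, 4, 6, 8, 18, 20, 14, 12, 8, 10, 2, 4, 6, 8, 18, 16, 14, 12, 10, 8, 6, 4, 2, 0] .nil (.cons [10, 12, 8, 10, 4, 6, 8, 18, 20, 14, 12, 8, 10, 2, 4,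 6, 8, 18, 16, 14, 12, 10, 8, 6, 4, 2, 0] .nil (.cons [18, 12, 8, 10, 4, 6, 8, 18, 20, 14, 12, 8, 10, 2, 4, 6, 8, 18, 16, 14, 12, 10, 8, 6, 4, 2, 0] .nil (.cons [20, 18, 8, 10, 4, 6, 8, 18, 20, 14, 12, 8, 10, 2, 4, 6, 8, 18, 16, 14, 12, 10, 8, 6, 4, 2, 0] .nil (.cons [18, 14, 12, 8, 10, 6, 8, 18, 20, 14, 12, 8, 10, 2, 4, 6, 8, 18, 16, 14, 12, 10, 8, 6, 4, 2, 0] (.cons [6, 16, 18, 8, 4, 6, 16, 8, 10, 12, 6, 8, 10, 4, 6, 8, 2, 4, 6, 16, 18, 4, 2, 0, 8, 10, 16, 6, 4, 2, 8, 6, 4, 16, 6, 8, 10, 12, 14] (.cons [12, 2, 0, 14, 6, 8, 16] (.cons [1, 2, 1, 2, 1, 2, 2, 0, 2] (.cons [3, 1, 2, 0, 2, 0, 2, 2] .nil .nil) .nil) .nil) .nil) (.cons [20, 18, 12, 8, 10, 6, 8, 18, 20, 14, 12, 8, 10, 2, 4, 6, 8, 18, 16, 14, 12, 10, 8, 6, 4, 2,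 0] (.cons [6, 16, 18, 0, 6, 4, 2, 8, 6, 4, 16, 6, 8, 10, 12, 14] (.cons [4, 12, 14, 0, 2, 4, 6, 14, 8, 16] (.cons [0, 2, 1, 3, 0, 0, 3, 1, 1, 1, 2] (.cons [1, 2, 2, 0, 3, 3, 1, 1, 2, 2] .nil .nil) .nil) .nil) .nil) (.cons [12, 1, 8, 10, 2, 4, 6, 8, 18, 20, 12, 8, 10, 2, 4, 6, 8, 18, 16, 14, 12, 10, 8, 6, 4, 2, 0] .nil (.cons [18, 1, 8, 10, 2, 4, 6, 8, 18, 20, 12, 8, 10, 2, 4, 6, 8, 18, 16, 14, 12, 10, 8, 6, 4, 2, 0] .nil (.cons [1, 6, 8, 10, 2, 4, 6, 8, 18, 20, 12, 8, 10, 2, 4, 6, 8, 18, 16, 14, 12, 10, 8, 6, 4, 2, 0] .nil (.cons [12, 6, 8, 10, 2, 4, 6, 8, 18, 20, 12, 8, 10, 2, 4, 6, 8, 18, 16, 14, 12, 10, 8, 6, 4, 2, 0] .nil (.cons [18, 6, 8, 10, 2, 4, 6, 8, 18, 20, 12, 8, 10, 2, 4, 6, 8, 18, 16, 14, 12, 10, 8, 6, 4, 2,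 0] .nil (.cons [1, 12, 8, 10, 2, 4, 6, 8, 18, 20, 12, 8, 10, 2, 4, 6, 8, 18, 16, 14, 12, 10, 8, 6, 4, 2, 0] .nil (.cons [10, 12, 8, 10, 2, 4, 6, 8, 18, 20, 12, 8, 10, 2, 4, 6, 8, 18, 16, 14, 12, 10, 8, 6, 4, 2, 0] .nil (.cons [14, 12, 8, 10, 2, 4, 6, 8, 18, 20, 12, 8, 10, 2, 4, 6, 8, 18, 16, 14, 12, 10, 8, 6, 4, 2, 0] .nil (.cons [18, 12, 8, 10, 2, 4, 6, 8, 18, 20, 12, 8, 10, 2, 4, 6, 8, 18, 16, 14, 12, 10, 8, 6, 4, 2, 0] .nil (.cons [1, 18, 8, 10, 2, 4, 6, 8, 18, 20, 12, 8, 10, 2, 4, 6, 8, 18, 16, 14, 12, 10, 8, 6, 4, 2, 0] .nil (.cons [1, 14, 12, 10, 2, 4, 6, 8, 18, 20, 12, 8, 10, 2, 4, 6, 8, 18, 16, 14, 12, 10, 8, 6, 4, 2, 0] .nil (.cons [18, 12, 6, 8, 10, 4, 6, 8, 18, 20, 12, 8, 10, 2, 4, 6, 8, 18, 16, 14, 12, 10, 8,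 6, 4, 2, 0] .nil (.cons [8, 18, 6, 8, 10, 4, 6, 8, 18, 20, 12, 8, 10, 2, 4, 6, 8, 18, 16, 14, 12, 10, 8, 6, 4, 2, 0] .nil (.cons [12, 14, 10, 12, 8, 10, 6, 8, 18, 20, 12, 8, 10, 2, 4, 6, 8, 18, 16, 14, 12, 10, 8, 6, 4, 2, 0] .nil (.cons [18, 14, 10, 12, 8, 10, 6, 8, 18, 20, 12, 8, 10, 2, 4, 6, 8, 18, 16, 14, 12, 10, 8, 6, 4, 2, 0] .nil (.cons [20, 18, 10, 12, 8, 10, 6, 8, 18, 20, 12, 8, 10, 2, 4, 6, 8, 18, 16, 14, 12, 10, 8, 6, 4, 2, 0] .nil (.cons [14, 1, 12, 8, 10, 2, 4, 6, 8, 18, 20, 8, 10, 2, 4, 6, 8, 18, 16, 14, 12, 10, 8, 6, 4, 2, 0] .nil (.cons [12, 4, 6, 8, 10, 2, 4, 6, 8, 18, 20, 8, 10, 2, 4, 6, 8, 18, 16, 14, 12, 10, 8, 6, 4, 2, 0] .nil (.cons [10, 12, 6, 8, 10, 2, 4, 6, 8, 18, 20, 8, 10, 2, 4, 6, 8, 18, 16, 14,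 12, 10, 8, 6, 4, 2, 0] .nil (.cons [1, 10, 12, 8, 10, 2, 4, 6, 8, 18, 20, 8, 10, 2, 4, 6, 8, 18, 16, 14, 12, 10, 8, 6, 4, 2, 0] .nil (.cons [14, 10, 12, 8, 10, 2, 4, 6, 8, 18, 20, 8, 10, 2, 4, 6, 8, 18, 16, 14, 12, 10, 8, 6, 4, 2, 0] .nil (.cons [1, 14, 12, 8, 10, 2, 4, 6, 8, 18, 20, 8, 10, 2, 4, 6, 8, 18, 16, 14, 12, 10, 8, 6, 4, 2, 0] .nil (.cons [14, 10, 12, 6, 8, 10, 4, 6, 8, 18, 20, 8, 10, 2, 4, 6, 8, 18, 16, 14, 12, 10, 8, 6, 4, 2, 0] .nil (.cons [12, 1, 8, 10, 2, 4, 6, 8, 18, 20, 14, 12, 10, 2, 4, 6, 8, 18, 16, 14, 12, 10, 8, 6, 4, 2, 0] .nil (.cons [18, 1, 8, 10, 2, 4, 6, 8, 18, 20, 14, 12, 10, 2, 4, 6, 8, 18, 16, 14, 12, 10, 8, 6, 4, 2, 0] .nil (.cons [14, 1, 12, 10, 2, 4, 6, 8, 18, 20, 14, 12, 10, 2, 4, 6, 8,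 18, 16, 14, 12, 10, 8, 6, 4, 2, 0] .nil (.cons [1, 6, 8, 10, 2, 4, 6, 8, 18, 20, 14, 12, 10, 2, 4, 6, 8, 18, 16, 14, 12, 10, 8, 6, 4, 2, 0] .nil (.cons [4, 6, 8, 10, 2, 4, 6, 8, 18, 20, 14, 12, 10, 2, 4, 6, 8, 18, 16, 14, 12, 10, 8, 6, 4, 2, 0] .nil (.cons [12, 6, 8, 10, 2, 4, 6, 8, 18, 20, 14, 12, 10, 2, 4, 6, 8, 18, 16, 14, 12, 10, 8, 6, 4, 2, 0] .nil (.cons [18, 6, 8, 10, 2, 4, 6, 8, 18, 20, 14, 12, 10, 2, 4, 6, 8, 18, 16, 14, 12, 10, 8, 6, 4, 2, 0] (.cons [2, 6, 4, 8, 6, 10, 8, 16, 18, 6, 4, 16, 6, 8, 10, 12, 14] (.cons [14, 10, 12, 6, 4, 2, 8, 10, 0] (.cons [3, 1, 1, 2, 1, 1, 2, 2, 0] .nil .nil) .nil) .nil) (.cons [1, 12, 8, 10, 2, 4, 6, 8, 18, 20, 14, 12, 10, 2, 4, 6, 8, 18, 16, 14, 12, 10, 8, 6, 4, 2, 0] .nil (.cons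 [18, 12, 8, 10, 2, 4, 6, 8, 18, 20, 14, 12, 10, 2, 4, 6, 8, 18, 16, 14, 12, 10, 8, 6, 4, 2, 0] .nil (.cons [1, 18, 8, 10, 2, 4, 6, 8, 18, 20, 14, 12, 10, 2, 4, 6, 8, 18, 16, 14, 12, 10, 8, 6, 4, 2, 0] .nil (.cons [20, 18, 8, 10, 2, 4, 6, 8, 18, 20, 14, 12, 10, 2, 4, 6, 8, 18, 16, 14, 12, 10, 8, 6, 4, 2, 0] .nil (.cons [1, 14, 12, 10, 2, 4, 6, 8, 18, 20, 14, 12, 10, 2, 4, 6, 8, 18, 16, 14, 12, 10, 8, 6, 4, 2, 0] .nil (.cons [18, 12, 6, 8, 10, 4, 6, 8, 18, 20, 14, 12, 10, 2, 4, 6, 8, 18, 16, 14, 12, 10, 8, 6, 4, 2, 0] .nil (.cons [8, 18, 6, 8, 10, 4, 6, 8, 18, 20, 14, 12, 10, 2, 4, 6, 8, 18, 16, 14, 12, 10, 8, 6, 4, 2, 0] .nil (.cons [18, 10, 12, 8, 10, 4, 6, 8, 18, 20, 14, 12, 10, 2, 4, 6, 8, 18, 16, 14, 12, 10, 8, 6, 4,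 2, 0] .nil (.cons [18, 14, 12, 8, 10, 4, 6, 8, 18, 20, 14, 12, 10, 2, 4, 6, 8, 18, 16, 14, 12, 10, 8, 6, 4, 2, 0] .nil (.cons [20, 18, 12, 8, 10, 4, 6, 8, 18, 20, 14, 12, 10, 2, 4, 6, 8, 18, 16, 14, 12, 10, 8, 6, 4, 2, 0] .nil (.cons [8, 18, 10, 12, 8, 10, 6, 8, 18, 20, 14, 12, 10, 2, 4, 6, 8, 18, 16, 14, 12, 10, 8, 6, 4, 2, 0] .nil (.cons [20, 18, 10, 12, 8, 10, 6, 8, 18, 20, 14, 12, 10, 2, 4, 6, 8, 18, 16, 14, 12, 10, 8, 6, 4, 2, 0] .nil (.cons [18, 1, 6, 8, 10, 2, 4, 6, 8, 18, 20, 12, 10, 2, 4, 6, 8, 18, 16, 14, 12, 10, 8, 6, 4, 2, 0] .nil (.cons [18, 1, 12, 8, 10, 2, 4, 6, 8, 18, 20, 12, 10, 2, 4, 6, 8, 18, 16, 14, 12, 10, 8, 6, 4, 2, 0] .nil (.cons [20, 1, 18, 8, 10, 2, 4, 6, 8, 18, 20, 12, 10, 2, 4, 6, 8, 18, 16,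 14, 12, 10, 8, 6, 4, 2, 0] .nil (.cons [14, 12, 6, 8, 10, 2, 4, 6, 8, 18, 20, 12, 10, 2, 4, 6, 8, 18, 16, 14, 12, 10, 8, 6, 4, 2, 0] .nil (.cons [1, 18, 6, 8, 10, 2, 4, 6, 8, 18, 20, 12, 10, 2, 4, 6, 8, 18, 16, 14, 12, 10, 8, 6, 4, 2, 0] .nil (.cons [20, 18, 6, 8, 10, 2, 4, 6, 8, 18, 20, 12, 10, 2, 4, 6, 8, 18, 16, 14, 12, 10, 8, 6, 4, 2, 0] .nil (.cons [1, 14, 12, 8, 10, 2, 4, 6, 8, 18, 20, 12, 10, 2, 4, 6, 8, 18, 16, 14, 12, 10, 8, 6, 4, 2, 0] .nil (.cons [18, 14, 12, 8, 10, 2, 4, 6, 8, 18, 20, 12, 10, 2, 4, 6, 8, 18, 16, 14, 12, 10, 8, 6, 4, 2, 0] .nil (.cons [1, 18, 12, 8, 10, 2, 4, 6, 8, 18, 20, 12, 10, 2, 4, 6, 8, 18, 16, 14, 12, 10, 8, 6, 4, 2, 0] (.cons [16, 18, 0, 2, 4, 6, 16, 10, 12, 8, 10, 6, 8, 4, 6, 16, 18,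 2, 0, 12, 10, 16, 6, 4, 2, 8, 6, 4, 16, 6, 8, 10, 12, 14] (.cons [6, 4, 2, 12, 14, 10, 8, 16] (.cons [0, 3, 1, 3, 0, 2, 0, 0, 3, 1] .nil .nil) .nil) .nil) (.cons [18, 14, 12, 6, 8, 10, 4, 6, 8, 18, 20, 12, 10, 2, 4, 6, 8, 18, 16, 14, 12, 10, 8, 6, 4, 2, 0] .nil (.cons [20, 18, 12, 6, 8, 10, 4, 6, 8, 18, 20, 12, 10, 2, 4, 6, 8, 18, 16, 14, 12, 10, 8, 6, 4, 2, 0] .nil (.cons [10, 8, 18, 6, 8, 10, 4, 6, 8, 18, 20, 12, 10, 2, 4, 6, 8, 18, 16, 14, 12, 10, 8, 6, 4, 2, 0] .nil (.cons [20, 8, 18, 6, 8, 10, 4, 6, 8, 18, 20, 12, 10, 2, 4, 6, 8, 18, 16, 14, 12, 10, 8, 6, 4, 2, 0] .nil (.cons [1, 6, 8, 18, 20, 10, 12, 14, 8, 10, 12, 6, 8, 10, 4, 6, 8, 18, 16, 14, 12, 10, 8, 6, 4, 2, 0] .nil (.cons [4, 6, 8, 18, 20, 10, 12, 14, 8, 10,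 12, 6, 8, 10, 4, 6, 8, 18, 16, 14, 12, 10, 8, 6, 4, 2, 0] .nil (.cons [1, 10, 8, 18, 20, 10, 12, 14, 8, 10, 12, 6, 8, 10, 4, 6, 8, 18, 16, 14, 12, 10, 8, 6, 4, 2, 0] .nil (.cons [12, 10, 8, 18, 20, 10, 12, 14, 8, 10, 12, 6, 8, 10, 4, 6, 8, 18, 16, 14, 12, 10, 8, 6, 4, 2, 0] .nil (.cons [10, 4, 6, 8, 18, 20, 12, 14, 8, 10, 12, 6, 8, 10, 4, 6, 8, 18, 16, 14, 12, 10, 8, 6, 4, 2, 0] .nil (.cons [12, 10, 6, 8, 18, 20, 12, 14, 8, 10, 12, 6, 8, 10, 4, 6, 8, 18, 16, 14, 12, 10, 8, 6, 4, 2, 0] .nil (.cons [14, 12, 10, 8, 18, 20, 12, 14, 8, 10, 12, 6, 8, 10, 4, 6, 8, 18, 16, 14, 12, 10, 8, 6, 4, 2, 0] (.cons [16, 18, 4, 6, 16, 12, 8, 10, 6, 4, 8, 6, 2, 0, 4, 2, 12, 6, 10, 8, 16, 18, 6, 4, 16, 6, 8, 10, 12, 14] (.cons [12, 10, 4,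 0, 2, 4, 14, 6, 8, 16] (.cons [3, 1, 2, 1, 1, 2, 2, 0, 0] (.cons [0, 3, 1, 3, 1, 3, 0, 2, 0] .nil .nil) .nil) .nil) .nil) (.cons [8, 10, 4, 6, 8, 18, 20, 14, 8, 10, 12, 6, 8, 10, 4, 6, 8, 18, 16, 14, 12, 10, 8, 6, 4, 2, 0] .nil (.cons [12, 10, 4, 6, 8, 18, 20, 14, 8, 10, 12, 6, 8, 10, 4, 6, 8, 18, 16, 14, 12, 10, 8, 6, 4, 2, 0] .nil (.cons [12, 8, 10, 6, 8, 18, 20, 14, 8, 10, 12, 6, 8, 10, 4, 6, 8, 18, 16, 14, 12, 10, 8, 6, 4, 2, 0] .nil (.cons [1, 12, 10, 6, 8, 18, 20, 14, 8, 10, 12, 6, 8, 10, 4, 6, 8, 18, 16, 14, 12, 10, 8, 6, 4, 2, 0] .nil (.cons [14, 12, 10, 6, 8, 18, 20, 14, 8, 10, 12, 6, 8, 10, 4, 6, 8, 18, 16, 14, 12, 10, 8, 6, 4, 2, 0] .nil (.cons [16, 14, 12, 10, 8, 18, 20, 14, 8, 10, 12, 6, 8, 10, 4, 6, 8, 18,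 16, 14, 12, 10, 8, 6, 4, 2, 0] .nil (.cons [18, 8, 10, 4, 6, 8, 18, 20, 8, 10, 12, 6, 8, 10, 4, 6, 8, 18, 16, 14, 12, 10, 8, 6, 4, 2, 0] .nil (.cons [1, 12, 10, 4, 6, 8, 18, 20, 8, 10, 12, 6, 8, 10, 4, 6, 8, 18, 16, 14, 12, 10, 8, 6, 4, 2, 0] .nil (.cons [14, 12, 10, 4, 6, 8, 18, 20, 8, 10, 12, 6, 8, 10, 4, 6, 8, 18, 16, 14, 12, 10, 8, 6, 4, 2, 0] .nil (.cons [1, 12, 8, 10, 6, 8, 18, 20, 8, 10, 12, 6, 8, 10, 4, 6, 8, 18, 16, 14, 12, 10, 8, 6, 4, 2, 0] .nil (.cons [10, 12, 8, 10, 6, 8, 18, 20, 8, 10, 12, 6, 8, 10, 4, 6, 8, 18, 16, 14, 12, 10, 8, 6, 4, 2, 0] .nil (.cons [1, 18, 8, 10, 6, 8, 18, 20, 8, 10, 12, 6, 8, 10, 4, 6, 8, 18, 16, 14, 12, 10, 8, 6, 4, 2, 0] .nil (.cons [20, 18, 8, 10, 6, 8, 18, 20, 8, 10, 12, 6, 8, 10,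 4, 6, 8, 18, 16, 14, 12, 10, 8, 6, 4, 2, 0] .nil (.cons [16, 14, 12, 10, 6, 8, 18, 20, 8, 10, 12, 6, 8, 10, 4, 6, 8, 18, 16, 14, 12, 10, 8, 6, 4, 2, 0] .nil (.cons [1, 16, 14, 12, 10, 8, 18, 20, 8, 10, 12, 6, 8, 10, 4, 6, 8, 18, 16, 14, 12, 10, 8, 6, 4, 2, 0] .nil (.cons [10, 2, 4, 6, 8, 18, 20, 12, 14, 10, 12, 6, 8, 10, 4, 6, 8, 18, 16, 14, 12, 10, 8, 6, 4, 2, 0] .nil (.cons [8, 10, 4, 6, 8, 18, 20, 12, 14, 10, 12, 6, 8, 10, 4, 6, 8, 18, 16, 14, 12, 10, 8, 6, 4, 2, 0] .nil (.cons [12, 10, 4, 6, 8, 18, 20, 12, 14, 10, 12, 6, 8, 10, 4, 6, 8, 18, 16, 14, 12, 10, 8, 6, 4, 2, 0] (.cons [18, 6, 16, 6, 8, 10, 4, 6, 8, 2, 4, 6, 16, 18, 4, 2, 0, 8, 12, 10, 16, 6, 4, 2, 8, 6, 4, 16, 6, 8, 10, 12, 14] (.cons [4, 2, 0, 6, 8, 16] (.cons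 [0, 3, 0, 0, 2, 2, 1, 2] (.cons [2, 1, 1, 2, 1, 2, 1, 1, 3, 1] .nil .nil) .nil) .nil) .nil) (.cons [1, 8, 10, 6, 8, 18, 20, 12, 14, 10, 12, 6, 8, 10, 4, 6, 8, 18, 16, 14, 12, 10, 8, 6, 4, 2, 0] .nil (.cons [14, 12, 10, 6, 8, 18, 20, 12, 14, 10, 12, 6, 8, 10, 4, 6, 8, 18, 16, 14, 12, 10, 8, 6, 4, 2, 0] .nil (.cons [1, 10, 2, 4, 6, 8, 18, 20, 14, 10, 12, 6, 8, 10, 4, 6, 8, 18, 16, 14, 12, 10, 8, 6, 4, 2, 0] .nil (.cons [8, 10, 2, 4, 6, 8, 18, 20, 14, 10, 12, 6, 8, 10, 4, 6, 8, 18, 16, 14, 12, 10, 8, 6, 4, 2, 0] .nil (.cons [6, 8, 10, 4, 6, 8, 18, 20, 14, 10, 12, 6, 8, 10, 4, 6, 8, 18, 16, 14, 12, 10, 8, 6, 4, 2, 0] .nil (.cons [12, 8, 10, 4, 6, 8, 18, 20, 14, 10, 12, 6, 8, 10, 4, 6, 8, 18, 16, 14, 12, 10, 8, 6, 4, 2, 0] .nil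 (.cons [18, 8, 10, 4, 6, 8, 18, 20, 14, 10, 12, 6, 8, 10, 4, 6, 8, 18, 16, 14, 12, 10, 8, 6, 4, 2, 0] .nil (.cons [1, 12, 10, 4, 6, 8, 18, 20, 14, 10, 12, 6, 8, 10, 4, 6, 8, 18, 16, 14, 12, 10, 8, 6, 4, 2, 0] .nil (.cons [14, 12, 10, 4, 6, 8, 18, 20, 14, 10, 12, 6, 8, 10, 4, 6, 8, 18, 16, 14, 12, 10, 8, 6, 4, 2, 0] (.cons [6, 8, 2, 4, 6, 16, 18, 10, 8, 6, 16, 8, 10, 12, 6, 8, 10, 4, 6, 8, 2, 4, 6, 16, 18, 4, 2, 0, 12, 10, 6, 4, 2, 8, 6, 4, 16, 6, 8, 10, 12, 14] (.cons [8, 12, 16, 14, 6, 2, 0, 4, 2, 6, 4, 8] (.cons [1, 1, 3, 0, 2, 2, 1, 3] .nil .nil) .nil) .nil) .nil))))))))))))))))))))))))))))))))))))))))))))))))))))))))))))))))))))))))))))))))))))))))))))))))))))))))))))))))))))))))))))))))))))))))))))))))))))))))))))))))))))))))))))))))))))))))))))))))))))))))))))))))))))))))))))))))))))))))))))))))))))))))))))))))))))))))))))))))))))))))))))))))))))))))))))))))))))))))))))))))))))))))))))))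 (⟨cu_l0.b, cu_l0.S, [], cu_R41, 0⟩ :: cu_tl) (0 :: cu_lk) Pd.nil 0 = true := by decide +kernel
theorem cu_r42 : cu_S.run (.cons [1, 12, 8, 10, 6, 8, 18, 20, 14, 10, 12, 6, 8, 10, 4, 6, 8, 18, 16, 14, 12, 10, 8, 6, 4, 2, 0] .nil (.cons [14, 12, 8, 10, 6, 8, 18, 20, 14, 10, 12, 6, 8, 10, 4, 6, 8, 18, 16, 14, 12, 10, 8, 6, 4, 2, 0] .nil (.cons [18, 12, 8, 10, 6, 8, 18, 20, 14, 10, 12, 6, 8, 10, 4, 6, 8, 18, 16, 14, 12, 10, 8, 6, 4, 2, 0] .nil (.cons [1, 18, 8, 10, 6, 8, 18, 20, 14, 10, 12, 6, 8, 10, 4, 6, 8, 18, 16, 14, 12, 10, 8, 6, 4, 2, 0] .nil (.cons [1, 14, 12, 10, 6, 8, 18, 20, 14, 10, 12, 6, 8, 10, 4, 6, 8, 18, 16, 14, 12, 10, 8, 6, 4, 2, 0] (.cons [8, 10, 6, 8, 4, 6, 16, 14, 10, 12, 8, 6, 4, 2, 10, 8, 6, 4, 0, 2, 4,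 6, 8, 16, 18, 6, 4, 16, 6, 8, 10, 12, 14] (.cons [8, 12, 10, 8, 6, 4, 2, 6, 8] (.cons [3, 0, 0, 3, 3, 1, 1, 2] .nil .nil) .nil) .nil) (.cons [16, 14, 12, 10, 6, 8, 18, 20, 14, 10, 12, 6, 8, 10, 4, 6, 8, 18, 16, 14, 12, 10, 8, 6, 4, 2, 0] .nil (.cons [6, 8, 10, 2, 4, 6, 8, 18, 20, 10, 12, 6, 8, 10, 4, 6, 8, 18, 16, 14, 12, 10, 8, 6, 4, 2, 0] .nil (.cons [12, 8, 10, 2, 4, 6, 8, 18, 20, 10, 12, 6, 8, 10, 4, 6, 8, 18, 16, 14, 12, 10, 8, 6, 4, 2, 0] .nil (.cons [18, 8, 10, 2, 4, 6, 8, 18, 20, 10, 12, 6, 8, 10, 4, 6, 8, 18, 16, 14, 12, 10, 8, 6, 4, 2, 0] .nil (.cons [14, 12, 10, 2, 4, 6, 8, 18, 20, 10, 12, 6, 8, 10, 4, 6, 8, 18, 16, 14, 12, 10, 8, 6, 4, 2, 0] .nil (.cons [12, 6, 8, 10, 4, 6, 8, 18, 20, 10, 12, 6, 8, 10, 4, 6,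 8, 18, 16, 14, 12, 10, 8, 6, 4, 2, 0] .nil (.cons [1, 12, 8, 10, 4, 6, 8, 18, 20, 10, 12, 6, 8, 10, 4, 6, 8, 18, 16, 14, 12, 10, 8, 6, 4, 2, 0] .nil (.cons [10, 12, 8, 10, 4, 6, 8, 18, 20, 10, 12, 6, 8, 10, 4, 6, 8, 18, 16, 14, 12, 10, 8, 6, 4, 2, 0] .nil (.cons [18, 12, 8, 10, 4, 6, 8, 18, 20, 10, 12, 6, 8, 10, 4, 6, 8, 18, 16, 14, 12, 10, 8, 6, 4, 2, 0] .nil (.cons [16, 14, 12, 10, 4, 6, 8, 18, 20, 10, 12, 6, 8, 10, 4, 6, 8, 18, 16, 14, 12, 10, 8, 6, 4, 2, 0] (.cons [16, 18, 8, 6, 16, 6, 4, 2, 12, 14, 10, 12, 8, 10, 6, 8, 4, 6, 16, 18, 2, 0, 10, 6, 4, 2, 8, 6, 4, 16, 6, 8, 10, 12, 14] (.cons [12, 10, 8, 6, 14, 0, 2, 8, 6, 4] (.cons [2, 1, 2, 1, 1, 3, 1, 1, 2, 0] .nil .nil) .nil) .nil) (.cons [18, 10, 12, 8, 10, 6, 8,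 18, 20, 10, 12, 6, 8, 10, 4, 6, 8, 18, 16, 14, 12, 10, 8, 6, 4, 2, 0] (.cons [18, 6, 4, 2, 8, 6, 16, 12, 10, 8, 6, 4, 14, 12, 10, 8, 6, 16, 18, 4, 2, 0, 10, 6, 4, 2, 8, 6, 4, 16, 6, 8, 10, 12, 14] (.cons [12, 8, 10, 6, 8, 2, 14, 16, 14, 6, 4, 2, 8, 6, 14] (.cons [0, 2, 2, 1, 2, 0, 0, 2, 1] (.cons [2, 2, 0, 3, 1, 3, 0, 3, 0] .nil .nil) .nil) .nil) .nil) (.cons [16, 14, 12, 8, 10, 6, 8, 18, 20, 10, 12, 6, 8, 10, 4, 6, 8, 18, 16, 14, 12, 10, 8, 6, 4, 2, 0] .nil (.cons [20, 18, 12, 8, 10, 6, 8, 18, 20, 10, 12, 6, 8, 10, 4, 6, 8, 18, 16, 14, 12, 10, 8, 6, 4, 2, 0] .nil (.cons [12, 1, 10, 2, 4, 6, 8, 18, 20, 14, 12, 6, 8, 10, 4, 6, 8, 18, 16, 14, 12, 10, 8, 6, 4, 2, 0] .nil (.cons [1, 8, 10, 2, 4, 6, 8, 18, 20, 14, 12, 6, 8,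 10, 4, 6, 8, 18, 16, 14, 12, 10, 8, 6, 4, 2, 0] .nil (.cons [6, 8, 10, 2, 4, 6, 8, 18, 20, 14, 12, 6, 8, 10, 4, 6, 8, 18, 16, 14, 12, 10, 8, 6, 4, 2, 0] .nil (.cons [12, 8, 10, 2, 4, 6, 8, 18, 20, 14, 12, 6, 8, 10, 4, 6, 8, 18, 16, 14, 12, 10, 8, 6, 4, 2, 0] .nil (.cons [1, 12, 10, 2, 4, 6, 8, 18, 20, 14, 12, 6, 8, 10, 4, 6, 8, 18, 16, 14, 12, 10, 8, 6, 4, 2, 0] .nil (.cons [12, 6, 8, 10, 4, 6, 8, 18, 20, 14, 12, 6, 8, 10, 4, 6, 8, 18, 16, 14, 12, 10, 8, 6, 4, 2, 0] .nil (.cons [1, 12, 8, 10, 4, 6, 8, 18, 20, 14, 12, 6, 8, 10, 4, 6, 8, 18, 16, 14, 12, 10, 8, 6, 4, 2, 0] .nil (.cons [10, 12, 8, 10, 4, 6, 8, 18, 20, 14, 12, 6, 8, 10, 4, 6, 8, 18, 16, 14, 12, 10, 8, 6, 4, 2, 0] (.cons [18, 16, 12, 10, 6, 8, 2, 4, 6, 16, 18,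 4, 2, 0, 12, 10, 6, 4, 2, 8, 6, 4, 16, 6, 8, 10, 12, 14] (.cons [14, 10, 0, 12, 2, 4, 6, 8] (.cons [1, 3, 1, 1, 2, 2, 1, 3, 0] .nil .nil) .nil) .nil) (.cons [18, 12, 8, 10, 4, 6, 8, 18, 20, 14, 12, 6, 8, 10, 4, 6, 8, 18, 16, 14, 12, 10, 8, 6, 4, 2, 0] .nil (.cons [20, 18, 8, 10, 4, 6, 8, 18, 20, 14, 12, 6, 8, 10, 4, 6, 8, 18, 16, 14, 12, 10, 8, 6, 4, 2, 0] .nil (.cons [1, 14, 12, 10, 4, 6, 8, 18, 20, 14, 12, 6, 8, 10, 4, 6, 8, 18, 16, 14, 12, 10, 8, 6, 4, 2, 0] .nil (.cons [16, 14, 12, 10, 4, 6, 8, 18, 20, 14, 12, 6, 8, 10, 4, 6, 8, 18, 16, 14, 12, 10, 8, 6, 4, 2, 0] .nil (.cons [14, 10, 12, 8, 10, 6, 8, 18, 20, 14, 12, 6, 8, 10, 4, 6, 8, 18, 16, 14, 12, 10, 8, 6, 4, 2, 0] .nil (.cons [18, 10, 12, 8, 10, 6, 8, 18, 20, 14,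 12, 6, 8, 10, 4, 6, 8, 18, 16, 14, 12, 10, 8, 6, 4, 2, 0] .nil (.cons [18, 14, 12, 8, 10, 6, 8, 18, 20, 14, 12, 6, 8, 10, 4, 6, 8, 18, 16, 14, 12, 10, 8, 6, 4, 2, 0] .nil (.cons [20, 18, 12, 8, 10, 6, 8, 18, 20, 14, 12, 6, 8, 10, 4, 6, 8, 18, 16, 14, 12, 10, 8, 6, 4, 2, 0] .nil (.cons [1, 16, 14, 12, 10, 6, 8, 18, 20, 14, 12, 6, 8, 10, 4, 6, 8, 18, 16, 14, 12, 10, 8, 6, 4, 2, 0] .nil (.cons [18, 1, 8, 10, 2, 4, 6, 8, 18, 20, 12, 6, 8, 10, 4, 6, 8, 18, 16, 14, 12, 10, 8, 6, 4, 2, 0] .nil (.cons [4, 6, 8, 10, 2, 4, 6, 8, 18, 20, 12, 6, 8, 10, 4, 6, 8, 18, 16, 14, 12, 10, 8, 6, 4, 2, 0] .nil (.cons [18, 6, 8, 10, 2, 4, 6, 8, 18, 20, 12, 6, 8, 10, 4, 6, 8, 18, 16, 14, 12, 10, 8, 6, 4, 2, 0] .nil (.cons [20, 18, 8, 10, 2, 4,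 6, 8, 18, 20, 12, 6, 8, 10, 4, 6, 8, 18, 16, 14, 12, 10, 8, 6, 4, 2, 0] .nil (.cons [1, 14, 12, 10, 2, 4, 6, 8, 18, 20, 12, 6, 8, 10, 4, 6, 8, 18, 16, 14, 12, 10, 8, 6, 4, 2, 0] (.cons [18, 6, 8, 10, 6, 4, 6, 8, 10, 12, 16, 6, 4, 2, 8, 6, 16, 10, 8, 6, 4, 0, 2, 4, 6, 8, 16, 18, 6, 4, 16, 6, 8, 10, 12, 14] .nil .nil) (.cons [16, 14, 12, 10, 2, 4, 6, 8, 18, 20, 12, 6, 8, 10, 4, 6, 8, 18, 16, 14, 12, 10, 8, 6, 4, 2, 0] .nil (.cons [1, 12, 6, 8, 10, 4, 6, 8, 18, 20, 12, 6, 8, 10, 4, 6, 8, 18, 16, 14, 12, 10, 8, 6, 4, 2, 0] .nil (.cons [14, 12, 6, 8, 10, 4, 6, 8, 18, 20, 12, 6, 8, 10, 4, 6, 8, 18, 16, 14, 12, 10, 8, 6, 4, 2, 0] .nil (.cons [14, 10, 12, 8, 10, 4, 6, 8, 18, 20, 12, 6, 8, 10, 4, 6, 8, 18, 16, 14, 12, 10, 8, 6,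 4, 2, 0] .nil (.cons [18, 10, 12, 8, 10, 4, 6, 8, 18, 20, 12, 6, 8, 10, 4, 6, 8, 18, 16, 14, 12, 10, 8, 6, 4, 2, 0] .nil (.cons [16, 14, 12, 8, 10, 4, 6, 8, 18, 20, 12, 6, 8, 10, 4, 6, 8, 18, 16, 14, 12, 10, 8, 6, 4, 2, 0] .nil (.cons [18, 14, 12, 8, 10, 4, 6, 8, 18, 20, 12, 6, 8, 10, 4, 6, 8, 18, 16, 14, 12, 10, 8, 6, 4, 2, 0] .nil (.cons [1, 20, 18, 8, 10, 4, 6, 8, 18, 20, 12, 6, 8, 10, 4, 6, 8, 18, 16, 14, 12, 10, 8, 6, 4, 2, 0] .nil (.cons [1, 16, 14, 12, 10, 4, 6, 8, 18, 20, 12, 6, 8, 10, 4, 6, 8, 18, 16, 14, 12, 10, 8, 6, 4, 2, 0] .nil (.cons [16, 14, 10, 12, 8, 10, 6, 8, 18, 20, 12, 6, 8, 10, 4, 6, 8, 18, 16, 14, 12, 10, 8, 6, 4, 2, 0] .nil (.cons [1, 18, 10, 12, 8, 10, 6, 8, 18, 20, 12, 6, 8, 10, 4, 6, 8, 18, 16,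 14, 12, 10, 8, 6, 4, 2, 0] .nil (.cons [20, 18, 10, 12, 8, 10, 6, 8, 18, 20, 12, 6, 8, 10, 4, 6, 8, 18, 16, 14, 12, 10, 8, 6, 4, 2, 0] .nil (.cons [18, 16, 14, 12, 8, 10, 6, 8, 18, 20, 12, 6, 8, 10, 4, 6, 8, 18, 16, 14, 12, 10, 8, 6, 4, 2, 0] .nil (.cons [1, 18, 14, 12, 8, 10, 6, 8, 18, 20, 12, 6, 8, 10, 4, 6, 8, 18, 16, 14, 12, 10, 8, 6, 4, 2, 0] .nil (.cons [20, 18, 14, 12, 8, 10, 6, 8, 18, 20, 12, 6, 8, 10, 4, 6, 8, 18, 16, 14, 12, 10, 8, 6, 4, 2, 0] .nil (.cons [1, 20, 18, 12, 8, 10, 6, 8, 18, 20, 12, 6, 8, 10, 4, 6, 8, 18, 16, 14, 12, 10, 8, 6, 4, 2, 0] .nil (.cons [12, 1, 6, 8, 10, 2, 4, 6, 8, 18, 20, 6, 8, 10, 4, 6, 8, 18, 16, 14, 12, 10, 8, 6, 4, 2, 0] .nil (.cons [10, 1, 12, 8, 10, 2, 4, 6, 8, 18, 20, 6, 8, 10,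 4, 6, 8, 18, 16, 14, 12, 10, 8, 6, 4, 2, 0] .nil (.cons [14, 1, 12, 8, 10, 2, 4, 6, 8, 18, 20, 6, 8, 10, 4, 6, 8, 18, 16, 14, 12, 10, 8, 6, 4, 2, 0] .nil (.cons [12, 4, 6, 8, 10, 2, 4, 6, 8, 18, 20, 6, 8, 10, 4, 6, 8, 18, 16, 14, 12, 10, 8, 6, 4, 2, 0] .nil (.cons [1, 12, 6, 8, 10, 2, 4, 6, 8, 18, 20, 6, 8, 10, 4, 6, 8, 18, 16, 14, 12, 10, 8, 6, 4, 2, 0] .nil (.cons [10, 12, 6, 8, 10, 2, 4, 6, 8, 18, 20, 6, 8, 10, 4, 6, 8, 18, 16, 14, 12, 10, 8, 6, 4, 2, 0] .nil (.cons [14, 10, 12, 8, 10, 2, 4, 6, 8, 18, 20, 6, 8, 10, 4, 6, 8, 18, 16, 14, 12, 10, 8, 6, 4, 2, 0] .nil (.cons [20, 18, 12, 8, 10, 2, 4, 6, 8, 18, 20, 6, 8, 10, 4, 6, 8, 18, 16, 14, 12, 10, 8, 6, 4, 2, 0] .nil (.cons [1, 16, 14, 12, 10, 2, 4, 6, 8, 18, 20, 6,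 8, 10, 4, 6, 8, 18, 16, 14, 12, 10, 8, 6, 4, 2, 0] (.cons [16, 12, 10, 4, 6, 8, 2, 4, 6, 16, 18, 0, 8, 12, 10, 6, 4, 2, 8, 6, 4, 16, 6, 8, 10, 12, 14] (.cons [4, 6, 4, 8, 10, 12, 16] (.cons [2, 2, 1, 2, 2, 0, 3, 3] .nil .nil) .nil) .nil) (.cons [8, 10, 12, 6, 8, 10, 4, 6, 8, 18, 20, 6, 8, 10, 4, 6, 8, 18, 16, 14, 12, 10, 8, 6, 4, 2, 0] .nil (.cons [14, 10, 12, 6, 8, 10, 4, 6, 8, 18, 20, 6, 8, 10, 4, 6, 8, 18, 16, 14, 12, 10, 8, 6, 4, 2, 0] .nil (.cons [16, 14, 12, 6, 8, 10, 4, 6, 8, 18, 20, 6, 8, 10, 4, 6, 8, 18, 16, 14, 12, 10, 8, 6, 4, 2, 0] (.cons [8, 4, 6, 16, 10, 12, 8, 10, 6, 4, 2, 8, 6, 4, 0, 2, 4, 6, 10, 8, 16, 18, 6, 4, 16, 6, 8, 10, 12, 14] (.cons [12, 10, 4, 8, 6, 14, 8] (.cons [1, 1, 3, 0, 2, 1, 2, 0] (.cons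 [3, 0, 3, 3, 1, 2] .nil .nil) .nil) .nil) .nil) (.cons [18, 14, 12, 6, 8, 10, 4, 6, 8, 18, 20, 6, 8, 10, 4, 6, 8, 18, 16, 14, 12, 10, 8, 6, 4, 2, 0] .nil (.cons [1, 18, 12, 6, 8, 10, 4, 6, 8, 18, 20, 6, 8, 10, 4, 6, 8, 18, 16, 14, 12, 10, 8, 6, 4, 2, 0] .nil (.cons [8, 18, 12, 6, 8, 10, 4, 6, 8, 18, 20, 6, 8, 10, 4, 6, 8, 18, 16, 14, 12, 10, 8, 6, 4, 2, 0] .nil (.cons [20, 18, 12, 6, 8, 10, 4, 6, 8, 18, 20, 6, 8, 10, 4, 6, 8, 18, 16, 14, 12, 10, 8, 6, 4, 2, 0] .nil (.cons [12, 14, 10, 12, 8, 10, 4, 6, 8, 18, 20, 6, 8, 10, 4, 6, 8, 18, 16, 14, 12, 10, 8, 6, 4, 2, 0] .nil (.cons [16, 14, 10, 12, 8, 10, 4, 6, 8, 18, 20, 6, 8, 10, 4, 6, 8, 18, 16, 14, 12, 10, 8, 6, 4, 2, 0] .nil (.cons [18, 14, 10, 12, 8, 10, 4, 6, 8, 18, 20,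 6, 8, 10, 4, 6, 8, 18, 16, 14, 12, 10, 8, 6, 4, 2, 0] (.cons [8, 6, 16, 18, 10, 4, 8, 6, 4, 2, 16, 12, 10, 8, 6, 4, 14, 12, 10, 8, 6, 16, 18, 4, 2, 0, 10, 6, 4, 2, 8, 6, 4, 16, 6, 8, 10, 12, 14] (.cons [12, 8, 6, 14, 10] .nil .nil) .nil) (.cons [20, 18, 10, 12, 8, 10, 4, 6, 8, 18, 20, 6, 8, 10, 4, 6, 8, 18, 16, 14, 12, 10, 8, 6, 4, 2, 0] .nil (.cons [1, 16, 14, 12, 8, 10, 4, 6, 8, 18, 20, 6, 8, 10, 4, 6, 8, 18, 16, 14, 12, 10, 8, 6, 4, 2, 0] .nil (.cons [20, 18, 14, 12, 8, 10, 4, 6, 8, 18, 20, 6, 8, 10, 4, 6, 8, 18, 16, 14, 12, 10, 8, 6, 4, 2, 0] .nil (.cons [1, 20, 18, 12, 8, 10, 4, 6, 8, 18, 20, 6, 8, 10, 4, 6, 8, 18, 16, 14, 12, 10, 8, 6, 4, 2, 0] .nil (.cons [1, 16, 14, 10, 12, 8, 10, 6, 8, 18, 20, 6, 8, 10, 4, 6, 8,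 18, 16, 14, 12, 10, 8, 6, 4, 2, 0] .nil (.cons [18, 16, 14, 10, 12, 8, 10, 6, 8, 18, 20, 6, 8, 10, 4, 6, 8, 18, 16, 14, 12, 10, 8, 6, 4, 2, 0] .nil (.cons [8, 18, 14, 10, 12, 8, 10, 6, 8, 18, 20, 6, 8, 10, 4, 6, 8, 18, 16, 14, 12, 10, 8, 6, 4, 2, 0] .nil (.cons [20, 18, 14, 10, 12, 8, 10, 6, 8, 18, 20, 6, 8, 10, 4, 6, 8, 18, 16, 14, 12, 10, 8, 6, 4, 2, 0] .nil (.cons [1, 18, 16, 14, 12, 8, 10, 6, 8, 18, 20, 6, 8, 10, 4, 6, 8, 18, 16, 14, 12, 10, 8, 6, 4, 2, 0] .nil (.cons [1, 10, 6, 8, 18, 20, 8, 18, 12, 14, 10, 12, 8, 10, 4, 6, 8, 18, 16, 14, 12, 10, 8, 6, 4, 2, 0] .nil (.cons [8, 10, 6, 8, 18, 20, 8, 18, 12, 14, 10, 12, 8, 10, 4, 6, 8, 18, 16, 14, 12, 10, 8, 6, 4, 2, 0] .nil (.cons [12, 10, 6, 8, 18, 20, 8, 18, 12, 14,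 10, 12, 8, 10, 4, 6, 8, 18, 16, 14, 12, 10, 8, 6, 4, 2, 0] .nil (.cons [1, 10, 4, 6, 8, 18, 20, 18, 12, 14, 10, 12, 8, 10, 4, 6, 8, 18, 16, 14, 12, 10, 8, 6, 4, 2, 0] .nil (.cons [8, 10, 2, 4, 6, 8, 18, 20, 12, 14, 10, 12, 8, 10, 4, 6, 8, 18, 16, 14, 12, 10, 8, 6, 4, 2, 0] .nil (.cons [6, 8, 10, 4, 6, 8, 18, 20, 12, 14, 10, 12, 8, 10, 4, 6, 8, 18, 16, 14, 12, 10, 8, 6, 4, 2, 0] .nil (.cons [18, 8, 10, 4, 6, 8, 18, 20, 12, 14, 10, 12, 8, 10, 4, 6, 8, 18, 16, 14, 12, 10, 8, 6, 4, 2, 0] .nil (.cons [14, 12, 10, 4, 6, 8, 18, 20, 12, 14, 10, 12, 8, 10, 4, 6, 8, 18, 16, 14, 12, 10, 8, 6, 4, 2, 0] (.cons [2, 4, 6, 16, 10, 12, 6, 8, 10, 4, 6, 8, 2, 4, 6, 16, 18, 2, 0, 8, 10, 6, 4, 2, 8, 6, 4, 16, 6, 8, 10, 12, 14] (.cons [2, 8,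 4, 2, 6, 4, 10, 8, 6, 16] (.cons [0, 3, 3, 1, 2, 2] .nil .nil) .nil) .nil) (.cons [1, 12, 8, 10, 6, 8, 18, 20, 12, 14, 10, 12, 8, 10, 4, 6, 8, 18, 16, 14, 12, 10, 8, 6, 4, 2, 0] .nil (.cons [18, 12, 8, 10, 6, 8, 18, 20, 12, 14, 10, 12, 8, 10, 4, 6, 8, 18, 16, 14, 12, 10, 8, 6, 4, 2, 0] .nil (.cons [1, 18, 8, 10, 6, 8, 18, 20, 12, 14, 10, 12, 8, 10, 4, 6, 8, 18, 16, 14, 12, 10, 8, 6, 4, 2, 0] .nil (.cons [16, 14, 12, 10, 6, 8, 18, 20, 12, 14, 10, 12, 8, 10, 4, 6, 8, 18, 16, 14, 12, 10, 8, 6, 4, 2, 0] .nil (.cons [1, 8, 10, 6, 8, 18, 20, 8, 18, 14, 10, 12, 8, 10, 4, 6, 8, 18, 16, 14, 12, 10, 8, 6, 4, 2, 0] .nil (.cons [12, 8, 10, 6, 8, 18, 20, 8, 18, 14, 10, 12, 8, 10, 4, 6, 8, 18, 16, 14, 12, 10, 8, 6, 4, 2, 0] .nil (.cons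 [18, 8, 10, 6, 8, 18, 20, 8, 18, 14, 10, 12, 8, 10, 4, 6, 8, 18, 16, 14, 12, 10, 8, 6, 4, 2, 0] .nil (.cons [1, 12, 10, 6, 8, 18, 20, 8, 18, 14, 10, 12, 8, 10, 4, 6, 8, 18, 16, 14, 12, 10, 8, 6, 4, 2, 0] .nil (.cons [14, 12, 10, 6, 8, 18, 20, 8, 18, 14, 10, 12, 8, 10, 4, 6, 8, 18, 16, 14, 12, 10, 8, 6, 4, 2, 0] .nil (.cons [1, 14, 12, 10, 8, 18, 20, 8, 18, 14, 10, 12, 8, 10, 4, 6, 8, 18, 16, 14, 12, 10, 8, 6, 4, 2, 0] .nil (.cons [16, 14, 12, 10, 8, 18, 20, 8, 18, 14, 10, 12, 8, 10, 4, 6, 8, 18, 16, 14, 12, 10, 8, 6, 4, 2, 0] .nil (.cons [8, 10, 2, 4, 6, 8, 18, 20, 18, 14, 10, 12, 8, 10, 4, 6, 8, 18, 16, 14, 12, 10, 8, 6, 4, 2, 0] (.cons [8, 2, 4, 6, 16, 18, 10, 8, 4, 6, 16, 4, 12, 14, 10, 12, 8, 10, 6, 8, 16, 4, 6, 2,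 0, 4, 2, 8, 6, 10, 8, 16, 18, 6, 4, 16, 6, 8, 10, 12, 14] (.cons [12, 6, 0, 4, 14, 6, 4, 2, 0, 8, 10, 14, 6, 8, 16] .nil .nil) .nil) (.cons [1, 8, 10, 4, 6, 8, 18, 20, 18, 14, 10, 12, 8, 10, 4, 6, 8, 18, 16, 14, 12, 10, 8, 6, 4, 2, 0] .nil (.cons [12, 8, 10, 4, 6, 8, 18, 20, 18, 14, 10, 12, 8, 10, 4, 6, 8, 18, 16, 14, 12, 10, 8, 6, 4, 2, 0] .nil (.cons [1, 12, 10, 4, 6, 8, 18, 20, 18, 14, 10, 12, 8, 10, 4, 6, 8, 18, 16, 14, 12, 10, 8, 6, 4, 2, 0] .nil (.cons [10, 12, 8, 10, 6, 8, 18, 20, 18, 14, 10, 12, 8, 10, 4, 6, 8, 18, 16, 14, 12, 10, 8, 6, 4, 2, 0] .nil (.cons [14, 12, 8, 10, 6, 8, 18, 20, 18, 14, 10, 12, 8, 10, 4, 6, 8, 18, 16, 14, 12, 10, 8, 6, 4, 2, 0] (.cons [16, 18, 4, 6, 16, 10, 12, 8, 10, 6, 8, 4, 2, 6, 4, 0,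 2, 4, 8, 6, 10, 8, 16, 18, 6, 4, 16, 6, 8, 10, 12, 14] (.cons [6, 16, 4, 8, 14, 6, 8, 10, 16] (.cons [1, 3, 0, 3, 0, 2, 0, 0] (.cons [0, 2, 2, 2, 0, 0, 2, 0] .nil .nil) .nil) .nil) .nil) (.cons [20, 18, 8, 10, 6, 8, 18, 20, 18, 14, 10, 12, 8, 10, 4, 6, 8, 18, 16, 14, 12, 10, 8, 6, 4, 2, 0] .nil (.cons [1, 14, 12, 10, 6, 8, 18, 20, 18, 14, 10, 12, 8, 10, 4, 6, 8, 18, 16, 14, 12, 10, 8, 6, 4, 2, 0] .nil (.cons [16, 14, 12, 10, 6, 8, 18, 20, 18, 14, 10, 12, 8, 10, 4, 6, 8, 18, 16, 14, 12, 10, 8, 6, 4, 2, 0] .nil (.cons [1, 16, 14, 12, 10, 8, 18, 20, 18, 14, 10, 12, 8, 10, 4, 6, 8, 18, 16, 14, 12, 10, 8, 6, 4, 2, 0] .nil (.cons [8, 1, 10, 2, 4, 6, 8, 18, 20, 14, 10, 12, 8, 10, 4, 6, 8, 18, 16, 14, 12, 10, 8, 6, 4, 2, 0] (.cons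 [16, 18, 16, 6, 8, 10, 4, 6, 16, 8, 6, 4, 2, 0, 14, 10, 12, 8, 10, 6, 8, 4, 6, 16, 18, 6, 4, 2, 8, 6, 4, 16, 6, 8, 10, 12, 14] .nil .nil) (.cons [1, 8, 10, 2, 4, 6, 8, 18, 20, 14, 10, 12, 8, 10, 4, 6, 8, 18, 16, 14, 12, 10, 8, 6, 4, 2, 0] .nil (.cons [18, 8, 10, 2, 4, 6, 8, 18, 20, 14, 10, 12, 8, 10, 4, 6, 8, 18, 16, 14, 12, 10, 8, 6, 4, 2, 0] .nil (.cons [1, 12, 10, 2, 4, 6, 8, 18, 20, 14, 10, 12, 8, 10, 4, 6, 8, 18, 16, 14, 12, 10, 8, 6, 4, 2, 0] .nil (.cons [14, 12, 10, 2, 4, 6, 8, 18, 20, 14, 10, 12, 8, 10, 4, 6, 8, 18, 16, 14, 12, 10, 8, 6, 4, 2, 0] .nil (.cons [18, 6, 8, 10, 4, 6, 8, 18, 20, 14, 10, 12, 8, 10, 4, 6, 8, 18, 16, 14, 12, 10, 8, 6, 4, 2, 0] .nil (.cons [1, 12, 8, 10, 4, 6, 8, 18, 20, 14, 10, 12, 8, 10,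 4, 6, 8, 18, 16, 14, 12, 10, 8, 6, 4, 2, 0] .nil (.cons [10, 12, 8, 10, 4, 6, 8, 18, 20, 14, 10, 12, 8, 10, 4, 6, 8, 18, 16, 14, 12, 10, 8, 6, 4, 2, 0] .nil (.cons [14, 12, 8, 10, 4, 6, 8, 18, 20, 14, 10, 12, 8, 10, 4, 6, 8, 18, 16, 14, 12, 10, 8, 6, 4, 2, 0] .nil (.cons [18, 12, 8, 10, 4, 6, 8, 18, 20, 14, 10, 12, 8, 10, 4, 6, 8, 18, 16, 14, 12, 10, 8, 6, 4, 2, 0] .nil (.cons [16, 14, 12, 10, 4, 6, 8, 18, 20, 14, 10, 12, 8, 10, 4, 6, 8, 18, 16, 14, 12, 10, 8, 6, 4, 2, 0] .nil (.cons [1, 10, 12, 8, 10, 6, 8, 18, 20, 14, 10, 12, 8, 10, 4, 6, 8, 18, 16, 14, 12, 10, 8, 6, 4, 2, 0] .nil (.cons [14, 10, 12, 8, 10, 6, 8, 18, 20, 14, 10, 12, 8, 10, 4, 6, 8, 18, 16, 14, 12, 10, 8, 6, 4, 2, 0] .nil (.cons [1, 14, 12, 8, 10, 6, 8,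 18, 20, 14, 10, 12, 8, 10, 4, 6, 8, 18, 16, 14, 12, 10, 8, 6, 4, 2, 0] .nil (.cons [1, 18, 12, 8, 10, 6, 8, 18, 20, 14, 10, 12, 8, 10, 4, 6, 8, 18, 16, 14, 12, 10, 8, 6, 4, 2, 0] .nil (.cons [14, 12, 10, 6, 4, 6, 8, 18, 20, 8, 18, 10, 12, 8, 10, 6, 8, 18, 16, 14, 12, 10, 8, 6, 4, 2, 0] (.cons [6, 16, 8, 10, 6, 4, 8, 6, 2, 0, 4, 2, 14, 12, 6, 10, 8, 16, 18, 6, 4, 16, 6, 8, 10, 12, 14] (.cons [4, 2, 4, 6, 14, 8, 10, 12, 16] (.cons [0, 0, 0, 2, 1, 2, 0, 3, 0, 0] (.cons [2, 1, 1, 2, 1, 2, 0, 0, 2, 1] .nil .nil) .nil) .nil) .nil) (.cons [20, 18, 8, 10, 6, 8, 18, 20, 8, 18, 10, 12, 8, 10, 4, 6, 8, 18, 16, 14, 12, 10, 8, 6, 4, 2, 0] .nil (.cons [1, 14, 12, 10, 6, 8, 18, 20, 8, 18, 10, 12, 8, 10, 4, 6, 8, 18, 16, 14, 12, 10, 8,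 6, 4, 2, 0] (.cons [16, 18, 6, 16, 6, 8, 10, 4, 6, 8, 2, 4, 6, 16, 18, 2, 0, 12, 10, 6, 4, 2, 8, 6, 4, 16, 6, 8, 10, 12, 14] (.cons [2, 4, 6, 14, 8, 6, 4, 8] (.cons [0, 0, 0, 0, 3, 0, 2, 2, 0, 0] (.cons [2, 1, 3, 1, 2, 2, 0, 3] .nil .nil) .nil) .nil) .nil) (.cons [1, 6, 8, 10, 4, 6, 8, 18, 20, 18, 10, 12, 8, 10, 4, 6, 8, 18, 16, 14, 12, 10, 8, 6, 4, 2, 0] .nil (.cons [18, 6, 8, 10, 4, 6, 8, 18, 20, 18, 10, 12, 8, 10, 4, 6, 8, 18, 16, 14, 12, 10, 8, 6, 4, 2, 0] .nil (.cons [10, 12, 8, 10, 4, 6, 8, 18, 20, 18, 10, 12, 8, 10, 4, 6, 8, 18, 16, 14, 12, 10, 8, 6, 4, 2, 0] .nil (.cons [18, 12, 8, 10, 4, 6, 8, 18, 20, 18, 10, 12, 8, 10, 4, 6, 8, 18, 16, 14, 12, 10, 8, 6, 4, 2, 0] .nil (.cons [1, 18, 8, 10, 4, 6, 8, 18, 20, 18,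 10, 12, 8, 10, 4, 6, 8, 18, 16, 14, 12, 10, 8, 6, 4, 2, 0] .nil (.cons [20, 18, 8, 10, 4, 6, 8, 18, 20, 18, 10, 12, 8, 10, 4, 6, 8, 18, 16, 14, 12, 10, 8, 6, 4, 2, 0] .nil (.cons [14, 10, 12, 8, 10, 6, 8, 18, 20, 18, 10, 12, 8, 10, 4, 6, 8, 18, 16, 14, 12, 10, 8, 6, 4, 2, 0] .nil (.cons [1, 14, 12, 8, 10, 6, 8, 18, 20, 18, 10, 12, 8, 10, 4, 6, 8, 18, 16, 14, 12, 10, 8, 6, 4, 2, 0] .nil (.cons [18, 14, 12, 8, 10, 6, 8, 18, 20, 18, 10, 12, 8, 10, 4, 6, 8, 18, 16, 14, 12, 10, 8, 6, 4, 2, 0] .nil (.cons [20, 18, 12, 8, 10, 6, 8, 18, 20, 18, 10, 12, 8, 10, 4, 6, 8, 18, 16, 14, 12, 10, 8, 6, 4, 2, 0] (.cons [0, 2, 4, 6, 16, 18, 10, 8, 6, 4, 16, 14, 12, 14, 10, 12, 8, 10, 6, 8, 16, 4, 6, 2, 0, 4, 2, 8, 6, 10, 8, 16, 18, 6, 4,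 16, 6, 8, 10, 12, 14] (.cons [10, 0, 8, 6, 4, 2, 10, 14, 6, 4, 8, 16, 14, 6, 8] (.cons [2, 0, 2, 2, 1, 2, 1, 1, 1, 1] (.cons [3, 3, 0, 3, 3, 1, 2, 0, 2, 1] .nil .nil) .nil) .nil) .nil) (.cons [1, 16, 14, 12, 10, 6, 8, 18, 20, 18, 10, 12, 8, 10, 4, 6, 8, 18, 16, 14, 12, 10, 8, 6, 4, 2, 0] .nil (.cons [6, 1, 8, 10, 2, 4, 6, 8, 18, 20, 10, 12, 8, 10, 4, 6, 8, 18, 16, 14, 12, 10, 8, 6, 4, 2, 0] .nil (.cons [18, 6, 8, 10, 2, 4, 6, 8, 18, 20, 10, 12, 8, 10, 4, 6, 8, 18, 16, 14, 12, 10, 8, 6, 4, 2, 0] .nil (.cons [1, 18, 8, 10, 2, 4, 6, 8, 18, 20, 10, 12, 8, 10, 4, 6, 8, 18, 16, 14, 12, 10, 8, 6, 4, 2, 0] .nil (.cons [20, 18, 8, 10, 2, 4, 6, 8, 18, 20, 10, 12, 8, 10, 4, 6, 8, 18, 16, 14, 12, 10, 8, 6, 4, 2, 0] .nil (.cons [1,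 14, 12, 10, 2, 4, 6, 8, 18, 20, 10, 12, 8, 10, 4, 6, 8, 18, 16, 14, 12, 10, 8, 6, 4, 2, 0] .nil (.cons [16, 14, 12, 10, 2, 4, 6, 8, 18, 20, 10, 12, 8, 10, 4, 6, 8, 18, 16, 14, 12, 10, 8, 6, 4, 2, 0] .nil (.cons [1, 12, 6, 8, 10, 4, 6, 8, 18, 20, 10, 12, 8, 10, 4, 6, 8, 18, 16, 14, 12, 10, 8, 6, 4, 2, 0] .nil (.cons [18, 12, 6, 8, 10, 4, 6, 8, 18, 20, 10, 12, 8, 10, 4, 6, 8, 18, 16, 14, 12, 10, 8, 6, 4, 2, 0] .nil (.cons [1, 18, 6, 8, 10, 4, 6, 8, 18, 20, 10, 12, 8, 10, 4, 6, 8, 18, 16, 14, 12, 10, 8, 6, 4, 2, 0] .nil (.cons [8, 18, 6, 8, 10, 4, 6, 8, 18, 20, 10, 12, 8, 10, 4, 6, 8, 18, 16, 14, 12, 10, 8, 6, 4, 2, 0] (.cons [10, 8, 6, 16, 10, 12, 8, 10, 4, 6, 8, 2, 4, 6, 16, 18, 4, 2, 0, 8, 12, 10, 6, 4, 2, 8, 6, 4, 16,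 6, 8, 10, 12, 14] (.cons [12, 10, 6, 12, 16, 0, 2, 4, 6, 8, 10] (.cons [1, 2, 1, 1, 1, 2, 0, 0, 3, 3] (.cons [1, 3, 0, 2, 1, 3, 0, 3, 3, 1] .nil .nil) .nil) .nil) .nil) (.cons [20, 18, 6, 8, 10, 4, 6, 8, 18, 20, 10, 12, 8, 10, 4, 6, 8, 18, 16, 14, 12, 10, 8, 6, 4, 2, 0] .nil (.cons [14, 10, 12, 8, 10, 4, 6, 8, 18, 20, 10, 12, 8, 10, 4, 6, 8, 18, 16, 14, 12, 10, 8, 6, 4, 2, 0] .nil (.cons [18, 10, 12, 8, 10, 4, 6, 8, 18, 20, 10, 12, 8, 10, 4, 6, 8, 18, 16, 14, 12, 10, 8, 6, 4, 2, 0] .nil (.cons [16, 14, 12, 8, 10, 4, 6, 8, 18, 20, 10, 12, 8, 10, 4, 6, 8, 18, 16, 14, 12, 10, 8, 6, 4, 2, 0] .nil (.cons [20, 18, 12, 8, 10, 4, 6, 8, 18, 20, 10, 12, 8, 10, 4, 6, 8, 18, 16, 14, 12, 10, 8, 6, 4, 2, 0] .nil (.cons [1, 20, 18, 8,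 10, 4, 6, 8, 18, 20, 10, 12, 8, 10, 4, 6, 8, 18, 16, 14, 12, 10, 8, 6, 4, 2, 0] .nil (.cons [1, 16, 14, 12, 10, 4, 6, 8, 18, 20, 10, 12, 8, 10, 4, 6, 8, 18, 16, 14, 12, 10, 8, 6, 4, 2, 0] (.cons [6, 16, 10, 4, 6, 8, 2, 4, 6, 16, 18, 2, 0, 8, 12, 10, 6, 4, 2, 8, 6, 4, 16, 6, 8, 10, 12, 14] .nil .nil) (.cons [12, 14, 10, 12, 8, 10, 6, 8, 18, 20, 10, 12, 8, 10, 4, 6, 8, 18, 16, 14, 12, 10, 8, 6, 4, 2, 0] .nil (.cons [16, 14, 10, 12, 8, 10, 6, 8, 18, 20, 10, 12, 8, 10, 4, 6, 8, 18, 16, 14, 12, 10, 8, 6, 4, 2, 0] .nil (.cons [18, 14, 10, 12, 8, 10, 6, 8, 18, 20, 10, 12, 8, 10, 4, 6, 8, 18, 16, 14, 12, 10, 8, 6, 4, 2, 0] .nil (.cons [8, 18, 10, 12, 8, 10, 6, 8, 18, 20, 10, 12, 8, 10, 4, 6, 8, 18, 16, 14, 12, 10, 8, 6, 4, 2, 0]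 .nil (.cons [20, 18, 10, 12, 8, 10, 6, 8, 18, 20, 10, 12, 8, 10, 4, 6, 8, 18, 16, 14, 12, 10, 8, 6, 4, 2, 0] .nil (.cons [8, 1, 10, 2, 4, 6, 8, 18, 20, 18, 14, 12, 8, 10, 4, 6, 8, 18, 16, 14, 12, 10, 8, 6, 4, 2, 0] .nil (.cons [12, 1, 10, 2, 4, 6, 8, 18, 20, 18, 14, 12, 8, 10, 4, 6, 8, 18, 16, 14, 12, 10, 8, 6, 4, 2, 0] .nil (.cons [18, 8, 10, 2, 4, 6, 8, 18, 20, 18, 14, 12, 8, 10, 4, 6, 8, 18, 16, 14, 12, 10, 8, 6, 4, 2, 0] .nil (.cons [18, 6, 8, 10, 4, 6, 8, 18, 20, 18, 14, 12, 8, 10, 4, 6, 8, 18, 16, 14, 12, 10, 8, 6, 4, 2, 0] .nil (.cons [1, 12, 8, 10, 4, 6, 8, 18, 20, 18, 14, 12, 8, 10, 4, 6, 8, 18, 16, 14, 12, 10, 8, 6, 4, 2, 0] .nil (.cons [14, 12, 8, 10, 4, 6, 8, 18, 20, 18, 14, 12, 8, 10, 4, 6, 8, 18, 16, 14, 12,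 10, 8, 6, 4, 2, 0] (.cons [16, 18, 4, 6, 8, 10, 16, 6, 4, 2, 8, 6, 4, 14, 12, 10, 8, 6, 16, 18, 4, 2, 0, 12, 10, 6, 4, 2, 8, 6, 4, 16, 6, 8, 10, 12, 14] (.cons [10, 12, 10, 6, 4, 6, 2, 4, 6, 8, 10] (.cons [3, 0, 2, 2, 0, 0, 3, 0, 2, 1] .nil .nil) .nil) .nil) (.cons [18, 12, 8, 10, 4, 6, 8, 18, 20, 18, 14, 12, 8, 10, 4, 6, 8, 18, 16, 14, 12, 10, 8, 6, 4, 2, 0] .nil (.cons [20, 18, 8, 10, 4, 6, 8, 18, 20, 18, 14, 12, 8, 10, 4, 6, 8, 18, 16, 14, 12, 10, 8, 6, 4, 2, 0] .nil (.cons [16, 14, 12, 10, 4, 6, 8, 18, 20, 18, 14, 12, 8, 10, 4, 6, 8, 18, 16, 14, 12, 10, 8, 6, 4, 2, 0] .nil (.cons [20, 18, 12, 8, 10, 6, 8, 18, 20, 18, 14, 12, 8, 10, 4, 6, 8, 18, 16, 14, 12, 10, 8, 6, 4, 2, 0] .nil (.cons [1, 16, 14, 12, 10, 6, 8, 18,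 20, 18, 14, 12, 8, 10, 4, 6, 8, 18, 16, 14, 12, 10, 8, 6, 4, 2, 0] .nil (.cons [6, 1, 8, 10, 2, 4, 6, 8, 18, 20, 14, 12, 8, 10, 4, 6, 8, 18, 16, 14, 12, 10, 8, 6, 4, 2, 0] .nil (.cons [14, 1, 12, 10, 2, 4, 6, 8, 18, 20, 14, 12, 8, 10, 4, 6, 8, 18, 16, 14, 12, 10, 8, 6, 4, 2, 0] .nil (.cons [1, 6, 8, 10, 2, 4, 6, 8, 18, 20, 14, 12, 8, 10, 4, 6, 8, 18, 16, 14, 12, 10, 8, 6, 4, 2, 0] .nil (.cons [4, 6, 8, 10, 2, 4, 6, 8, 18, 20, 14, 12, 8, 10, 4, 6, 8, 18, 16, 14, 12, 10, 8, 6, 4, 2, 0] .nil (.cons [1, 12, 8, 10, 2, 4, 6, 8, 18, 20, 14, 12, 8, 10, 4, 6, 8, 18, 16, 14, 12, 10, 8, 6, 4, 2, 0] .nil (.cons [14, 12, 8, 10, 2, 4, 6, 8, 18, 20, 14, 12, 8, 10, 4, 6, 8, 18, 16, 14, 12, 10, 8, 6, 4, 2, 0] .nil (.cons [18, 12, 8, 10,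 2, 4, 6, 8, 18, 20, 14, 12, 8, 10, 4, 6, 8, 18, 16, 14, 12, 10, 8, 6, 4, 2, 0] .nil (.cons [1, 18, 8, 10, 2, 4, 6, 8, 18, 20, 14, 12, 8, 10, 4, 6, 8, 18, 16, 14, 12, 10, 8, 6, 4, 2, 0] .nil (.cons [20, 18, 8, 10, 2, 4, 6, 8, 18, 20, 14, 12, 8, 10, 4, 6, 8, 18, 16, 14, 12, 10, 8, 6, 4, 2, 0] .nil (.cons [1, 14, 12, 10, 2, 4, 6, 8, 18, 20, 14, 12, 8, 10, 4, 6, 8, 18, 16, 14, 12, 10, 8, 6, 4, 2, 0] (.cons [6, 16, 14, 12, 8, 10, 6, 8, 4, 6, 16, 18, 6, 4, 2, 0, 12, 10, 16, 6, 4, 2, 8, 6, 4, 16, 6, 8, 10, 12, 14] (.cons [10, 8, 2, 4, 6, 14, 0, 2, 4, 2, 8, 10] (.cons [0, 0, 3, 0, 3, 1, 1, 2, 1, 1] .nil .nil) .nil) .nil) (.cons [14, 12, 6, 8, 10, 4, 6, 8, 18, 20, 14, 12, 8, 10, 4, 6, 8, 18, 16, 14, 12, 10, 8, 6, 4, 2, 0] .nil (.cons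 [8, 18, 6, 8, 10, 4, 6, 8, 18, 20, 14, 12, 8, 10, 4, 6, 8, 18, 16, 14, 12, 10, 8, 6, 4, 2, 0] .nil (.cons [14, 10, 12, 8, 10, 4, 6, 8, 18, 20, 14, 12, 8, 10, 4, 6, 8, 18, 16, 14, 12, 10, 8, 6, 4, 2, 0] .nil (.cons [18, 10, 12, 8, 10, 4, 6, 8, 18, 20, 14, 12, 8, 10, 4, 6, 8, 18, 16, 14, 12, 10, 8, 6, 4, 2, 0] (.cons [8, 4, 6, 16, 18, 10, 8, 4, 6, 16, 12, 14, 10, 12, 8, 10, 4, 6, 8, 2, 4, 6, 16, 18, 2, 0, 10, 16, 6, 4, 2, 8, 6, 4, 16, 6, 8, 10, 12, 14] (.cons [10, 8, 6, 2, 4, 6, 14, 10, 2, 12, 10] (.cons [0, 2, 1, 2, 0, 2, 0, 3, 1] .nil .nil) .nil) .nil) (.cons [1, 14, 12, 8, 10, 4, 6, 8, 18, 20, 14, 12, 8, 10, 4, 6, 8, 18, 16, 14, 12, 10, 8, 6, 4, 2, 0] .nil (.cons [16, 14, 12, 8, 10, 4, 6, 8, 18, 20, 14, 12, 8, 10, 4, 6,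 8, 18, 16, 14, 12, 10, 8, 6, 4, 2, 0] .nil (.cons [18, 14, 12, 8, 10, 4, 6, 8, 18, 20, 14, 12, 8, 10, 4, 6, 8, 18, 16, 14, 12, 10, 8, 6, 4, 2, 0] .nil (.cons [1, 20, 18, 8, 10, 4, 6, 8, 18, 20, 14, 12, 8, 10, 4, 6, 8, 18, 16, 14, 12, 10, 8, 6, 4, 2, 0] .nil (.cons [1, 14, 10, 12, 8, 10, 6, 8, 18, 20, 14, 12, 8, 10, 4, 6, 8, 18, 16, 14, 12, 10, 8, 6, 4, 2, 0] .nil (.cons [12, 14, 10, 12, 8, 10, 6, 8, 18, 20, 14, 12, 8, 10, 4, 6, 8, 18, 16, 14, 12, 10, 8, 6, 4, 2, 0] .nil (.cons [18, 14, 10, 12, 8, 10, 6, 8, 18, 20, 14, 12, 8, 10, 4, 6, 8, 18, 16, 14, 12, 10, 8, 6, 4, 2, 0] .nil (.cons [8, 18, 10, 12, 8, 10, 6, 8, 18, 20, 14, 12, 8, 10, 4, 6, 8, 18, 16, 14, 12, 10, 8, 6, 4, 2, 0] .nil (.cons [20, 18, 10, 12, 8, 10, 6, 8,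 18, 20, 14, 12, 8, 10, 4, 6, 8, 18, 16, 14, 12, 10, 8, 6, 4, 2, 0] .nil (.cons [18, 16, 14, 12, 8, 10, 6, 8, 18, 20, 14, 12, 8, 10, 4, 6, 8, 18, 16, 14, 12, 10, 8, 6, 4, 2, 0] .nil (.cons [20, 18, 14, 12, 8, 10, 6, 8, 18, 20, 14, 12, 8, 10, 4, 6, 8, 18, 16, 14, 12, 10, 8, 6, 4, 2, 0] .nil (.cons [1, 20, 18, 12, 8, 10, 6, 8, 18, 20, 14, 12, 8, 10, 4, 6, 8, 18, 16, 14, 12, 10, 8, 6, 4, 2, 0] .nil (.cons [14, 1, 12, 10, 2, 4, 6, 8, 18, 20, 18, 12, 8, 10, 4, 6, 8, 18, 16, 14, 12, 10, 8, 6, 4, 2, 0] .nil (.cons [10, 12, 8, 10, 2, 4, 6, 8, 18, 20, 18, 12, 8, 10, 4, 6, 8, 18, 16, 14, 12, 10, 8, 6, 4, 2, 0] .nil (.cons [18, 12, 8, 10, 2, 4, 6, 8, 18, 20, 18, 12, 8, 10, 4, 6, 8, 18, 16, 14, 12, 10, 8, 6, 4, 2, 0] .nil (.cons [16,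 14, 12, 10, 2, 4, 6, 8, 18, 20, 18, 12, 8, 10, 4, 6, 8, 18, 16, 14, 12, 10, 8, 6, 4, 2, 0] .nil (.cons [10, 12, 6, 8, 10, 4, 6, 8, 18, 20, 18, 12, 8, 10, 4, 6, 8, 18, 16, 14, 12, 10, 8, 6, 4, 2, 0] .nil (.cons [14, 12, 6, 8, 10, 4, 6, 8, 18, 20, 18, 12, 8, 10, 4, 6, 8, 18, 16, 14, 12, 10, 8, 6, 4, 2, 0] .nil (.cons [1, 18, 6, 8, 10, 4, 6, 8, 18, 20, 18, 12, 8, 10, 4, 6, 8, 18, 16, 14, 12, 10, 8, 6, 4, 2, 0] .nil (.cons [8, 18, 6, 8, 10, 4, 6, 8, 18, 20, 18, 12, 8, 10, 4, 6, 8, 18, 16, 14, 12, 10, 8, 6, 4, 2, 0] .nil (.cons [20, 18, 6, 8, 10, 4, 6, 8, 18, 20, 18, 12, 8, 10, 4, 6, 8, 18, 16, 14, 12, 10, 8, 6, 4, 2, 0] (.cons [10, 8, 6, 16, 18, 8, 4, 6, 16, 14, 10, 12, 6, 8, 10, 4, 6, 8, 2, 4, 6, 16, 18, 2, 0, 8, 10, 6, 4,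 2, 8, 6, 4, 16, 6, 8, 10, 12, 14] (.cons [12, 4, 0, 2, 8, 10, 16, 14, 6, 8, 10] (.cons [0, 3, 1, 1, 1, 3, 0] .nil .nil) .nil) .nil) (.cons [1, 10, 12, 8, 10, 4, 6, 8, 18, 20, 18, 12, 8, 10, 4, 6, 8, 18, 16, 14, 12, 10, 8, 6, 4, 2, 0] .nil (.cons [18, 10, 12, 8, 10, 4, 6, 8, 18, 20, 18, 12, 8, 10, 4, 6, 8, 18, 16, 14, 12, 10, 8, 6, 4, 2, 0] .nil (.cons [1, 14, 12, 8, 10, 4, 6, 8, 18, 20, 18, 12, 8, 10, 4, 6, 8, 18, 16, 14, 12, 10, 8, 6, 4, 2, 0] .nil (.cons [20, 18, 12, 8, 10, 4, 6, 8, 18, 20, 18, 12, 8, 10, 4, 6, 8, 18, 16, 14, 12, 10, 8, 6, 4, 2, 0] (.cons [16, 18, 12, 10, 8, 6, 16, 14, 12, 6, 8, 10, 4, 6, 8, 6, 16, 4, 6, 2, 0, 4, 2, 8, 6, 10, 8, 16, 18, 6, 4, 16, 6, 8, 10, 12, 14] (.cons [12, 10, 8, 6, 4, 2, 6, 8] (.cons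 [3, 3, 0, 0, 3, 3, 1, 1] (.cons [2, 0, 2, 0, 2, 2] .nil .nil) .nil) .nil) .nil) (.cons [1, 16, 14, 12, 10, 4, 6, 8, 18, 20, 18, 12, 8, 10, 4, 6, 8, 18, 16, 14, 12, 10, 8, 6, 4, 2, 0] .nil (.cons [12, 14, 10, 12, 8, 10, 6, 8, 18, 20, 18, 12, 8, 10, 4, 6, 8, 18, 16, 14, 12, 10, 8, 6, 4, 2, 0] .nil (.cons [18, 14, 10, 12, 8, 10, 6, 8, 18, 20, 18, 12, 8, 10, 4, 6, 8, 18, 16, 14, 12, 10, 8, 6, 4, 2, 0] (.cons [4, 6, 8, 0, 2, 4, 6, 16, 18, 16, 6, 8, 4, 6, 16, 10, 12, 6, 8, 10, 4, 6, 8, 2, 4, 6, 16, 18, 2, 0, 12, 10, 16, 6, 4, 2, 8, 6, 4, 16, 6, 8, 10, 12, 14] .nil .nil) (.cons [1, 18, 10, 12, 8, 10, 6, 8, 18, 20, 18, 12, 8, 10, 4, 6, 8, 18, 16, 14, 12, 10, 8, 6, 4, 2, 0] .nil (.cons [8, 18, 10, 12, 8, 10, 6, 8, 18, 20, 18, 12,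 8, 10, 4, 6, 8, 18, 16, 14, 12, 10, 8, 6, 4, 2, 0] .nil (.cons [1, 16, 14, 12, 8, 10, 6, 8, 18, 20, 18, 12, 8, 10, 4, 6, 8, 18, 16, 14, 12, 10, 8, 6, 4, 2, 0] (.cons [4, 10, 12, 6, 18, 16, 6, 8, 10, 4, 6, 8, 2, 4, 6, 16, 18, 2, 0, 6, 4, 2, 8, 6, 4, 16, 6, 8, 10, 12, 14] (.cons [6, 8, 12, 10, 6, 4, 8] (.cons [3, 1, 3, 0, 0, 2, 0] (.cons [1, 2, 1, 3, 1, 2, 1] .nil .nil) .nil) .nil) .nil) (.cons [18, 16, 14, 12, 8, 10, 6, 8, 18, 20, 18, 12, 8, 10, 4, 6, 8, 18, 16, 14, 12, 10, 8, 6, 4, 2, 0] .nil (.cons [1, 20, 18, 12, 8, 10, 6, 8, 18, 20, 18, 12, 8, 10, 4, 6, 8, 18, 16, 14, 12, 10, 8, 6, 4, 2, 0] .nil (.cons [4, 1, 6, 8, 10, 2, 4, 6, 8, 18, 20, 12, 8, 10, 4, 6, 8, 18, 16, 14, 12, 10, 8, 6, 4, 2, 0] .nil (.cons [12, 1, 6, 8,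 10, 2, 4, 6, 8, 18, 20, 12, 8, 10, 4, 6, 8, 18, 16, 14, 12, 10, 8, 6, 4, 2, 0] .nil (.cons [18, 1, 6, 8, 10, 2, 4, 6, 8, 18, 20, 12, 8, 10, 4, 6, 8, 18, 16, 14, 12, 10, 8, 6, 4, 2, 0] .nil (.cons [18, 1, 12, 8, 10, 2, 4, 6, 8, 18, 20, 12, 8, 10, 4, 6, 8, 18, 16, 14, 12, 10, 8, 6, 4, 2, 0] .nil (.cons [20, 1, 18, 8, 10, 2, 4, 6, 8, 18, 20, 12, 8, 10, 4, 6, 8, 18, 16, 14, 12, 10, 8, 6, 4, 2, 0] .nil (.cons [1, 4, 6, 8, 10, 2, 4, 6, 8, 18, 20, 12, 8, 10, 4, 6, 8, 18, 16, 14, 12, 10, 8, 6, 4, 2, 0] (.cons [16, 18, 4, 6, 16, 10, 12, 8, 10, 4, 6, 8, 0, 2, 4, 6, 16, 18, 2, 0, 8, 10, 6, 4, 2, 8, 6, 4, 16, 6, 8, 10, 12, 14] .nil .nil) (.cons [10, 12, 6, 8, 10, 2, 4, 6, 8, 18, 20, 12, 8, 10, 4, 6, 8, 18, 16, 14, 12, 10, 8, 6, 4,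 2, 0] .nil (.cons [18, 12, 6, 8, 10, 2, 4, 6, 8, 18, 20, 12, 8, 10, 4, 6, 8, 18, 16, 14, 12, 10, 8, 6, 4, 2, 0] .nil (.cons [1, 18, 6, 8, 10, 2, 4, 6, 8, 18, 20, 12, 8, 10, 4, 6, 8, 18, 16, 14, 12, 10, 8, 6, 4, 2, 0] .nil (.cons [8, 18, 6, 8, 10, 2, 4, 6, 8, 18, 20, 12, 8, 10, 4, 6, 8, 18, 16, 14, 12, 10, 8, 6, 4, 2, 0] (.cons [10, 6, 8, 2, 4, 6, 16, 18, 10, 8, 4, 6, 16, 4, 12, 10, 8, 6, 4, 2, 0, 14, 12, 10, 8, 2, 4, 6, 16, 18, 8, 10, 6, 4, 2, 8, 6, 4, 16, 6, 8, 10, 12, 14] (.cons [12, 8, 6, 16, 14, 6, 8, 10] (.cons [3, 3, 0, 2, 1, 2, 0, 2, 2] .nil .nil) .nil) .nil) (.cons [20, 18, 6, 8, 10, 2, 4, 6, 8, 18, 20, 12, 8, 10, 4, 6, 8, 18, 16, 14, 12, 10, 8, 6, 4, 2, 0] .nil (.cons [18, 10, 12, 8, 10, 2, 4, 6, 8, 18, 20, 12,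 8, 10, 4, 6, 8, 18, 16, 14, 12, 10, 8, 6, 4, 2, 0] .nil (.cons [1, 14, 12, 8, 10, 2, 4, 6, 8, 18, 20, 12, 8, 10, 4, 6, 8, 18, 16, 14, 12, 10, 8, 6, 4, 2, 0] .nil (.cons [16, 14, 12, 8, 10, 2, 4, 6, 8, 18, 20, 12, 8, 10, 4, 6, 8, 18, 16, 14, 12, 10, 8, 6, 4, 2, 0] .nil (.cons [18, 14, 12, 8, 10, 2, 4, 6, 8, 18, 20, 12, 8, 10, 4, 6, 8, 18, 16, 14, 12, 10, 8, 6, 4, 2, 0] .nil (.cons [1, 16, 14, 12, 10, 2, 4, 6, 8, 18, 20, 12, 8, 10, 4, 6, 8, 18, 16, 14, 12, 10, 8, 6, 4, 2, 0] .nil (.cons [1, 10, 12, 6, 8, 10, 4, 6, 8, 18, 20, 12, 8, 10, 4, 6, 8, 18, 16, 14, 12, 10, 8, 6, 4, 2, 0] (.cons [6, 16, 18, 4, 6, 16, 12, 8, 10, 4, 6, 8, 0, 2, 4, 6, 16, 18, 2, 0, 12, 10, 16, 6, 4, 2, 8, 6, 4, 16, 6, 8, 10, 12, 14] .nil .nil) (.cons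 [1, 14, 12, 6, 8, 10, 4, 6, 8, 18, 20, 12, 8, 10, 4, 6, 8, 18, 16, 14, 12, 10, 8, 6, 4, 2, 0] .nil (.cons [16, 14, 12, 6, 8, 10, 4, 6, 8, 18, 20, 12, 8, 10, 4, 6, 8, 18, 16, 14, 12, 10, 8, 6, 4, 2, 0] .nil (.cons [18, 14, 12, 6, 8, 10, 4, 6, 8, 18, 20, 12, 8, 10, 4, 6, 8, 18, 16, 14, 12, 10, 8, 6, 4, 2, 0] .nil (.cons [1, 18, 12, 6, 8, 10, 4, 6, 8, 18, 20, 12, 8, 10, 4, 6, 8, 18, 16, 14, 12, 10, 8, 6, 4, 2, 0] .nil (.cons [20, 18, 12, 6, 8, 10, 4, 6, 8, 18, 20, 12, 8, 10, 4, 6, 8, 18, 16, 14, 12, 10, 8, 6, 4, 2, 0] .nil (.cons [1, 8, 18, 6, 8, 10, 4, 6, 8, 18, 20, 12, 8, 10, 4, 6, 8, 18, 16, 14, 12, 10, 8, 6, 4, 2, 0] .nil (.cons [1, 12, 14, 10, 12, 8, 10, 6, 8, 18, 20, 12, 8, 10, 4, 6, 8, 18, 16, 14, 12, 10, 8, 6, 4, 2,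 0] .nil (.cons [1, 16, 14, 10, 12, 8, 10, 6, 8, 18, 20, 12, 8, 10, 4, 6, 8, 18, 16, 14, 12, 10, 8, 6, 4, 2, 0] (.cons [16, 8, 6, 4, 2, 0, 8, 10, 6, 8, 2, 4, 6, 16, 18, 8, 12, 10, 6, 4, 2, 8, 6, 4, 16, 6, 8, 10, 12, 14] (.cons [12, 10, 8, 6, 14, 0, 2, 8] (.cons [0, 0, 3, 1, 2, 0, 2] (.cons [3, 1, 3, 1, 2, 0, 0, 2, 0] .nil .nil) .nil) .nil) .nil) (.cons [8, 18, 14, 10, 12, 8, 10, 6, 8, 18, 20, 12, 8, 10, 4, 6, 8, 18, 16, 14, 12, 10, 8, 6, 4, 2, 0] (.cons [14, 12, 8, 10, 6, 8, 2, 4, 6, 16, 18, 4, 2, 0, 8, 12, 10, 16, 6, 4, 2, 8, 6, 4, 16, 6, 8, 10, 12, 14] (.cons [16, 6, 8, 4, 6, 14, 6, 4] (.cons [0, 3, 1, 2, 2, 1, 1, 2, 0] .nil .nil) .nil) .nil) (.cons [1, 8, 18, 10, 12, 8, 10, 6, 8, 18, 20, 12, 8, 10, 4, 6, 8, 18, 16, 14,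 12, 10, 8, 6, 4, 2, 0] .nil (.cons [1, 20, 18, 10, 12, 8, 10, 6, 8, 18, 20, 12, 8, 10, 4, 6, 8, 18, 16, 14, 12, 10, 8, 6, 4, 2, 0] .nil (.cons [10, 1, 12, 8, 10, 2, 4, 6, 8, 18, 20, 18, 8, 10, 4, 6, 8, 18, 16, 14, 12, 10, 8, 6, 4, 2, 0] .nil (.cons [14, 1, 12, 8, 10, 2, 4, 6, 8, 18, 20, 18, 8, 10, 4, 6, 8, 18, 16, 14, 12, 10, 8, 6, 4, 2, 0] .nil (.cons [10, 12, 6, 8, 10, 2, 4, 6, 8, 18, 20, 18, 8, 10, 4, 6, 8, 18, 16, 14, 12, 10, 8, 6, 4, 2, 0] .nil (.cons [1, 10, 12, 8, 10, 2, 4, 6, 8, 18, 20, 18, 8, 10, 4, 6, 8, 18, 16, 14, 12, 10, 8, 6, 4, 2, 0] .nil (.cons [14, 10, 12, 8, 10, 2, 4, 6, 8, 18, 20, 18, 8, 10, 4, 6, 8, 18, 16, 14, 12, 10, 8, 6, 4, 2, 0] .nil (.cons [18, 10, 12, 8, 10, 2, 4, 6, 8, 18, 20, 18, 8, 10, 4, 6,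 8, 18, 16, 14, 12, 10, 8, 6, 4, 2, 0] .nil (.cons [1, 14, 12, 8, 10, 2, 4, 6, 8, 18, 20, 18, 8, 10, 4, 6, 8, 18, 16, 14, 12, 10, 8, 6, 4, 2, 0] .nil (.cons [16, 14, 12, 8, 10, 2, 4, 6, 8, 18, 20, 18, 8, 10, 4, 6, 8, 18, 16, 14, 12, 10, 8, 6, 4, 2, 0] .nil (.cons [8, 10, 12, 6, 8, 10, 4, 6, 8, 18, 20, 18, 8, 10, 4, 6, 8, 18, 16, 14, 12, 10, 8, 6, 4, 2, 0] .nil (.cons [18, 10, 12, 6, 8, 10, 4, 6, 8, 18, 20, 18, 8, 10, 4, 6, 8, 18, 16, 14, 12, 10, 8, 6, 4, 2, 0] .nil (.cons [16, 14, 12, 6, 8, 10, 4, 6, 8, 18, 20, 18, 8, 10, 4, 6, 8, 18, 16, 14, 12, 10, 8, 6, 4, 2, 0] .nil (.cons [18, 14, 12, 6, 8, 10, 4, 6, 8, 18, 20, 18, 8, 10, 4, 6, 8, 18, 16, 14, 12, 10, 8, 6, 4, 2, 0] (.cons [18, 16, 12, 8, 10, 4, 6, 8, 2, 4, 6, 16, 18,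 2, 0, 14, 12, 10, 6, 4, 2, 8, 6, 4, 16, 6, 8, 10, 12, 14] (.cons [4, 6, 14, 10, 4, 12, 0, 2] (.cons [3, 3, 1, 2, 1, 2] (.cons [2, 1, 1, 3, 1, 3, 0, 3, 1, 2] .nil .nil) .nil) .nil) .nil) (.cons [20, 18, 12, 6, 8, 10, 4, 6, 8, 18, 20, 18, 8, 10, 4, 6, 8, 18, 16, 14, 12, 10, 8, 6, 4, 2, 0] .nil (.cons [1, 14, 10, 12, 8, 10, 4, 6, 8, 18, 20, 18, 8, 10, 4, 6, 8, 18, 16, 14, 12, 10, 8, 6, 4, 2, 0] .nil (.cons [16, 14, 10, 12, 8, 10, 4, 6, 8, 18, 20, 18, 8, 10, 4, 6, 8, 18, 16, 14, 12, 10, 8, 6, 4, 2, 0] .nil (.cons [18, 14, 10, 12, 8, 10, 4, 6, 8, 18, 20, 18, 8, 10, 4, 6, 8, 18, 16, 14, 12, 10, 8, 6, 4, 2, 0] .nil (.cons [20, 18, 10, 12, 8, 10, 4, 6, 8, 18, 20, 18, 8, 10, 4, 6, 8, 18, 16, 14, 12, 10, 8, 6, 4, 2, 0] .nil (.cons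 [1, 16, 14, 12, 8, 10, 4, 6, 8, 18, 20, 18, 8, 10, 4, 6, 8, 18, 16, 14, 12, 10, 8, 6, 4, 2, 0] .nil (.cons [1, 18, 14, 12, 8, 10, 4, 6, 8, 18, 20, 18, 8, 10, 4, 6, 8, 18, 16, 14, 12, 10, 8, 6, 4, 2, 0] .nil (.cons [8, 18, 14, 10, 12, 8, 10, 6, 8, 18, 20, 18, 8, 10, 4, 6, 8, 18, 16, 14, 12, 10, 8, 6, 4, 2, 0] .nil (.cons [14, 1, 10, 12, 8, 10, 2, 4, 6, 8, 18, 20, 8, 10, 4, 6, 8, 18, 16, 14, 12, 10, 8, 6, 4, 2, 0] .nil (.cons [18, 1, 10, 12, 8, 10, 2, 4, 6, 8, 18, 20, 8, 10, 4, 6, 8, 18, 16, 14, 12, 10, 8, 6, 4, 2, 0] (.cons [18, 10, 16, 8, 6, 4, 2, 0, 14, 10, 12, 8, 10, 6, 8, 4, 6, 16, 18, 6, 4, 2, 8, 6, 4, 16, 6, 8, 10, 12, 14] (.cons [14, 10, 0, 8] (.cons [1, 2, 0, 3, 0, 2, 0, 3, 3, 0] .nil .nil) .nil) .nil) (.cons [14,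 12, 4, 6, 8, 10, 2, 4, 6, 8, 18, 20, 8, 10, 4, 6, 8, 18, 16, 14, 12, 10, 8, 6, 4, 2, 0] .nil (.cons [8, 10, 12, 6, 8, 10, 2, 4, 6, 8, 18, 20, 8, 10, 4, 6, 8, 18, 16, 14, 12, 10, 8, 6, 4, 2, 0] .nil (.cons [14, 10, 12, 6, 8, 10, 2, 4, 6, 8, 18, 20, 8, 10, 4, 6, 8, 18, 16, 14, 12, 10, 8, 6, 4, 2, 0] .nil (.cons [1, 14, 10, 12, 8, 10, 2, 4, 6, 8, 18, 20, 8, 10, 4, 6, 8, 18, 16, 14, 12, 10, 8, 6, 4, 2, 0] .nil (.cons [12, 14, 10, 12, 8, 10, 2, 4, 6, 8, 18, 20, 8, 10, 4, 6, 8, 18, 16, 14, 12, 10, 8, 6, 4, 2, 0] .nil (.cons [16, 14, 10, 12, 8, 10, 2, 4, 6, 8, 18, 20, 8, 10, 4, 6, 8, 18, 16, 14, 12, 10, 8, 6, 4, 2, 0] .nil (.cons [18, 14, 10, 12, 8, 10, 2, 4, 6, 8, 18, 20, 8, 10, 4, 6, 8, 18, 16, 14, 12, 10, 8, 6, 4, 2, 0] .nil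 (.cons [1, 18, 10, 12, 8, 10, 2, 4, 6, 8, 18, 20, 8, 10, 4, 6, 8, 18, 16, 14, 12, 10, 8, 6, 4, 2, 0] .nil (.cons [8, 18, 10, 12, 8, 10, 2, 4, 6, 8, 18, 20, 8, 10, 4, 6, 8, 18, 16, 14, 12, 10, 8, 6, 4, 2, 0] .nil (.cons [20, 18, 10, 12, 8, 10, 2, 4, 6, 8, 18, 20, 8, 10, 4, 6, 8, 18, 16, 14, 12, 10, 8, 6, 4, 2, 0] .nil (.cons [12, 14, 10, 12, 6, 8, 10, 4, 6, 8, 18, 20, 8, 10, 4, 6, 8, 18, 16, 14, 12, 10, 8, 6, 4, 2, 0] .nil (.cons [16, 14, 10, 12, 6, 8, 10, 4, 6, 8, 18, 20, 8, 10, 4, 6, 8, 18, 16, 14, 12, 10, 8, 6, 4, 2, 0] .nil (.cons [1, 18, 10, 12, 6, 8, 10, 4, 6, 8, 18, 20, 8, 10, 4, 6, 8, 18, 16, 14, 12, 10, 8, 6, 4, 2, 0] .nil (.cons [8, 18, 10, 12, 6, 8, 10, 4, 6, 8, 18, 20, 8, 10, 4, 6, 8, 18, 16, 14, 12, 10, 8, 6,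 4, 2, 0] .nil (.cons [20, 18, 10, 12, 6, 8, 10, 4, 6, 8, 18, 20, 8, 10, 4, 6, 8, 18, 16, 14, 12, 10, 8, 6, 4, 2, 0] .nil (.cons [1, 16, 14, 12, 6, 8, 10, 4, 6, 8, 18, 20, 8, 10, 4, 6, 8, 18, 16, 14, 12, 10, 8, 6, 4, 2, 0] .nil (.cons [1, 18, 14, 12, 6, 8, 10, 4, 6, 8, 18, 20, 8, 10, 4, 6, 8, 18, 16, 14, 12, 10, 8, 6, 4, 2, 0] .nil (.cons [1, 20, 18, 12, 6, 8, 10, 4, 6, 8, 18, 20, 8, 10, 4, 6, 8, 18, 16, 14, 12, 10, 8, 6, 4, 2, 0] (.cons [8, 2, 4, 6, 16, 18, 12, 10, 8, 10, 6, 4, 2, 16, 8, 6, 4, 14, 12, 10, 8, 6, 16, 18, 4, 2, 0, 12, 10, 6, 4, 2, 8, 6, 4, 16, 6, 8, 10, 12, 14] (.cons [14, 12, 8, 6, 2, 0, 4, 2, 6, 4, 8] (.cons [2, 0, 0, 2, 0, 3, 0, 0] .nil .nil) .nil) .nil) (.cons [16, 12, 14, 10, 12, 8, 10, 4, 6, 8, 18, 20,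 8, 10, 4, 6, 8, 18, 16, 14, 12, 10, 8, 6, 4, 2, 0] .nil (.cons [18, 12, 14, 10, 12, 8, 10, 4, 6, 8, 18, 20, 8, 10, 4, 6, 8, 18, 16, 14, 12, 10, 8, 6, 4, 2, 0] .nil (.cons [1, 16, 14, 10, 12, 8, 10, 4, 6, 8, 18, 20, 8, 10, 4, 6, 8, 18, 16, 14, 12, 10, 8, 6, 4, 2, 0] .nil (.cons [8, 18, 14, 10, 12, 8, 10, 4, 6, 8, 18, 20, 8, 10, 4, 6, 8, 18, 16, 14, 12, 10, 8, 6, 4, 2, 0] .nil (.cons [1, 8, 18, 10, 12, 8, 10, 4, 6, 8, 18, 20, 8, 10, 4, 6, 8, 18, 16, 14, 12, 10, 8, 6, 4, 2, 0] .nil (.cons [20, 8, 18, 10, 12, 8, 10, 4, 6, 8, 18, 20, 8, 10, 4, 6, 8, 18, 16, 14, 12, 10, 8, 6, 4, 2, 0] .nil (.cons [8, 18, 12, 14, 10, 12, 8, 10, 6, 8, 18, 20, 8, 10, 4, 6, 8, 18, 16, 14, 12, 10, 8, 6, 4, 2, 0] .nil .nil)))))))))))))))))))))))))))))))))))))))))))))))))))))))))))))))))))))))))))))))))))))))))))))))))))))))))))))))))))))))))))))))))))))))))))))))))))))))))))))))))))))))))))))))))))))))))))))))))))))))))))))))))))))))))))))))))))))))))))))))))))))))))))))))))))))))))))))))))))))))))))))))))))))))))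 (⟨cu_l0.b, cu_l0.S, [], cu_R42, 0⟩ :: cu_tl) (0 :: cu_lk) Pd.nil 0 = true := by decide +kernel
theorem cu_r43 : cu_S.run (.cons [6, 8, 18, 14, 10, 12, 8, 10, 6, 8, 18, 20, 8, 10, 4, 6, 8, 18, 16, 14, 12, 10, 8, 6, 4, 2, 0] .nil (.cons [1, 6, 8, 18, 10, 12, 8, 10, 6, 8, 18, 20, 8, 10, 4, 6, 8, 18, 16, 14, 12, 10, 8, 6, 4, 2, 0] (.cons [2, 8, 6, 16, 18, 8, 4, 6, 16, 8, 10, 4, 6, 8, 2, 4, 6, 16, 18, 2, 0, 14, 12, 10, 16, 6, 4, 2, 8, 6, 4, 16, 6, 8, 10, 12, 14] (.cons [12, 8, 10, 6, 8, 14, 16, 6, 4, 8, 6, 14] (.cons [1, 3, 3, 1, 3, 0, 3, 0, 0] .nil .nil) .nil) .nil) (.cons [4, 6, 8, 18, 10, 12, 8, 10, 6, 8, 18, 20, 8, 10, 4, 6, 8, 18, 16, 14, 12, 10, 8, 6, 4, 2, 0] .nil (.cons [20, 6, 8, 18, 10, 12, 8, 10, 6, 8, 18, 20, 8,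 10, 4, 6, 8, 18, 16, 14, 12, 10, 8, 6, 4, 2, 0] .nil (.cons [1, 20, 8, 18, 10, 12, 8, 10, 6, 8, 18, 20, 8, 10, 4, 6, 8, 18, 16, 14, 12, 10, 8, 6, 4, 2, 0] .nil (.cons [18, 20, 8, 18, 10, 12, 8, 10, 6, 8, 18, 20, 8, 10, 4, 6, 8, 18, 16, 14, 12, 10, 8, 6, 4, 2, 0] .nil (.cons [10, 1, 12, 8, 10, 2, 4, 6, 8, 18, 20, 14, 12, 10, 4, 6, 8, 18, 16, 14, 12, 10, 8, 6, 4, 2, 0] .nil (.cons [16, 1, 14, 12, 10, 2, 4, 6, 8, 18, 20, 14, 12, 10, 4, 6, 8, 18, 16, 14, 12, 10, 8, 6, 4, 2, 0] .nil (.cons [12, 4, 6, 8, 10, 2, 4, 6, 8, 18, 20, 14, 12, 10, 4, 6, 8, 18, 16, 14, 12, 10, 8, 6, 4, 2, 0] .nil (.cons [1, 12, 6, 8, 10, 2, 4, 6, 8, 18, 20, 14, 12, 10, 4, 6, 8, 18, 16, 14, 12, 10, 8, 6, 4, 2, 0] .nil (.cons [1, 18, 6, 8, 10, 2, 4, 6,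 8, 18, 20, 14, 12, 10, 4, 6, 8, 18, 16, 14, 12, 10, 8, 6, 4, 2, 0] .nil (.cons [20, 18, 6, 8, 10, 2, 4, 6, 8, 18, 20, 14, 12, 10, 4, 6, 8, 18, 16, 14, 12, 10, 8, 6, 4, 2, 0] .nil (.cons [1, 10, 12, 8, 10, 2, 4, 6, 8, 18, 20, 14, 12, 10, 4, 6, 8, 18, 16, 14, 12, 10, 8, 6, 4, 2, 0] .nil (.cons [18, 10, 12, 8, 10, 2, 4, 6, 8, 18, 20, 14, 12, 10, 4, 6, 8, 18, 16, 14, 12, 10, 8, 6, 4, 2, 0] (.cons [16, 10, 12, 6, 8, 10, 2, 4, 6, 8, 0, 2, 4, 6, 16, 18, 4, 2, 0, 8, 10, 6, 4, 2, 8, 6, 4, 16, 6, 8, 10, 12, 14] (.cons [8, 16, 4, 10, 14, 6, 4, 8, 6, 16] (.cons [1, 1, 2, 0, 0, 0, 2, 1, 3, 1] .nil .nil) .nil) .nil) (.cons [18, 14, 12, 8, 10, 2, 4, 6, 8, 18, 20, 14, 12, 10, 4, 6, 8, 18, 16, 14, 12, 10, 8, 6, 4, 2, 0] .nil (.cons [1,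 18, 12, 8, 10, 2, 4, 6, 8, 18, 20, 14, 12, 10, 4, 6, 8, 18, 16, 14, 12, 10, 8, 6, 4, 2, 0] .nil (.cons [1, 20, 18, 8, 10, 2, 4, 6, 8, 18, 20, 14, 12, 10, 4, 6, 8, 18, 16, 14, 12, 10, 8, 6, 4, 2, 0] .nil (.cons [20, 18, 12, 6, 8, 10, 4, 6, 8, 18, 20, 14, 12, 10, 4, 6, 8, 18, 16, 14, 12, 10, 8, 6, 4, 2, 0] .nil (.cons [1, 20, 18, 6, 8, 10, 4, 6, 8, 18, 20, 14, 12, 10, 4, 6, 8, 18, 16, 14, 12, 10, 8, 6, 4, 2, 0] .nil (.cons [12, 14, 10, 12, 8, 10, 4, 6, 8, 18, 20, 14, 12, 10, 4, 6, 8, 18, 16, 14, 12, 10, 8, 6, 4, 2, 0] .nil (.cons [18, 14, 10, 12, 8, 10, 4, 6, 8, 18, 20, 14, 12, 10, 4, 6, 8, 18, 16, 14, 12, 10, 8, 6, 4, 2, 0] .nil (.cons [8, 18, 10, 12, 8, 10, 4, 6, 8, 18, 20, 14, 12, 10, 4, 6, 8, 18, 16, 14, 12, 10, 8, 6,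 4, 2, 0] (.cons [16, 6, 8, 4, 6, 16, 18, 4, 2, 0, 14, 10, 8, 12, 10, 6, 4, 2, 8, 6, 4, 16, 6, 8, 10, 12, 14] (.cons [14, 6, 12, 10, 14, 0, 2, 4, 6, 8] (.cons [3, 1, 1, 1, 2, 2, 1, 1, 1, 1] (.cons [0, 0, 2, 0, 3, 1, 3, 3, 1, 1] .nil .nil) .nil) .nil) .nil) (.cons [20, 18, 10, 12, 8, 10, 4, 6, 8, 18, 20, 14, 12, 10, 4, 6, 8, 18, 16, 14, 12, 10, 8, 6, 4, 2, 0] .nil (.cons [18, 16, 14, 12, 8, 10, 4, 6, 8, 18, 20, 14, 12, 10, 4, 6, 8, 18, 16, 14, 12, 10, 8, 6, 4, 2, 0] .nil (.cons [1, 18, 14, 12, 8, 10, 4, 6, 8, 18, 20, 14, 12, 10, 4, 6, 8, 18, 16, 14, 12, 10, 8, 6, 4, 2, 0] .nil (.cons [18, 12, 14, 10, 12, 8, 10, 6, 8, 18, 20, 14, 12, 10, 4, 6, 8, 18, 16, 14, 12, 10, 8, 6, 4, 2, 0] .nil (.cons [1, 16, 14, 10, 12, 8, 10, 6,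 8, 18, 20, 14, 12, 10, 4, 6, 8, 18, 16, 14, 12, 10, 8, 6, 4, 2, 0] .nil (.cons [1, 18, 14, 10, 12, 8, 10, 6, 8, 18, 20, 14, 12, 10, 4, 6, 8, 18, 16, 14, 12, 10, 8, 6, 4, 2, 0] .nil (.cons [8, 18, 14, 10, 12, 8, 10, 6, 8, 18, 20, 14, 12, 10, 4, 6, 8, 18, 16, 14, 12, 10, 8, 6, 4, 2, 0] (.cons [10, 8, 12, 10, 4, 6, 16, 6, 4, 2, 8, 6, 4, 0, 2, 12, 4, 6, 10, 8, 16, 18, 6, 4, 16, 6, 8, 10, 12, 14] (.cons [6, 12, 14, 4, 2, 6, 8, 10] (.cons [0, 3, 3, 0, 3, 1, 1, 3, 1, 2] .nil .nil) .nil) .nil) (.cons [20, 8, 18, 10, 12, 8, 10, 6, 8, 18, 20, 14, 12, 10, 4, 6, 8, 18, 16, 14, 12, 10, 8, 6, 4, 2, 0] (.cons [12, 10, 8, 0, 2, 4, 6, 16, 18, 6, 8, 4, 6, 16, 4, 10, 8, 6, 4, 2, 0, 14, 12, 10, 8, 2, 4, 6, 16, 18, 8, 10, 6, 4, 2, 8, 6, 4,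 16, 6, 8, 10, 12, 14] (.cons [14, 6, 12, 4, 6, 8, 16] (.cons [3, 0, 3, 1, 2, 0, 0, 3, 1] .nil .nil) .nil) .nil) (.cons [1, 20, 18, 10, 12, 8, 10, 6, 8, 18, 20, 14, 12, 10, 4, 6, 8, 18, 16, 14, 12, 10, 8, 6, 4, 2, 0] .nil (.cons [20, 18, 16, 14, 12, 8, 10, 6, 8, 18, 20, 14, 12, 10, 4, 6, 8, 18, 16, 14, 12, 10, 8, 6, 4, 2, 0] .nil (.cons [1, 20, 18, 14, 12, 8, 10, 6, 8, 18, 20, 14, 12, 10, 4, 6, 8, 18, 16, 14, 12, 10, 8, 6, 4, 2, 0] .nil (.cons [2, 1, 4, 6, 8, 10, 2, 4, 6, 8, 18, 20, 12, 10, 4, 6, 8, 18, 16, 14, 12, 10, 8, 6, 4, 2, 0] .nil (.cons [10, 1, 12, 6, 8, 10, 2, 4, 6, 8, 18, 20, 12, 10, 4, 6, 8, 18, 16, 14, 12, 10, 8, 6, 4, 2, 0] (.cons [16, 12, 8, 10, 4, 6, 8, 0, 2, 4, 6, 16, 18, 4, 2, 0, 10, 16, 6, 4, 2, 8, 6,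 4, 16, 6, 8, 10, 12, 14] .nil .nil) (.cons [14, 1, 12, 6, 8, 10, 2, 4, 6, 8, 18, 20, 12, 10, 4, 6, 8, 18, 16, 14, 12, 10, 8, 6, 4, 2, 0] .nil (.cons [18, 1, 12, 6, 8, 10, 2, 4, 6, 8, 18, 20, 12, 10, 4, 6, 8, 18, 16, 14, 12, 10, 8, 6, 4, 2, 0] .nil (.cons [20, 1, 18, 6, 8, 10, 2, 4, 6, 8, 18, 20, 12, 10, 4, 6, 8, 18, 16, 14, 12, 10, 8, 6, 4, 2, 0] .nil (.cons [18, 1, 10, 12, 8, 10, 2, 4, 6, 8, 18, 20, 12, 10, 4, 6, 8, 18, 16, 14, 12, 10, 8, 6, 4, 2, 0] .nil (.cons [1, 12, 4, 6, 8, 10, 2, 4, 6, 8, 18, 20, 12, 10, 4, 6, 8, 18, 16, 14, 12, 10, 8, 6, 4, 2, 0] .nil (.cons [14, 12, 4, 6, 8, 10, 2, 4, 6, 8, 18, 20, 12, 10, 4, 6, 8, 18, 16, 14, 12, 10, 8, 6, 4, 2, 0] .nil (.cons [8, 18, 4, 6, 8, 10, 2, 4, 6, 8, 18, 20, 12, 10, 4,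 6, 8, 18, 16, 14, 12, 10, 8, 6, 4, 2, 0] .nil (.cons [20, 18, 4, 6, 8, 10, 2, 4, 6, 8, 18, 20, 12, 10, 4, 6, 8, 18, 16, 14, 12, 10, 8, 6, 4, 2, 0] .nil (.cons [1, 14, 12, 6, 8, 10, 2, 4, 6, 8, 18, 20, 12, 10, 4, 6, 8, 18, 16, 14, 12, 10, 8, 6, 4, 2, 0] (.cons [16, 6, 8, 4, 6, 16, 18, 10, 8, 6, 16, 10, 12, 6, 8, 10, 4, 6, 8, 6, 16, 4, 6, 2, 0, 4, 2, 12, 8, 6, 10, 8, 16, 18, 6, 4, 16, 6, 8, 10, 12, 14] .nil .nil) (.cons [16, 14, 12, 6, 8, 10, 2, 4, 6, 8, 18, 20, 12, 10, 4, 6, 8, 18, 16, 14, 12, 10, 8, 6, 4, 2, 0] .nil (.cons [18, 14, 12, 6, 8, 10, 2, 4, 6, 8, 18, 20, 12, 10, 4, 6, 8, 18, 16, 14, 12, 10, 8, 6, 4, 2, 0] .nil (.cons [1, 18, 12, 6, 8, 10, 2, 4, 6, 8, 18, 20, 12, 10, 4, 6, 8, 18, 16, 14, 12, 10, 8, 6, 4, 2, 0]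 .nil (.cons [8, 18, 12, 6, 8, 10, 2, 4, 6, 8, 18, 20, 12, 10, 4, 6, 8, 18, 16, 14, 12, 10, 8, 6, 4, 2, 0] .nil (.cons [20, 8, 18, 6, 8, 10, 2, 4, 6, 8, 18, 20, 12, 10, 4, 6, 8, 18, 16, 14, 12, 10, 8, 6, 4, 2, 0] .nil (.cons [18, 14, 10, 12, 8, 10, 2, 4, 6, 8, 18, 20, 12, 10, 4, 6, 8, 18, 16, 14, 12, 10, 8, 6, 4, 2, 0] .nil (.cons [8, 18, 10, 12, 8, 10, 2, 4, 6, 8, 18, 20, 12, 10, 4, 6, 8, 18, 16, 14, 12, 10, 8, 6, 4, 2, 0] (.cons [16, 2, 4, 6, 8, 0, 2, 4, 6, 16, 18, 10, 6, 8, 10, 16, 6, 4, 2, 16, 8, 6, 4, 14, 12, 10, 8, 6, 16, 18, 4, 2, 0, 12, 10, 6, 4, 2, 8, 6, 4, 16, 6, 8, 10, 12, 14] (.cons [6, 8, 4, 2, 6, 4, 8, 14, 6, 8, 10, 16] (.cons [0, 2, 1, 1, 3, 0, 2] (.cons [0, 3, 1, 2, 2, 1, 1, 2, 2] .nil .nil) .nil) .nil) .nil)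 (.cons [1, 16, 14, 12, 8, 10, 2, 4, 6, 8, 18, 20, 12, 10, 4, 6, 8, 18, 16, 14, 12, 10, 8, 6, 4, 2, 0] .nil (.cons [18, 16, 14, 12, 8, 10, 2, 4, 6, 8, 18, 20, 12, 10, 4, 6, 8, 18, 16, 14, 12, 10, 8, 6, 4, 2, 0] (.cons [4, 6, 16, 18, 6, 4, 2, 0, 12, 10, 16, 6, 4, 2, 8, 6, 4, 16, 6, 8, 10, 12, 14] (.cons [8, 10, 6, 8, 4, 6, 2, 4, 16, 6, 14, 8] (.cons [2, 0, 3, 3, 1, 1, 1, 2] (.cons [1, 2, 2, 0, 3, 0, 3, 0] .nil .nil) .nil) .nil) .nil) (.cons [1, 14, 10, 12, 6, 8, 10, 4, 6, 8, 18, 20, 12, 10, 4, 6, 8, 18, 16, 14, 12, 10, 8, 6, 4, 2, 0] (.cons [6, 16, 18, 8, 6, 16, 12, 8, 10, 4, 6, 8, 2, 4, 6, 16, 18, 4, 2, 0, 8, 12, 10, 6, 4, 2, 8, 6, 4, 16, 6, 8, 10, 12, 14] (.cons [10, 12, 2, 4, 0, 2, 4, 14, 6, 8, 10] (.cons [3, 0, 0, 2,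 0, 3, 1] (.cons [2, 1, 3, 1, 3, 1, 2, 2, 0, 3] .nil .nil) .nil) .nil) .nil) (.cons [1, 16, 14, 12, 6, 8, 10, 4, 6, 8, 18, 20, 12, 10, 4, 6, 8, 18, 16, 14, 12, 10, 8, 6, 4, 2, 0] .nil (.cons [18, 16, 14, 12, 6, 8, 10, 4, 6, 8, 18, 20, 12, 10, 4, 6, 8, 18, 16, 14, 12, 10, 8, 6, 4, 2, 0] .nil (.cons [1, 18, 14, 12, 6, 8, 10, 4, 6, 8, 18, 20, 12, 10, 4, 6, 8, 18, 16, 14, 12, 10, 8, 6, 4, 2, 0] .nil (.cons [1, 8, 18, 12, 6, 8, 10, 4, 6, 8, 18, 20, 12, 10, 4, 6, 8, 18, 16, 14, 12, 10, 8, 6, 4, 2, 0] .nil (.cons [20, 8, 18, 12, 6, 8, 10, 4, 6, 8, 18, 20, 12, 10, 4, 6, 8, 18, 16, 14, 12, 10, 8, 6, 4, 2, 0] .nil (.cons [1, 10, 8, 18, 6, 8, 10, 4, 6, 8, 18, 20, 12, 10, 4, 6, 8, 18, 16, 14, 12, 10, 8, 6, 4, 2, 0] .nil (.cons [18,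 20, 8, 18, 6, 8, 10, 4, 6, 8, 18, 20, 12, 10, 4, 6, 8, 18, 16, 14, 12, 10, 8, 6, 4, 2, 0] .nil (.cons [1, 12, 14, 10, 12, 8, 10, 4, 6, 8, 18, 20, 12, 10, 4, 6, 8, 18, 16, 14, 12, 10, 8, 6, 4, 2, 0] .nil (.cons [8, 18, 14, 10, 12, 8, 10, 4, 6, 8, 18, 20, 12, 10, 4, 6, 8, 18, 16, 14, 12, 10, 8, 6, 4, 2, 0] .nil (.cons [20, 18, 14, 10, 12, 8, 10, 4, 6, 8, 18, 20, 12, 10, 4, 6, 8, 18, 16, 14, 12, 10, 8, 6, 4, 2, 0] .nil (.cons [6, 8, 18, 10, 12, 8, 10, 4, 6, 8, 18, 20, 12, 10, 4, 6, 8, 18, 16, 14, 12, 10, 8, 6, 4, 2, 0] (.cons [8, 4, 6, 16, 18, 6, 8, 4, 6, 16, 10, 12, 8, 10, 4, 6, 8, 2, 4, 6, 16, 18, 4, 2, 0, 12, 10, 16, 6, 4, 2, 8, 6, 4, 16, 6, 8, 10, 12, 14] (.cons [0, 2, 4, 10, 6, 14, 8, 10] (.cons [2, 0, 3, 3, 0, 2, 2,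 1, 3] .nil .nil) .nil) .nil) (.cons [20, 8, 18, 10, 12, 8, 10, 4, 6, 8, 18, 20, 12, 10, 4, 6, 8, 18, 16, 14, 12, 10, 8, 6, 4, 2, 0] .nil (.cons [1, 18, 16, 14, 12, 8, 10, 4, 6, 8, 18, 20, 12, 10, 4, 6, 8, 18, 16, 14, 12, 10, 8, 6, 4, 2, 0] .nil (.cons [20, 18, 16, 14, 12, 8, 10, 4, 6, 8, 18, 20, 12, 10, 4, 6, 8, 18, 16, 14, 12, 10, 8, 6, 4, 2, 0] .nil (.cons [20, 18, 12, 14, 10, 12, 8, 10, 6, 8, 18, 20, 12, 10, 4, 6, 8, 18, 16, 14, 12, 10, 8, 6, 4, 2, 0] .nil (.cons [6, 8, 18, 14, 10, 12, 8, 10, 6, 8, 18, 20, 12, 10, 4, 6, 8, 18, 16, 14, 12, 10, 8, 6, 4, 2, 0] .nil (.cons [1, 20, 18, 14, 10, 12, 8, 10, 6, 8, 18, 20, 12, 10, 4, 6, 8, 18, 16, 14, 12, 10, 8, 6, 4, 2, 0] .nil (.cons [4, 6, 8, 18, 10, 12, 8, 10, 6, 8, 18, 20,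 12, 10, 4, 6, 8, 18, 16, 14, 12, 10, 8, 6, 4, 2, 0] .nil (.cons [1, 20, 8, 18, 10, 12, 8, 10, 6, 8, 18, 20, 12, 10, 4, 6, 8, 18, 16, 14, 12, 10, 8, 6, 4, 2, 0] .nil (.cons [12, 1, 14, 10, 12, 8, 10, 2, 4, 6, 8, 18, 20, 10, 4, 6, 8, 18, 16, 14, 12, 10, 8, 6, 4, 2, 0] .nil (.cons [18, 1, 14, 10, 12, 8, 10, 2, 4, 6, 8, 18, 20, 10, 4, 6, 8, 18, 16, 14, 12, 10, 8, 6, 4, 2, 0] .nil (.cons [8, 1, 18, 10, 12, 8, 10, 2, 4, 6, 8, 18, 20, 10, 4, 6, 8, 18, 16, 14, 12, 10, 8, 6, 4, 2, 0] .nil (.cons [18, 12, 14, 10, 12, 8, 10, 2, 4, 6, 8, 18, 20, 10, 4, 6, 8, 18, 16, 14, 12, 10, 8, 6, 4, 2, 0] .nil (.cons [1, 8, 18, 10, 12, 8, 10, 2, 4, 6, 8, 18, 20, 10, 4, 6, 8, 18, 16, 14, 12, 10, 8, 6, 4, 2, 0] (.cons [8, 10, 6, 8, 4, 6, 16, 18,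 2, 0, 6, 4, 2, 8, 6, 4, 16, 6, 8, 10, 12, 14] (.cons [4, 6, 14, 0, 2, 6, 4] .nil .nil) .nil) (.cons [1, 20, 18, 10, 12, 8, 10, 2, 4, 6, 8, 18, 20, 10, 4, 6, 8, 18, 16, 14, 12, 10, 8, 6, 4, 2, 0] .nil (.cons [1, 18, 12, 14, 10, 12, 8, 10, 4, 6, 8, 18, 20, 10, 4, 6, 8, 18, 16, 14, 12, 10, 8, 6, 4, 2, 0] (.cons [8, 6, 16, 18, 4, 6, 16, 8, 10, 4, 6, 8, 2, 4, 6, 16, 18, 2, 0, 14, 12, 10, 16, 6, 4, 2, 8, 6, 4, 16, 6, 8, 10, 12, 14] (.cons [8, 2, 0, 2, 10, 4, 6, 14, 8, 6] (.cons [2, 0, 2, 2, 0, 2, 1] (.cons [2, 0, 0, 2, 2, 1, 2, 1, 1] .nil .nil) .nil) .nil) .nil) (.cons [8, 18, 12, 14, 10, 12, 8, 10, 4, 6, 8, 18, 20, 10, 4, 6, 8, 18, 16, 14, 12, 10, 8, 6, 4, 2, 0] .nil (.cons [1, 8, 18, 14, 10, 12, 8, 10, 4, 6, 8, 18, 20, 10,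 4, 6, 8, 18, 16, 14, 12, 10, 8, 6, 4, 2, 0] .nil (.cons [6, 8, 18, 14, 10, 12, 8, 10, 4, 6, 8, 18, 20, 10, 4, 6, 8, 18, 16, 14, 12, 10, 8, 6, 4, 2, 0] .nil (.cons [1, 6, 8, 18, 10, 12, 8, 10, 4, 6, 8, 18, 20, 10, 4, 6, 8, 18, 16, 14, 12, 10, 8, 6, 4, 2, 0] .nil (.cons [18, 20, 8, 18, 10, 12, 8, 10, 4, 6, 8, 18, 20, 10, 4, 6, 8, 18, 16, 14, 12, 10, 8, 6, 4, 2, 0] .nil (.cons [6, 8, 18, 12, 14, 10, 12, 8, 10, 6, 8, 18, 20, 10, 4, 6, 8, 18, 16, 14, 12, 10, 8, 6, 4, 2, 0] .nil (.cons [10, 8, 18, 12, 14, 10, 12, 8, 10, 6, 8, 18, 20, 10, 4, 6, 8, 18, 16, 14, 12, 10, 8, 6, 4, 2, 0] .nil (.cons [1, 6, 8, 18, 14, 10, 12, 8, 10, 6, 8, 18, 20, 10, 4, 6, 8, 18, 16, 14, 12, 10, 8, 6, 4, 2, 0] .nil (.cons [4, 6, 8, 18, 14, 10, 12, 8,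 10, 6, 8, 18, 20, 10, 4, 6, 8, 18, 16, 14, 12, 10, 8, 6, 4, 2, 0] .nil (.cons [2, 4, 6, 8, 18, 10, 12, 8, 10, 6, 8, 18, 20, 10, 4, 6, 8, 18, 16, 14, 12, 10, 8, 6, 4, 2, 0] .nil (.cons [18, 20, 6, 8, 18, 10, 12, 8, 10, 6, 8, 18, 20, 10, 4, 6, 8, 18, 16, 14, 12, 10, 8, 6, 4, 2, 0] .nil (.cons [4, 6, 8, 18, 12, 14, 10, 12, 8, 10, 6, 8, 18, 20, 4, 6, 8, 18, 16, 14, 12, 10, 8, 6, 4, 2, 0] .nil (.cons [10, 6, 8, 18, 12, 14, 10, 12, 8, 10, 6, 8, 18, 20, 4, 6, 8, 18, 16, 14, 12, 10, 8, 6, 4, 2, 0] .nil (.cons [1, 10, 8, 18, 12, 14, 10, 12, 8, 10, 6, 8, 18, 20, 4, 6, 8, 18, 16, 14, 12, 10, 8, 6, 4, 2, 0] .nil (.cons [1, 2, 4, 6, 8, 18, 10, 12, 8, 10, 6, 8, 18, 20, 4, 6, 8, 18, 16, 14, 12, 10, 8, 6, 4, 2, 0] .nil (.cons [16, 14,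 12, 10, 8, 18, 20, 8, 18, 12, 14, 10, 12, 8, 10, 6, 8, 18, 16, 14, 12, 10, 8, 6, 4, 2, 0] .nil (.cons [1, 8, 10, 4, 6, 8, 18, 20, 18, 12, 14, 10, 12, 8, 10, 6, 8, 18, 16, 14, 12, 10, 8, 6, 4, 2, 0] .nil (.cons [12, 8, 10, 4, 6, 8, 18, 20, 18, 12, 14, 10, 12, 8, 10, 6, 8, 18, 16, 14, 12, 10, 8, 6, 4, 2, 0] .nil (.cons [1, 12, 8, 10, 6, 8, 18, 20, 18, 12, 14, 10, 12, 8, 10, 6, 8, 18, 16, 14, 12, 10, 8, 6, 4, 2, 0] .nil (.cons [10, 12, 8, 10, 6, 8, 18, 20, 18, 12, 14, 10, 12, 8, 10, 6, 8, 18, 16, 14, 12, 10, 8, 6, 4, 2, 0] .nil (.cons [14, 12, 8, 10, 6, 8, 18, 20, 18, 12, 14, 10, 12, 8, 10, 6, 8, 18, 16, 14, 12, 10, 8, 6, 4, 2, 0] .nil (.cons [12, 1, 10, 2, 4, 6, 8, 18, 20, 12, 14, 10, 12, 8, 10, 6, 8, 18, 16, 14, 12, 10,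 8, 6, 4, 2, 0] (.cons [10, 8, 6, 16, 12, 8, 10, 6, 4, 2, 8, 6, 4, 0, 2, 12, 4, 6, 10, 8, 16, 18, 6, 4, 16, 6, 8, 10, 12, 14] (.cons [10, 12, 2, 4, 2, 0, 2, 4, 16, 14, 6, 8, 10] (.cons [3, 0, 0, 2] (.cons [0, 0, 2, 2, 1, 1, 3] .nil .nil) .nil) .nil) .nil) (.cons [6, 8, 10, 2, 4, 6, 8, 18, 20, 12, 14, 10, 12, 8, 10, 6, 8, 18, 16, 14, 12, 10, 8, 6, 4, 2, 0] .nil (.cons [1, 6, 8, 10, 4, 6, 8, 18, 20, 12, 14, 10, 12, 8, 10, 6, 8, 18, 16, 14, 12, 10, 8, 6, 4, 2, 0] .nil (.cons [12, 6, 8, 10, 4, 6, 8, 18, 20, 12, 14, 10, 12, 8, 10, 6, 8, 18, 16, 14, 12, 10, 8, 6, 4, 2, 0] .nil (.cons [1, 18, 8, 10, 4, 6, 8, 18, 20, 12, 14, 10, 12, 8, 10, 6, 8, 18, 16, 14, 12, 10, 8, 6, 4, 2, 0] .nil (.cons [16, 14, 12, 10, 4, 6, 8, 18, 20, 12,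 14, 10, 12, 8, 10, 6, 8, 18, 16, 14, 12, 10, 8, 6, 4, 2, 0] .nil (.cons [18, 10, 12, 8, 10, 6, 8, 18, 20, 12, 14, 10, 12, 8, 10, 6, 8, 18, 16, 14, 12, 10, 8, 6, 4, 2, 0] .nil (.cons [1, 14, 12, 8, 10, 6, 8, 18, 20, 12, 14, 10, 12, 8, 10, 6, 8, 18, 16, 14, 12, 10, 8, 6, 4, 2, 0] .nil (.cons [16, 14, 12, 8, 10, 6, 8, 18, 20, 12, 14, 10, 12, 8, 10, 6, 8, 18, 16, 14, 12, 10, 8, 6, 4, 2, 0] .nil (.cons [1, 18, 12, 8, 10, 6, 8, 18, 20, 12, 14, 10, 12, 8, 10, 6, 8, 18, 16, 14, 12, 10, 8, 6, 4, 2, 0] (.cons [16, 18, 8, 6, 16, 8, 10, 4, 6, 8, 0, 2, 4, 6, 16, 18, 2, 0, 12, 10, 16, 6, 4, 2, 8, 6, 4, 16, 6, 8, 10, 12, 14] (.cons [10, 8, 6, 4, 14, 10, 0, 8, 16] (.cons [3, 0, 2, 0, 0, 3, 1, 3, 1, 1] (.cons [1, 3, 0, 0, 3, 1, 3, 0, 3]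 .nil .nil) .nil) .nil) .nil) (.cons [1, 16, 14, 12, 10, 6, 8, 18, 20, 12, 14, 10, 12, 8, 10, 6, 8, 18, 16, 14, 12, 10, 8, 6, 4, 2, 0] .nil (.cons [6, 8, 10, 2, 4, 6, 8, 18, 20, 18, 14, 10, 12, 8, 10, 6, 8, 18, 16, 14, 12, 10, 8, 6, 4, 2, 0] .nil (.cons [12, 8, 10, 2, 4, 6, 8, 18, 20, 18, 14, 10, 12, 8, 10, 6, 8, 18, 16, 14, 12, 10, 8, 6, 4, 2, 0] .nil (.cons [14, 12, 10, 2, 4, 6, 8, 18, 20, 18, 14, 10, 12, 8, 10, 6, 8, 18, 16, 14, 12, 10, 8, 6, 4, 2, 0] .nil (.cons [12, 6, 8, 10, 4, 6, 8, 18, 20, 18, 14, 10, 12, 8, 10, 6, 8, 18, 16, 14, 12, 10, 8, 6, 4, 2, 0] .nil (.cons [18, 6, 8, 10, 4, 6, 8, 18, 20, 18, 14, 10, 12, 8, 10, 6, 8, 18, 16, 14, 12, 10, 8, 6, 4, 2, 0] .nil (.cons [10, 12, 8, 10, 4, 6, 8, 18, 20, 18, 14, 10,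 12, 8, 10, 6, 8, 18, 16, 14, 12, 10, 8, 6, 4, 2, 0] .nil (.cons [14, 12, 8, 10, 4, 6, 8, 18, 20, 18, 14, 10, 12, 8, 10, 6, 8, 18, 16, 14, 12, 10, 8, 6, 4, 2, 0] .nil (.cons [18, 12, 8, 10, 4, 6, 8, 18, 20, 18, 14, 10, 12, 8, 10, 6, 8, 18, 16, 14, 12, 10, 8, 6, 4, 2, 0] .nil (.cons [14, 10, 12, 8, 10, 6, 8, 18, 20, 18, 14, 10, 12, 8, 10, 6, 8, 18, 16, 14, 12, 10, 8, 6, 4, 2, 0] .nil (.cons [1, 14, 12, 8, 10, 6, 8, 18, 20, 18, 14, 10, 12, 8, 10, 6, 8, 18, 16, 14, 12, 10, 8, 6, 4, 2, 0] .nil (.cons [18, 14, 12, 8, 10, 6, 8, 18, 20, 18, 14, 10, 12, 8, 10, 6, 8, 18, 16, 14, 12, 10, 8, 6, 4, 2, 0] .nil (.cons [1, 16, 14, 12, 10, 6, 8, 18, 20, 18, 14, 10, 12, 8, 10, 6, 8, 18, 16, 14, 12, 10, 8, 6, 4, 2, 0] (.cons [16, 6, 8, 10,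 4, 6, 8, 2, 4, 6, 16, 18, 2, 0, 14, 12, 10, 16, 6, 4, 2, 8, 6, 4, 16, 6, 8, 10, 12, 14] (.cons [6, 16, 4, 2, 0, 10, 8, 6, 4, 2, 14, 6, 4, 8, 16, 14, 6, 8] (.cons [1, 3, 0, 2, 0, 0] (.cons [2, 1, 2, 1, 3, 1, 3, 0, 3, 0] .nil .nil) .nil) .nil) .nil) (.cons [12, 1, 8, 10, 2, 4, 6, 8, 18, 20, 14, 10, 12, 8, 10, 6, 8, 18, 16, 14, 12, 10, 8, 6, 4, 2, 0] .nil (.cons [18, 1, 8, 10, 2, 4, 6, 8, 18, 20, 14, 10, 12, 8, 10, 6, 8, 18, 16, 14, 12, 10, 8, 6, 4, 2, 0] .nil (.cons [14, 1, 12, 10, 2, 4, 6, 8, 18, 20, 14, 10, 12, 8, 10, 6, 8, 18, 16, 14, 12, 10, 8, 6, 4, 2, 0] .nil (.cons [4, 6, 8, 10, 2, 4, 6, 8, 18, 20, 14, 10, 12, 8, 10, 6, 8, 18, 16, 14, 12, 10, 8, 6, 4, 2, 0] .nil (.cons [18, 6, 8, 10, 2, 4, 6, 8, 18, 20, 14, 10, 12,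 8, 10, 6, 8, 18, 16, 14, 12, 10, 8, 6, 4, 2, 0] .nil (.cons [1, 12, 8, 10, 2, 4, 6, 8, 18, 20, 14, 10, 12, 8, 10, 6, 8, 18, 16, 14, 12, 10, 8, 6, 4, 2, 0] .nil (.cons [14, 12, 8, 10, 2, 4, 6, 8, 18, 20, 14, 10, 12, 8, 10, 6, 8, 18, 16, 14, 12, 10, 8, 6, 4, 2, 0] (.cons [16, 18, 2, 4, 6, 16, 8, 10, 6, 8, 2, 4, 6, 16, 18, 2, 0, 12, 10, 6, 4, 2, 8, 6, 4, 16, 6, 8, 10, 12, 14] (.cons [8, 0, 2, 6, 10, 8, 6, 4, 2, 0, 14, 6, 8, 16] (.cons [1, 2, 0, 2, 0, 3, 0, 2, 1, 2] (.cons [2, 1, 2, 2, 1, 3, 0, 3] .nil .nil) .nil) .nil) .nil) (.cons [20, 18, 8, 10, 2, 4, 6, 8, 18, 20, 14, 10, 12, 8, 10, 6, 8, 18, 16, 14, 12, 10, 8, 6, 4, 2, 0] .nil (.cons [1, 14, 12, 10, 2, 4, 6, 8, 18, 20, 14, 10, 12, 8, 10, 6, 8, 18, 16, 14, 12, 10, 8, 6,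 4, 2, 0] .nil (.cons [16, 14, 12, 10, 2, 4, 6, 8, 18, 20, 14, 10, 12, 8, 10, 6, 8, 18, 16, 14, 12, 10, 8, 6, 4, 2, 0] .nil (.cons [10, 12, 6, 8, 10, 4, 6, 8, 18, 20, 14, 10, 12, 8, 10, 6, 8, 18, 16, 14, 12, 10, 8, 6, 4, 2, 0] .nil (.cons [14, 12, 6, 8, 10, 4, 6, 8, 18, 20, 14, 10, 12, 8, 10, 6, 8, 18, 16, 14, 12, 10, 8, 6, 4, 2, 0] .nil (.cons [20, 18, 6, 8, 10, 4, 6, 8, 18, 20, 14, 10, 12, 8, 10, 6, 8, 18, 16, 14, 12, 10, 8, 6, 4, 2, 0] .nil (.cons [16, 14, 12, 8, 10, 4, 6, 8, 18, 20, 14, 10, 12, 8, 10, 6, 8, 18, 16, 14, 12, 10, 8, 6, 4, 2, 0] .nil (.cons [18, 14, 12, 8, 10, 4, 6, 8, 18, 20, 14, 10, 12, 8, 10, 6, 8, 18, 16, 14, 12, 10, 8, 6, 4, 2, 0] .nil (.cons [1, 18, 12, 8, 10, 4, 6, 8, 18, 20, 14, 10, 12, 8, 10, 6,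 8, 18, 16, 14, 12, 10, 8, 6, 4, 2, 0] .nil (.cons [16, 14, 10, 12, 8, 10, 6, 8, 18, 20, 14, 10, 12, 8, 10, 6, 8, 18, 16, 14, 12, 10, 8, 6, 4, 2, 0] .nil (.cons [8, 18, 10, 12, 8, 10, 6, 8, 18, 20, 14, 10, 12, 8, 10, 6, 8, 18, 16, 14, 12, 10, 8, 6, 4, 2, 0] .nil (.cons [20, 18, 10, 12, 8, 10, 6, 8, 18, 20, 14, 10, 12, 8, 10, 6, 8, 18, 16, 14, 12, 10, 8, 6, 4, 2, 0] .nil (.cons [1, 16, 14, 12, 8, 10, 6, 8, 18, 20, 14, 10, 12, 8, 10, 6, 8, 18, 16, 14, 12, 10, 8, 6, 4, 2, 0] (.cons [0, 2, 4, 6, 16, 8, 10, 6, 8, 4, 6, 16, 18, 2, 0, 16, 6, 4, 2, 8, 6, 4, 16, 6, 8, 10, 12, 14] (.cons [10, 8, 14, 6, 4, 8, 6, 14, 10] (.cons [0, 3, 0, 0, 3, 0, 0, 3] (.cons [2, 2, 2, 0, 2, 0, 3, 3, 3] .nil .nil) .nil) .nil) .nil) (.cons [1, 20, 18,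 12, 8, 10, 6, 8, 18, 20, 14, 10, 12, 8, 10, 6, 8, 18, 16, 14, 12, 10, 8, 6, 4, 2, 0] (.cons [6, 8, 0, 2, 4, 6, 16, 18, 10, 8, 10, 16, 6, 4, 2, 16, 8, 6, 4, 14, 12, 10, 8, 6, 16, 18, 4, 2, 0, 12, 10, 6, 4, 2, 8, 6, 4, 16, 6, 8, 10, 12, 14] (.cons [6, 14, 2, 4, 12, 10] (.cons [2, 1, 3, 3, 0, 2, 2, 0, 3] (.cons [3, 0, 3, 3, 0, 0, 2, 1, 1] .nil .nil) .nil) .nil) .nil) (.cons [16, 14, 12, 8, 1, 10, 2, 1, 4, 6, 8, 18, 20, 12, 10, 6, 8, 18, 16, 14, 12, 10, 8, 6, 4, 2, 1] .nil (.cons [1, 16, 14, 12, 10, 6, 8, 18, 20, 8, 18, 10, 12, 8, 10, 6, 8, 18, 16, 14, 12, 10, 8, 6, 4, 2, 0] .nil (.cons [14, 12, 8, 10, 2, 4, 6, 8, 18, 20, 18, 10, 12, 8, 10, 6, 8, 18, 16, 14, 12, 10, 8, 6, 4, 2, 0] .nil (.cons [14, 12, 6, 8, 10, 4, 6, 8, 18,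 20, 18, 10, 12, 8, 10, 6, 8, 18, 16, 14, 12, 10, 8, 6, 4, 2, 0] .nil (.cons [20, 6, 18, 8, 10, 4, 6, 8, 18, 20, 18, 10, 12, 8, 10, 6, 8, 18, 16, 14, 12, 10, 8, 6, 4, 2, 0] .nil (.cons [1, 14, 10, 12, 8, 10, 6, 8, 18, 20, 18, 10, 12, 8, 10, 6, 8, 18, 16, 14, 12, 10, 8, 6, 4, 2, 0] .nil (.cons [12, 14, 10, 12, 8, 10, 6, 8, 18, 20, 18, 10, 12, 8, 10, 6, 8, 18, 16, 14, 12, 10, 8, 6, 4, 2, 0] (.cons [6, 16, 18, 4, 6, 16, 8, 10, 6, 8, 4, 6, 16, 18, 2, 0, 10, 16, 6, 4, 2, 8, 6, 4, 16, 6, 8, 10, 12, 14] (.cons [10, 8, 12, 6, 4, 2, 8, 6, 14] .nil .nil) .nil) (.cons [1, 16, 14, 12, 8, 10, 6, 8, 18, 20, 18, 10, 12, 8, 10, 6, 8, 18, 16, 14, 12, 10, 8, 6, 4, 2, 0] .nil (.cons [1, 18, 14, 12, 8, 10, 6, 8, 18, 20, 18, 10, 12, 8, 10, 6,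 8, 18, 16, 14, 12, 10, 8, 6, 4, 2, 0] .nil (.cons [4, 1, 6, 8, 10, 2, 4, 6, 8, 18, 20, 10, 12, 8, 10, 6, 8, 18, 16, 14, 12, 10, 8, 6, 4, 2, 0] (.cons [18, 2, 4, 6, 16, 8, 10, 6, 8, 4, 6, 16, 18, 2, 0, 12, 10, 4, 2, 8, 6, 4, 16, 6, 8, 10, 12, 14] (.cons [12, 10, 8, 12, 10, 0, 14, 6, 4, 2, 8, 6, 14] (.cons [2, 1, 3, 0, 2, 2] (.cons [3, 0, 0, 3, 3, 3, 0, 3, 3] .nil .nil) .nil) .nil) .nil) (.cons [10, 1, 12, 8, 10, 2, 4, 6, 8, 18, 20, 10, 12, 8, 10, 6, 8, 18, 16, 14, 12, 10, 8, 6, 4, 2, 0] .nil (.cons [14, 1, 12, 8, 10, 2, 4, 6, 8, 18, 20, 10, 12, 8, 10, 6, 8, 18, 16, 14, 12, 10, 8, 6, 4, 2, 0] .nil (.cons [18, 1, 12, 8, 10, 2, 4, 6, 8, 18, 20, 10, 12, 8, 10, 6, 8, 18, 16, 14, 12, 10, 8, 6, 4, 2, 0] .nil (.cons [16, 1, 14,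 12, 10, 2, 4, 6, 8, 18, 20, 10, 12, 8, 10, 6, 8, 18, 16, 14, 12, 10, 8, 6, 4, 2, 0] .nil (.cons [1, 4, 6, 8, 10, 2, 4, 6, 8, 18, 20, 10, 12, 8, 10, 6, 8, 18, 16, 14, 12, 10, 8, 6, 4, 2, 0] (.cons [18, 8, 2, 4, 6, 16, 8, 10, 12, 6, 8, 10, 4, 6, 8, 2, 4, 6, 16, 18, 4, 2, 0, 8, 10, 6, 4, 2, 8, 6, 4, 16, 6, 8, 10, 12, 14] (.cons [10, 0, 12, 4, 2, 0, 10, 8, 6, 4, 2, 14, 6, 4, 8, 16, 14, 6, 8] (.cons [1, 2, 1, 1, 1, 3, 3, 0, 3] .nil .nil) .nil) .nil) (.cons [12, 4, 6, 8, 10, 2, 4, 6, 8, 18, 20, 10, 12, 8, 10, 6, 8, 18, 16, 14, 12, 10, 8, 6, 4, 2, 0] (.cons [2, 4, 6, 8, 0, 2, 4, 6, 16, 18, 6, 8, 4, 6, 16, 10, 12, 8, 10, 2, 4, 6, 8, 0, 2, 4, 6, 16, 18, 4, 2, 0, 8, 10, 6, 4, 2, 8, 6, 4, 16, 6, 8, 10, 12, 14] (.cons [10, 8, 12, 10,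 14, 6, 4, 8, 6, 14, 10] (.cons [2, 1, 3, 0, 2, 1, 1, 3, 1, 1] .nil .nil) .nil) .nil) (.cons [18, 4, 6, 8, 10, 2, 4, 6, 8, 18, 20, 10, 12, 8, 10, 6, 8, 18, 16, 14, 12, 10, 8, 6, 4, 2, 0] .nil (.cons [1, 12, 6, 8, 10, 2, 4, 6, 8, 18, 20, 10, 12, 8, 10, 6, 8, 18, 16, 14, 12, 10, 8, 6, 4, 2, 0] .nil (.cons [10, 12, 6, 8, 10, 2, 4, 6, 8, 18, 20, 10, 12, 8, 10, 6, 8, 18, 16, 14, 12, 10, 8, 6, 4, 2, 0] .nil (.cons [14, 12, 6, 8, 10, 2, 4, 6, 8, 18, 20, 10, 12, 8, 10, 6, 8, 18, 16, 14, 12, 10, 8, 6, 4, 2, 0] .nil (.cons [18, 12, 6, 8, 10, 2, 4, 6, 8, 18, 20, 10, 12, 8, 10, 6, 8, 18, 16, 14, 12, 10, 8, 6, 4, 2, 0] .nil (.cons [8, 18, 6, 8, 10, 2, 4, 6, 8, 18, 20, 10, 12, 8, 10, 6, 8, 18, 16, 14, 12, 10, 8, 6, 4, 2, 0] .nil (.cons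 [20, 18, 6, 8, 10, 2, 4, 6, 8, 18, 20, 10, 12, 8, 10, 6, 8, 18, 16, 14, 12, 10, 8, 6, 4, 2, 0] .nil (.cons [1, 10, 12, 8, 10, 2, 4, 6, 8, 18, 20, 10, 12, 8, 10, 6, 8, 18, 16, 14, 12, 10, 8, 6, 4, 2, 0] (.cons [18, 2, 4, 6, 16, 8, 10, 12, 6, 8, 10, 4, 6, 8, 2, 4, 6, 16, 18, 4, 2, 0, 8, 10, 6, 4, 2, 8, 6, 4, 16, 6, 8, 10, 12, 14] (.cons [16, 2, 4, 6, 14, 0, 2, 8, 10] (.cons [1, 2, 1, 2, 0, 2, 1, 3, 1, 1] (.cons [0, 2, 1, 1, 3, 0, 3, 1, 1, 3, 1] .nil .nil) .nil) .nil) .nil) (.cons [14, 10, 12, 8, 10, 2, 4, 6, 8, 18, 20, 10, 12, 8, 10, 6, 8, 18, 16, 14, 12, 10, 8, 6, 4, 2, 0] (.cons [16, 6, 4, 2, 16, 10, 8, 6, 4, 14, 12, 10, 8, 6, 16, 18, 4, 2, 0, 10, 6, 4, 2, 8, 6, 4, 16, 6, 8, 10, 12, 14] (.cons [2, 12, 6, 0, 2, 10, 12, 8,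 6, 4, 2, 0, 14, 6, 8, 16] (.cons [3, 0, 2, 0, 3, 3, 0, 0, 3] (.cons [2, 0, 2, 1, 2, 0, 2, 0] .nil .nil) .nil) .nil) .nil) (.cons [18, 10, 12, 8, 10, 2, 4, 6, 8, 18, 20, 10, 12, 8, 10, 6, 8, 18, 16, 14, 12, 10, 8, 6, 4, 2, 0] .nil (.cons [1, 14, 12, 8, 10, 2, 4, 6, 8, 18, 20, 10, 12, 8, 10, 6, 8, 18, 16, 14, 12, 10, 8, 6, 4, 2, 0] .nil (.cons [16, 14, 12, 8, 10, 2, 4, 6, 8, 18, 20, 10, 12, 8, 10, 6, 8, 18, 16, 14, 12, 10, 8, 6, 4, 2, 0] .nil (.cons [18, 14, 12, 8, 10, 2, 4, 6, 8, 18, 20, 10, 12, 8, 10, 6, 8, 18, 16, 14, 12, 10, 8, 6, 4, 2, 0] (.cons [0, 2, 4, 6, 16, 18, 6, 8, 4, 6, 16, 10, 12, 8, 10, 4, 6, 8, 2, 4, 6, 16, 18, 4, 2, 0, 10, 16, 6, 4, 2, 8, 6, 4, 16, 6, 8, 10, 12, 14] (.cons [4, 2, 6, 4, 14, 8, 6, 8] (.cons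 [1, 1, 1, 2, 1, 2, 1, 2, 0, 2] (.cons [1, 2, 1, 3, 0, 3, 0, 0, 3, 0] .nil .nil) .nil) .nil) .nil) (.cons [20, 18, 12, 8, 10, 2, 4, 6, 8, 18, 20, 10, 12, 8, 10, 6, 8, 18, 16, 14, 12, 10, 8, 6, 4, 2, 0] .nil (.cons [1, 16, 14, 12, 10, 2, 4, 6, 8, 18, 20, 10, 12, 8, 10, 6, 8, 18, 16, 14, 12, 10, 8, 6, 4, 2, 0] .nil (.cons [1, 10, 12, 6, 8, 10, 4, 6, 8, 18, 20, 10, 12, 8, 10, 6, 8, 18, 16, 14, 12, 10, 8, 6, 4, 2, 0] .nil (.cons [8, 10, 12, 6, 8, 10, 4, 6, 8, 18, 20, 10, 12, 8, 10, 6, 8, 18, 16, 14, 12, 10, 8, 6, 4, 2, 0] .nil (.cons [1, 14, 12, 6, 8, 10, 4, 6, 8, 18, 20, 10, 12, 8, 10, 6, 8, 18, 16, 14, 12, 10, 8, 6, 4, 2, 0] .nil (.cons [16, 14, 12, 6, 8, 10, 4, 6, 8, 18, 20, 10, 12, 8, 10, 6, 8, 18, 16, 14, 12, 10, 8, 6,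 4, 2, 0] .nil (.cons [18, 14, 12, 6, 8, 10, 4, 6, 8, 18, 20, 10, 12, 8, 10, 6, 8, 18, 16, 14, 12, 10, 8, 6, 4, 2, 0] .nil (.cons [8, 18, 12, 6, 8, 10, 4, 6, 8, 18, 20, 10, 12, 8, 10, 6, 8, 18, 16, 14, 12, 10, 8, 6, 4, 2, 0] .nil (.cons [10, 8, 18, 6, 8, 10, 4, 6, 8, 18, 20, 10, 12, 8, 10, 6, 8, 18, 16, 14, 12, 10, 8, 6, 4, 2, 0] .nil (.cons [12, 14, 10, 12, 8, 10, 4, 6, 8, 18, 20, 10, 12, 8, 10, 6, 8, 18, 16, 14, 12, 10, 8, 6, 4, 2, 0] (.cons [4, 6, 16, 8, 10, 6, 4, 8, 6, 2, 0, 4, 2, 12, 6, 10, 8, 16, 18, 6, 4, 16, 6, 8, 10, 12, 14] (.cons [2, 0, 2, 4, 10, 14, 6, 4, 2, 0, 8, 16, 14, 6, 8] (.cons [0, 2, 2, 1, 3, 1, 3, 1, 1, 1] (.cons [2, 1, 2, 2, 0, 3, 3, 1] .nil .nil) .nil) .nil) .nil) (.cons [18, 14, 10, 12, 8, 10, 4,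 6, 8, 18, 20, 10, 12, 8, 10, 6, 8, 18, 16, 14, 12, 10, 8, 6, 4, 2, 0] .nil (.cons [1, 16, 14, 12, 8, 10, 4, 6, 8, 18, 20, 10, 12, 8, 10, 6, 8, 18, 16, 14, 12, 10, 8, 6, 4, 2, 0] .nil (.cons [18, 16, 14, 12, 8, 10, 4, 6, 8, 18, 20, 10, 12, 8, 10, 6, 8, 18, 16, 14, 12, 10, 8, 6, 4, 2, 0] (.cons [16, 18, 10, 8, 6, 16, 10, 12, 8, 10, 4, 6, 8, 2, 4, 6, 16, 18, 4, 2, 0, 8, 10, 6, 4, 2, 8, 6, 4, 16, 6, 8, 10, 12, 14] .nil .nil) (.cons [1, 20, 18, 12, 8, 10, 4, 6, 8, 18, 20, 10, 12, 8, 10, 6, 8, 18, 16, 14, 12, 10, 8, 6, 4, 2, 0] .nil (.cons [16, 12, 14, 10, 12, 8, 10, 6, 8, 18, 20, 10, 12, 8, 10, 6, 8, 18, 16, 14, 12, 10, 8, 6, 4, 2, 0] (.cons [10, 12, 8, 10, 6, 8, 6, 16, 4, 6, 2, 0, 4, 2, 8, 6, 10, 8, 16, 18, 6, 4, 16, 6, 8,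 10, 12, 14] (.cons [6, 2, 0, 4, 2, 16, 14, 6, 8, 10] (.cons [1, 2, 1, 1, 2, 2, 1, 2, 1] (.cons [3, 0, 2, 2, 1, 2, 1, 2] .nil .nil) .nil) .nil) .nil) .nil))))))))))))))))))))))))))))))))))))))))))))))))))))))))))))))))))))))))))))))))))))))))))))))))))))))))))))))))))))))))))))))))))))))))))))))))))))))))))))))))))))))))))))))))))))))))))))) (⟨cu_l0.b, cu_l0.S, [], cu_R43, 0⟩ :: cu_tl) (0 :: cu_lk) Pd.nil 0 = true := by decide +kernel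
theorem cu_r44 : cu_S.run (.cons [18, 12, 14, 10, 12, 8, 10, 6, 8, 18, 20, 10, 12, 8, 10, 6, 8, 18, 16, 14, 12, 10, 8, 6, 4, 2, 0] .nil (.cons [1, 20, 18, 14, 12, 8, 10, 6, 8, 18, 20, 10, 12, 8, 10, 6, 8, 18, 16, 14, 12, 10, 8, 6, 4, 2, 0] .nil (.cons [4, 6, 8, 10, 2, 4, 6, 8, 18, 20, 18, 14, 12, 8, 10, 6, 8, 18, 16, 14, 12, 10, 8, 6, 4, 2, 0] .nil (.cons [12, 6, 8, 10, 2, 4, 6, 8, 18, 20, 18, 14, 12, 8, 10, 6, 8, 18, 16, 14, 12, 10, 8, 6, 4, 2, 0] .nil (.cons [1, 12, 8, 10, 2, 4, 6, 8, 18, 20, 18, 14, 12, 8, 10, 6, 8, 18, 16, 14, 12, 10, 8, 6, 4, 2, 0] .nil (.cons [10, 12, 8, 10, 2, 4, 6, 8, 18, 20, 18, 14, 12, 8, 10, 6, 8, 18, 16, 14, 12, 10, 8, 6, 4, 2, 0] .nil (.cons [14, 12, 8, 10, 2, 4, 6, 8, 18, 20, 18, 14, 12, 8,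 10, 6, 8, 18, 16, 14, 12, 10, 8, 6, 4, 2, 0] .nil (.cons [1, 14, 12, 10, 2, 4, 6, 8, 18, 20, 18, 14, 12, 8, 10, 6, 8, 18, 16, 14, 12, 10, 8, 6, 4, 2, 0] .nil (.cons [1, 12, 6, 8, 10, 4, 6, 8, 18, 20, 18, 14, 12, 8, 10, 6, 8, 18, 16, 14, 12, 10, 8, 6, 4, 2, 0] .nil (.cons [20, 18, 6, 8, 10, 4, 6, 8, 18, 20, 18, 14, 12, 8, 10, 6, 8, 18, 16, 14, 12, 10, 8, 6, 4, 2, 0] .nil (.cons [1, 10, 12, 8, 10, 4, 6, 8, 18, 20, 18, 14, 12, 8, 10, 6, 8, 18, 16, 14, 12, 10, 8, 6, 4, 2, 0] .nil (.cons [14, 10, 12, 8, 10, 4, 6, 8, 18, 20, 18, 14, 12, 8, 10, 6, 8, 18, 16, 14, 12, 10, 8, 6, 4, 2, 0] .nil (.cons [18, 10, 12, 8, 10, 4, 6, 8, 18, 20, 18, 14, 12, 8, 10, 6, 8, 18, 16, 14, 12, 10, 8, 6, 4, 2, 0] .nil (.cons [1, 14, 12, 8, 10, 4, 6,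 8, 18, 20, 18, 14, 12, 8, 10, 6, 8, 18, 16, 14, 12, 10, 8, 6, 4, 2, 0] .nil (.cons [16, 14, 12, 8, 10, 4, 6, 8, 18, 20, 18, 14, 12, 8, 10, 6, 8, 18, 16, 14, 12, 10, 8, 6, 4, 2, 0] .nil (.cons [1, 16, 14, 12, 10, 4, 6, 8, 18, 20, 18, 14, 12, 8, 10, 6, 8, 18, 16, 14, 12, 10, 8, 6, 4, 2, 0] .nil (.cons [16, 14, 10, 12, 8, 10, 6, 8, 18, 20, 18, 14, 12, 8, 10, 6, 8, 18, 16, 14, 12, 10, 8, 6, 4, 2, 0] .nil (.cons [1, 18, 14, 12, 8, 10, 6, 8, 18, 20, 18, 14, 12, 8, 10, 6, 8, 18, 16, 14, 12, 10, 8, 6, 4, 2, 0] .nil (.cons [12, 1, 6, 8, 10, 2, 4, 6, 8, 18, 20, 14, 12, 8, 10, 6, 8, 18, 16, 14, 12, 10, 8, 6, 4, 2, 0] .nil (.cons [16, 1, 14, 12, 10, 2, 4, 6, 8, 18, 20, 14, 12, 8, 10, 6, 8, 18, 16, 14, 12, 10, 8, 6, 4, 2, 0] .nil (.cons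 [12, 4, 6, 8, 10, 2, 4, 6, 8, 18, 20, 14, 12, 8, 10, 6, 8, 18, 16, 14, 12, 10, 8, 6, 4, 2, 0] .nil (.cons [10, 12, 6, 8, 10, 2, 4, 6, 8, 18, 20, 14, 12, 8, 10, 6, 8, 18, 16, 14, 12, 10, 8, 6, 4, 2, 0] .nil (.cons [18, 12, 6, 8, 10, 2, 4, 6, 8, 18, 20, 14, 12, 8, 10, 6, 8, 18, 16, 14, 12, 10, 8, 6, 4, 2, 0] .nil (.cons [8, 18, 6, 8, 10, 2, 4, 6, 8, 18, 20, 14, 12, 8, 10, 6, 8, 18, 16, 14, 12, 10, 8, 6, 4, 2, 0] .nil (.cons [1, 10, 12, 8, 10, 2, 4, 6, 8, 18, 20, 14, 12, 8, 10, 6, 8, 18, 16, 14, 12, 10, 8, 6, 4, 2, 0] (.cons [10, 8, 6, 16, 18, 8, 4, 6, 16, 10, 12, 6, 8, 10, 4, 6, 8, 2, 4, 6, 16, 18, 4, 2, 0, 8, 10, 6, 4, 2, 8, 6, 4, 16, 6, 8, 10, 12, 14] (.cons [16, 12, 0, 2, 14, 6, 8, 16] (.cons [0, 0, 3, 0, 3, 1, 1, 3, 3,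 0] (.cons [0, 2, 1, 1, 3, 1, 2, 1, 3, 1] .nil .nil) .nil) .nil) .nil) (.cons [14, 10, 12, 8, 10, 2, 4, 6, 8, 18, 20, 14, 12, 8, 10, 6, 8, 18, 16, 14, 12, 10, 8, 6, 4, 2, 0] .nil (.cons [18, 10, 12, 8, 10, 2, 4, 6, 8, 18, 20, 14, 12, 8, 10, 6, 8, 18, 16, 14, 12, 10, 8, 6, 4, 2, 0] .nil (.cons [16, 14, 12, 8, 10, 2, 4, 6, 8, 18, 20, 14, 12, 8, 10, 6, 8, 18, 16, 14, 12, 10, 8, 6, 4, 2, 0] .nil (.cons [1, 16, 14, 12, 10, 2, 4, 6, 8, 18, 20, 14, 12, 8, 10, 6, 8, 18, 16, 14, 12, 10, 8, 6, 4, 2, 0] .nil (.cons [8, 10, 12, 6, 8, 10, 4, 6, 8, 18, 20, 14, 12, 8, 10, 6, 8, 18, 16, 14, 12, 10, 8, 6, 4, 2, 0] .nil (.cons [14, 10, 12, 6, 8, 10, 4, 6, 8, 18, 20, 14, 12, 8, 10, 6, 8, 18, 16, 14, 12, 10, 8, 6, 4, 2, 0] .nil (.cons [16,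 14, 12, 6, 8, 10, 4, 6, 8, 18, 20, 14, 12, 8, 10, 6, 8, 18, 16, 14, 12, 10, 8, 6, 4, 2, 0] .nil (.cons [1, 18, 12, 6, 8, 10, 4, 6, 8, 18, 20, 14, 12, 8, 10, 6, 8, 18, 16, 14, 12, 10, 8, 6, 4, 2, 0] (.cons [8, 4, 6, 16, 18, 12, 8, 10, 6, 8, 4, 6, 16, 14, 12, 8, 10, 6, 4, 8, 6, 2, 0, 4, 2, 12, 6, 10, 8, 16, 18, 6, 4, 16, 6, 8, 10, 12, 14] (.cons [16, 10, 12, 0, 6, 14, 8, 10] (.cons [0, 2, 0, 3, 0, 3, 0] (.cons [1, 2, 2, 0, 3, 1] .nil .nil) .nil) .nil) .nil) (.cons [8, 18, 12, 6, 8, 10, 4, 6, 8, 18, 20, 14, 12, 8, 10, 6, 8, 18, 16, 14, 12, 10, 8, 6, 4, 2, 0] .nil (.cons [20, 18, 12, 6, 8, 10, 4, 6, 8, 18, 20, 14, 12, 8, 10, 6, 8, 18, 16, 14, 12, 10, 8, 6, 4, 2, 0] .nil (.cons [20, 8, 18, 6, 8, 10, 4, 6, 8, 18, 20, 14, 12,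 8, 10, 6, 8, 18, 16, 14, 12, 10, 8, 6, 4, 2, 0] .nil (.cons [1, 20, 18, 6, 8, 10, 4, 6, 8, 18, 20, 14, 12, 8, 10, 6, 8, 18, 16, 14, 12, 10, 8, 6, 4, 2, 0] .nil (.cons [1, 14, 10, 12, 8, 10, 4, 6, 8, 18, 20, 14, 12, 8, 10, 6, 8, 18, 16, 14, 12, 10, 8, 6, 4, 2, 0] .nil (.cons [12, 14, 10, 12, 8, 10, 4, 6, 8, 18, 20, 14, 12, 8, 10, 6, 8, 18, 16, 14, 12, 10, 8, 6, 4, 2, 0] .nil (.cons [20, 18, 10, 12, 8, 10, 4, 6, 8, 18, 20, 14, 12, 8, 10, 6, 8, 18, 16, 14, 12, 10, 8, 6, 4, 2, 0] .nil (.cons [1, 18, 14, 12, 8, 10, 4, 6, 8, 18, 20, 14, 12, 8, 10, 6, 8, 18, 16, 14, 12, 10, 8, 6, 4, 2, 0] .nil (.cons [16, 12, 14, 10, 12, 8, 10, 6, 8, 18, 20, 14, 12, 8, 10, 6, 8, 18, 16, 14, 12, 10, 8, 6, 4, 2, 0] .nil (.cons [1, 18, 14, 10, 12,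 8, 10, 6, 8, 18, 20, 14, 12, 8, 10, 6, 8, 18, 16, 14, 12, 10, 8, 6, 4, 2, 0] .nil (.cons [6, 8, 18, 10, 12, 8, 10, 6, 8, 18, 20, 14, 12, 8, 10, 6, 8, 18, 16, 14, 12, 10, 8, 6, 4, 2, 0] .nil (.cons [20, 8, 18, 10, 12, 8, 10, 6, 8, 18, 20, 14, 12, 8, 10, 6, 8, 18, 16, 14, 12, 10, 8, 6, 4, 2, 0] .nil (.cons [1, 18, 16, 14, 12, 8, 10, 6, 8, 18, 20, 14, 12, 8, 10, 6, 8, 18, 16, 14, 12, 10, 8, 6, 4, 2, 0] .nil (.cons [4, 1, 6, 8, 10, 2, 4, 6, 8, 18, 20, 18, 12, 8, 10, 6, 8, 18, 16, 14, 12, 10, 8, 6, 4, 2, 0] (.cons [18, 16, 12, 8, 10, 6, 8, 6, 16, 4, 6, 2, 0, 4, 2, 8, 6, 10, 8, 16, 18, 6, 4, 16, 6, 8, 10, 12, 14] .nil .nil) (.cons [18, 1, 6, 8, 10, 2, 4, 6, 8, 18, 20, 18, 12, 8, 10, 6, 8, 18, 16, 14, 12, 10, 8, 6, 4, 2, 0] .nil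 (.cons [14, 1, 12, 8, 10, 2, 4, 6, 8, 18, 20, 18, 12, 8, 10, 6, 8, 18, 16, 14, 12, 10, 8, 6, 4, 2, 0] .nil (.cons [18, 1, 12, 8, 10, 2, 4, 6, 8, 18, 20, 18, 12, 8, 10, 6, 8, 18, 16, 14, 12, 10, 8, 6, 4, 2, 0] .nil (.cons [1, 4, 6, 8, 10, 2, 4, 6, 8, 18, 20, 18, 12, 8, 10, 6, 8, 18, 16, 14, 12, 10, 8, 6, 4, 2, 0] .nil (.cons [12, 4, 6, 8, 10, 2, 4, 6, 8, 18, 20, 18, 12, 8, 10, 6, 8, 18, 16, 14, 12, 10, 8, 6, 4, 2, 0] .nil (.cons [18, 4, 6, 8, 10, 2, 4, 6, 8, 18, 20, 18, 12, 8, 10, 6, 8, 18, 16, 14, 12, 10, 8, 6, 4, 2, 0] .nil (.cons [10, 12, 6, 8, 10, 2, 4, 6, 8, 18, 20, 18, 12, 8, 10, 6, 8, 18, 16, 14, 12, 10, 8, 6, 4, 2, 0] .nil (.cons [8, 18, 6, 8, 10, 2, 4, 6, 8, 18, 20, 18, 12, 8, 10, 6, 8, 18, 16, 14, 12, 10, 8, 6,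 4, 2, 0] .nil (.cons [14, 10, 12, 8, 10, 2, 4, 6, 8, 18, 20, 18, 12, 8, 10, 6, 8, 18, 16, 14, 12, 10, 8, 6, 4, 2, 0] .nil (.cons [8, 10, 12, 6, 8, 10, 4, 6, 8, 18, 20, 18, 12, 8, 10, 6, 8, 18, 16, 14, 12, 10, 8, 6, 4, 2, 0] .nil (.cons [14, 10, 12, 6, 8, 10, 4, 6, 8, 18, 20, 18, 12, 8, 10, 6, 8, 18, 16, 14, 12, 10, 8, 6, 4, 2, 0] .nil (.cons [1, 14, 12, 6, 8, 10, 4, 6, 8, 18, 20, 18, 12, 8, 10, 6, 8, 18, 16, 14, 12, 10, 8, 6, 4, 2, 0] .nil (.cons [16, 14, 12, 6, 8, 10, 4, 6, 8, 18, 20, 18, 12, 8, 10, 6, 8, 18, 16, 14, 12, 10, 8, 6, 4, 2, 0] .nil (.cons [18, 14, 12, 6, 8, 10, 4, 6, 8, 18, 20, 18, 12, 8, 10, 6, 8, 18, 16, 14, 12, 10, 8, 6, 4, 2, 0] .nil (.cons [8, 18, 12, 6, 8, 10, 4, 6, 8, 18, 20, 18, 12, 8, 10, 6, 8, 18,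 16, 14, 12, 10, 8, 6, 4, 2, 0] .nil (.cons [20, 18, 12, 6, 8, 10, 4, 6, 8, 18, 20, 18, 12, 8, 10, 6, 8, 18, 16, 14, 12, 10, 8, 6, 4, 2, 0] .nil (.cons [20, 8, 18, 6, 8, 10, 4, 6, 8, 18, 20, 18, 12, 8, 10, 6, 8, 18, 16, 14, 12, 10, 8, 6, 4, 2, 0] .nil (.cons [1, 20, 18, 6, 8, 10, 4, 6, 8, 18, 20, 18, 12, 8, 10, 6, 8, 18, 16, 14, 12, 10, 8, 6, 4, 2, 0] (.cons [6, 16, 18, 6, 8, 4, 6, 16, 14, 12, 8, 10, 6, 4, 8, 6, 2, 0, 4, 2, 12, 6, 10, 8, 16, 18, 6, 4, 16, 6, 8, 10, 12, 14] (.cons [10, 6, 4, 2, 0, 8, 6, 4, 2, 10, 14, 6, 4, 8, 16, 14, 6, 8] .nil .nil) .nil) (.cons [12, 14, 10, 12, 8, 10, 4, 6, 8, 18, 20, 18, 12, 8, 10, 6, 8, 18, 16, 14, 12, 10, 8, 6, 4, 2, 0] .nil (.cons [1, 18, 10, 12, 8, 10, 4, 6, 8, 18, 20, 18, 12, 8, 10,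 6, 8, 18, 16, 14, 12, 10, 8, 6, 4, 2, 0] .nil (.cons [1, 16, 14, 12, 8, 10, 4, 6, 8, 18, 20, 18, 12, 8, 10, 6, 8, 18, 16, 14, 12, 10, 8, 6, 4, 2, 0] .nil (.cons [1, 18, 14, 12, 8, 10, 4, 6, 8, 18, 20, 18, 12, 8, 10, 6, 8, 18, 16, 14, 12, 10, 8, 6, 4, 2, 0] .nil (.cons [1, 12, 14, 10, 12, 8, 10, 6, 8, 18, 20, 18, 12, 8, 10, 6, 8, 18, 16, 14, 12, 10, 8, 6, 4, 2, 0] .nil (.cons [12, 1, 4, 6, 8, 10, 2, 4, 6, 8, 18, 20, 12, 8, 10, 6, 8, 18, 16, 14, 12, 10, 8, 6, 4, 2, 0] (.cons [8, 10, 6, 8, 4, 6, 16, 18, 2, 0, 8, 10, 6, 4, 2, 8, 6, 4, 16, 6, 8, 10, 12, 14] (.cons [0, 2, 10, 8, 6, 4, 8, 2, 10, 6, 4, 8] (.cons [0, 0, 2, 2, 0, 3, 0, 0] .nil .nil) .nil) .nil) (.cons [18, 1, 4, 6, 8, 10, 2, 4, 6, 8, 18, 20, 12, 8, 10, 6, 8, 18,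 16, 14, 12, 10, 8, 6, 4, 2, 0] .nil (.cons [10, 1, 12, 6, 8, 10, 2, 4, 6, 8, 18, 20, 12, 8, 10, 6, 8, 18, 16, 14, 12, 10, 8, 6, 4, 2, 0] .nil (.cons [18, 1, 10, 12, 8, 10, 2, 4, 6, 8, 18, 20, 12, 8, 10, 6, 8, 18, 16, 14, 12, 10, 8, 6, 4, 2, 0] .nil (.cons [16, 1, 14, 12, 8, 10, 2, 4, 6, 8, 18, 20, 12, 8, 10, 6, 8, 18, 16, 14, 12, 10, 8, 6, 4, 2, 0] .nil (.cons [18, 1, 14, 12, 8, 10, 2, 4, 6, 8, 18, 20, 12, 8, 10, 6, 8, 18, 16, 14, 12, 10, 8, 6, 4, 2, 0] .nil (.cons [10, 12, 4, 6, 8, 10, 2, 4, 6, 8, 18, 20, 12, 8, 10, 6, 8, 18, 16, 14, 12, 10, 8, 6, 4, 2, 0] (.cons [14, 12, 10, 6, 8, 16, 6, 2, 0, 4, 2, 8, 6, 10, 8, 16, 18, 6, 4, 16, 6, 8, 10, 12, 14] (.cons [4, 16, 2, 10, 8, 6, 4, 2, 0, 14, 6, 8, 16] (.cons [3, 3, 1, 2,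 2, 0, 0, 0, 3, 1] (.cons [1, 3, 0, 2, 1, 2, 1, 3, 1, 1] .nil .nil) .nil) .nil) .nil) (.cons [18, 12, 4, 6, 8, 10, 2, 4, 6, 8, 18, 20, 12, 8, 10, 6, 8, 18, 16, 14, 12, 10, 8, 6, 4, 2, 0] .nil (.cons [14, 10, 12, 6, 8, 10, 2, 4, 6, 8, 18, 20, 12, 8, 10, 6, 8, 18, 16, 14, 12, 10, 8, 6, 4, 2, 0] .nil (.cons [18, 10, 12, 6, 8, 10, 2, 4, 6, 8, 18, 20, 12, 8, 10, 6, 8, 18, 16, 14, 12, 10, 8, 6, 4, 2, 0] .nil (.cons [1, 14, 12, 6, 8, 10, 2, 4, 6, 8, 18, 20, 12, 8, 10, 6, 8, 18, 16, 14, 12, 10, 8, 6, 4, 2, 0] .nil (.cons [16, 14, 12, 6, 8, 10, 2, 4, 6, 8, 18, 20, 12, 8, 10, 6, 8, 18, 16, 14, 12, 10, 8, 6, 4, 2, 0] .nil (.cons [8, 18, 12, 6, 8, 10, 2, 4, 6, 8, 18, 20, 12, 8, 10, 6, 8, 18, 16, 14, 12, 10, 8, 6, 4, 2, 0] .nil (.cons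 [10, 8, 18, 6, 8, 10, 2, 4, 6, 8, 18, 20, 12, 8, 10, 6, 8, 18, 16, 14, 12, 10, 8, 6, 4, 2, 0] .nil (.cons [18, 14, 10, 12, 8, 10, 2, 4, 6, 8, 18, 20, 12, 8, 10, 6, 8, 18, 16, 14, 12, 10, 8, 6, 4, 2, 0] .nil (.cons [18, 16, 14, 12, 8, 10, 2, 4, 6, 8, 18, 20, 12, 8, 10, 6, 8, 18, 16, 14, 12, 10, 8, 6, 4, 2, 0] .nil (.cons [1, 14, 10, 12, 6, 8, 10, 4, 6, 8, 18, 20, 12, 8, 10, 6, 8, 18, 16, 14, 12, 10, 8, 6, 4, 2, 0] .nil (.cons [1, 18, 10, 12, 6, 8, 10, 4, 6, 8, 18, 20, 12, 8, 10, 6, 8, 18, 16, 14, 12, 10, 8, 6, 4, 2, 0] .nil (.cons [8, 18, 10, 12, 6, 8, 10, 4, 6, 8, 18, 20, 12, 8, 10, 6, 8, 18, 16, 14, 12, 10, 8, 6, 4, 2, 0] .nil (.cons [20, 18, 10, 12, 6, 8, 10, 4, 6, 8, 18, 20, 12, 8, 10, 6, 8, 18, 16, 14, 12, 10, 8, 6,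 4, 2, 0] .nil (.cons [1, 16, 14, 12, 6, 8, 10, 4, 6, 8, 18, 20, 12, 8, 10, 6, 8, 18, 16, 14, 12, 10, 8, 6, 4, 2, 0] .nil (.cons [18, 16, 14, 12, 6, 8, 10, 4, 6, 8, 18, 20, 12, 8, 10, 6, 8, 18, 16, 14, 12, 10, 8, 6, 4, 2, 0] .nil (.cons [20, 18, 14, 12, 6, 8, 10, 4, 6, 8, 18, 20, 12, 8, 10, 6, 8, 18, 16, 14, 12, 10, 8, 6, 4, 2, 0] .nil (.cons [20, 8, 18, 12, 6, 8, 10, 4, 6, 8, 18, 20, 12, 8, 10, 6, 8, 18, 16, 14, 12, 10, 8, 6, 4, 2, 0] .nil (.cons [1, 10, 8, 18, 6, 8, 10, 4, 6, 8, 18, 20, 12, 8, 10, 6, 8, 18, 16, 14, 12, 10, 8, 6, 4, 2, 0] .nil (.cons [20, 10, 8, 18, 6, 8, 10, 4, 6, 8, 18, 20, 12, 8, 10, 6, 8, 18, 16, 14, 12, 10, 8, 6, 4, 2, 0] .nil (.cons [1, 12, 14, 10, 12, 8, 10, 4, 6, 8, 18, 20, 12, 8, 10, 6, 8, 18,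 16, 14, 12, 10, 8, 6, 4, 2, 0] .nil (.cons [1, 16, 14, 10, 12, 8, 10, 4, 6, 8, 18, 20, 12, 8, 10, 6, 8, 18, 16, 14, 12, 10, 8, 6, 4, 2, 0] .nil (.cons [1, 16, 12, 14, 10, 12, 8, 10, 6, 8, 18, 20, 12, 8, 10, 6, 8, 18, 16, 14, 12, 10, 8, 6, 4, 2, 0] .nil (.cons [1, 8, 10, 12, 6, 8, 10, 4, 6, 8, 18, 20, 18, 8, 10, 6, 8, 18, 16, 14, 12, 10, 8, 6, 4, 2, 0] (.cons [10, 8, 0, 2, 4, 6, 16, 18, 8, 6, 2, 4, 6, 16, 10, 12, 8, 10, 6, 8, 0, 2, 4, 6, 16, 18, 2, 0, 12, 10, 16, 6, 4, 2, 8, 6, 4, 16, 6, 8, 10, 12, 14] (.cons [0, 14, 16, 2, 4, 0, 6, 4, 2, 14, 6, 4, 8, 16, 14, 6, 8] (.cons [3, 0, 0, 0, 2, 1, 2, 0, 3, 3] (.cons [3, 1, 3, 0, 2, 1, 1, 2] .nil .nil) .nil) .nil) .nil) (.cons [14, 8, 10, 12, 6, 8, 10, 4, 6, 8, 18, 20, 18, 8, 10,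 6, 8, 18, 16, 14, 12, 10, 8, 6, 4, 2, 0] .nil (.cons [16, 14, 10, 12, 6, 8, 10, 4, 6, 8, 18, 20, 18, 8, 10, 6, 8, 18, 16, 14, 12, 10, 8, 6, 4, 2, 0] .nil (.cons [8, 16, 18, 10, 12, 6, 8, 10, 4, 6, 8, 18, 20, 18, 8, 10, 6, 8, 18, 14, 12, 10, 8, 6, 4, 2, 0] .nil (.cons [18, 12, 14, 10, 12, 8, 10, 4, 6, 8, 18, 20, 18, 8, 10, 6, 8, 18, 16, 14, 12, 10, 8, 6, 4, 2, 0] .nil (.cons [6, 16, 14, 12, 10, 8, 1, 10, 2, 1, 4, 6, 8, 18, 20, 12, 10, 8, 18, 14, 12, 10, 8, 6, 4, 2, 1] .nil (.cons [1, 16, 12, 14, 10, 12, 8, 10, 6, 8, 18, 20, 18, 8, 10, 6, 8, 18, 16, 14, 12, 10, 8, 6, 4, 2, 0] .nil (.cons [14, 1, 10, 12, 6, 8, 10, 2, 4, 6, 8, 18, 20, 8, 10, 6, 8, 18, 16, 14, 12, 10, 8, 6, 4, 2, 0] .nil (.cons [8, 10, 12, 4, 6, 8, 10, 2, 4,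 6, 8, 18, 20, 8, 10, 6, 8, 18, 16, 14, 12, 10, 8, 6, 4, 2, 0] .nil (.cons [14, 10, 12, 4, 6, 8, 10, 2, 4, 6, 8, 18, 20, 8, 10, 6, 8, 18, 16, 14, 12, 10, 8, 6, 4, 2, 0] .nil (.cons [18, 8, 10, 12, 6, 8, 10, 2, 4, 6, 8, 18, 20, 8, 10, 6, 8, 18, 16, 14, 12, 10, 8, 6, 4, 2, 0] .nil (.cons [1, 14, 8, 10, 12, 6, 8, 10, 4, 6, 8, 18, 20, 8, 10, 6, 8, 18, 16, 14, 12, 10, 8, 6, 4, 2, 0] .nil (.cons [12, 14, 8, 10, 12, 6, 8, 10, 4, 6, 8, 18, 20, 8, 10, 6, 8, 18, 16, 14, 12, 10, 8, 6, 4, 2, 0] .nil (.cons [16, 14, 8, 10, 12, 6, 8, 10, 4, 6, 8, 18, 20, 8, 10, 6, 8, 18, 16, 14, 12, 10, 8, 6, 4, 2, 0] .nil (.cons [16, 12, 14, 10, 12, 6, 8, 10, 4, 6, 8, 18, 20, 8, 10, 6, 8, 18, 16, 14, 12, 10, 8, 6, 4, 2, 0] .nil (.cons [1, 16, 14, 10,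 12, 6, 8, 10, 4, 6, 8, 18, 20, 8, 10, 6, 8, 18, 16, 14, 12, 10, 8, 6, 4, 2, 0] .nil (.cons [1, 16, 12, 14, 10, 12, 8, 10, 4, 6, 8, 18, 20, 8, 10, 6, 8, 18, 16, 14, 12, 10, 8, 6, 4, 2, 0] .nil (.cons [2, 1, 4, 6, 8, 10, 2, 4, 6, 8, 18, 20, 14, 12, 10, 6, 8, 18, 16, 14, 12, 10, 8, 6, 4, 2, 0] .nil (.cons [12, 1, 4, 6, 8, 10, 2, 4, 6, 8, 18, 20, 14, 12, 10, 6, 8, 18, 16, 14, 12, 10, 8, 6, 4, 2, 0] .nil (.cons [18, 1, 10, 12, 8, 10, 2, 4, 6, 8, 18, 20, 14, 12, 10, 6, 8, 18, 16, 14, 12, 10, 8, 6, 4, 2, 0] .nil (.cons [16, 1, 14, 12, 8, 10, 2, 4, 6, 8, 18, 20, 14, 12, 10, 6, 8, 18, 16, 14, 12, 10, 8, 6, 4, 2, 0] .nil (.cons [18, 1, 14, 12, 8, 10, 2, 4, 6, 8, 18, 20, 14, 12, 10, 6, 8, 18, 16, 14, 12, 10, 8, 6, 4, 2, 0] .nil (.cons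 [1, 12, 4, 6, 8, 10, 2, 4, 6, 8, 18, 20, 14, 12, 10, 6, 8, 18, 16, 14, 12, 10, 8, 6, 4, 2, 0] .nil (.cons [10, 12, 4, 6, 8, 10, 2, 4, 6, 8, 18, 20, 14, 12, 10, 6, 8, 18, 16, 14, 12, 10, 8, 6, 4, 2, 0] .nil (.cons [8, 18, 4, 6, 8, 10, 2, 4, 6, 8, 18, 20, 14, 12, 10, 6, 8, 18, 16, 14, 12, 10, 8, 6, 4, 2, 0] .nil (.cons [1, 10, 12, 6, 8, 10, 2, 4, 6, 8, 18, 20, 14, 12, 10, 6, 8, 18, 16, 14, 12, 10, 8, 6, 4, 2, 0] (.cons [4, 2, 8, 6, 16, 14, 10, 12, 8, 10, 6, 8, 4, 6, 16, 18, 2, 0, 8, 10, 6, 4, 2, 8, 6, 4, 16, 6, 8, 10, 12, 14] (.cons [10, 12, 10, 2, 6, 4, 8, 10] (.cons [2, 1, 3, 0, 0, 3, 1, 1] (.cons [0, 0, 2, 0, 2, 0, 2, 1, 2, 2] .nil .nil) .nil) .nil) .nil) (.cons [18, 10, 12, 6, 8, 10, 2, 4, 6, 8, 18, 20, 14, 12, 10, 6,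 8, 18, 16, 14, 12, 10, 8, 6, 4, 2, 0] .nil (.cons [18, 14, 12, 6, 8, 10, 2, 4, 6, 8, 18, 20, 14, 12, 10, 6, 8, 18, 16, 14, 12, 10, 8, 6, 4, 2, 0] .nil (.cons [8, 18, 12, 6, 8, 10, 2, 4, 6, 8, 18, 20, 14, 12, 10, 6, 8, 18, 16, 14, 12, 10, 8, 6, 4, 2, 0] .nil (.cons [10, 8, 18, 6, 8, 10, 2, 4, 6, 8, 18, 20, 14, 12, 10, 6, 8, 18, 16, 14, 12, 10, 8, 6, 4, 2, 0] .nil (.cons [1, 14, 10, 12, 8, 10, 2, 4, 6, 8, 18, 20, 14, 12, 10, 6, 8, 18, 16, 14, 12, 10, 8, 6, 4, 2, 0] .nil (.cons [16, 14, 10, 12, 8, 10, 2, 4, 6, 8, 18, 20, 14, 12, 10, 6, 8, 18, 16, 14, 12, 10, 8, 6, 4, 2, 0] .nil (.cons [18, 14, 10, 12, 8, 10, 2, 4, 6, 8, 18, 20, 14, 12, 10, 6, 8, 18, 16, 14, 12, 10, 8, 6, 4, 2, 0] .nil (.cons [18, 16, 14, 12, 8, 10, 2, 4, 6,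 8, 18, 20, 14, 12, 10, 6, 8, 18, 16, 14, 12, 10, 8, 6, 4, 2, 0] .nil (.cons [14, 8, 10, 12, 6, 8, 10, 4, 6, 8, 18, 20, 14, 12, 10, 6, 8, 18, 16, 14, 12, 10, 8, 6, 4, 2, 0] (.cons [18, 16, 12, 10, 4, 6, 8, 2, 4, 6, 16, 18, 6, 4, 2, 0, 10, 16, 6, 4, 2, 8, 6, 4, 16, 6, 8, 10, 12, 14] (.cons [10, 8, 6, 4, 2, 10, 8, 6, 4, 12, 14, 6, 8, 16] (.cons [3, 0, 0, 2, 1, 1, 2, 0, 3, 0] (.cons [3, 0, 3, 0, 0, 3, 1, 3, 1, 2, 1] .nil .nil) .nil) .nil) .nil) (.cons [16, 14, 10, 12, 6, 8, 10, 4, 6, 8, 18, 20, 14, 12, 10, 6, 8, 18, 16, 14, 12, 10, 8, 6, 4, 2, 0] .nil (.cons [1, 18, 10, 12, 6, 8, 10, 4, 6, 8, 18, 20, 14, 12, 10, 6, 8, 18, 16, 14, 12, 10, 8, 6, 4, 2, 0] .nil (.cons [20, 18, 10, 12, 6, 8, 10, 4, 6, 8, 18, 20, 14, 12, 10, 6, 8,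 18, 16, 14, 12, 10, 8, 6, 4, 2, 0] .nil (.cons [8, 18, 14, 12, 6, 8, 10, 4, 6, 8, 18, 20, 14, 12, 10, 6, 8, 18, 16, 14, 12, 10, 8, 6, 4, 2, 0] .nil (.cons [20, 18, 14, 12, 6, 8, 10, 4, 6, 8, 18, 20, 14, 12, 10, 6, 8, 18, 16, 14, 12, 10, 8, 6, 4, 2, 0] .nil (.cons [1, 8, 18, 12, 6, 8, 10, 4, 6, 8, 18, 20, 14, 12, 10, 6, 8, 18, 16, 14, 12, 10, 8, 6, 4, 2, 0] (.cons [6, 8, 10, 16, 6, 8, 6, 16, 18, 4, 6, 16, 12, 8, 10, 6, 4, 8, 6, 2, 0, 4, 2, 12, 6, 10, 8, 16, 18, 6, 4, 16, 6, 8, 10, 12, 14] (.cons [4, 6, 14, 6, 12, 10, 4, 2, 6, 4, 8] (.cons [3, 0, 2, 1, 3, 1, 1, 1, 3] (.cons [1, 3, 3, 1, 2, 0, 2] .nil .nil) .nil) .nil) .nil) (.cons [12, 10, 8, 18, 6, 8, 10, 4, 6, 8, 18, 20, 14, 12, 10, 6, 8, 18, 16, 14, 12, 10, 8, 6, 4, 2,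 0] .nil (.cons [1, 20, 8, 18, 6, 8, 10, 4, 6, 8, 18, 20, 14, 12, 10, 6, 8, 18, 16, 14, 12, 10, 8, 6, 4, 2, 0] .nil (.cons [1, 16, 14, 10, 12, 8, 10, 4, 6, 8, 18, 20, 14, 12, 10, 6, 8, 18, 16, 14, 12, 10, 8, 6, 4, 2, 0] .nil (.cons [18, 16, 14, 10, 12, 8, 10, 4, 6, 8, 18, 20, 14, 12, 10, 6, 8, 18, 16, 14, 12, 10, 8, 6, 4, 2, 0] .nil (.cons [1, 18, 16, 14, 12, 8, 10, 4, 6, 8, 18, 20, 14, 12, 10, 6, 8, 18, 16, 14, 12, 10, 8, 6, 4, 2, 0] .nil (.cons [8, 18, 16, 14, 10, 12, 8, 10, 6, 8, 18, 20, 14, 12, 10, 6, 8, 18, 16, 14, 12, 10, 8, 6, 4, 2, 0] .nil (.cons [20, 18, 16, 14, 10, 12, 8, 10, 6, 8, 18, 20, 14, 12, 10, 6, 8, 18, 16, 14, 12, 10, 8, 6, 4, 2, 0] .nil (.cons [20, 8, 18, 14, 10, 12, 8, 10, 6, 8, 18, 20, 14, 12, 10, 6,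 8, 18, 16, 14, 12, 10, 8, 6, 4, 2, 0] .nil (.cons [1, 20, 18, 14, 10, 12, 8, 10, 6, 8, 18, 20, 14, 12, 10, 6, 8, 18, 16, 14, 12, 10, 8, 6, 4, 2, 0] .nil (.cons [1, 6, 8, 18, 10, 12, 8, 10, 6, 8, 18, 20, 14, 12, 10, 6, 8, 18, 16, 14, 12, 10, 8, 6, 4, 2, 0] .nil (.cons [20, 6, 8, 18, 10, 12, 8, 10, 6, 8, 18, 20, 14, 12, 10, 6, 8, 18, 16, 14, 12, 10, 8, 6, 4, 2, 0] .nil (.cons [1, 20, 18, 16, 14, 12, 8, 10, 6, 8, 18, 20, 14, 12, 10, 6, 8, 18, 16, 14, 12, 10, 8, 6, 4, 2, 0] .nil (.cons [1, 18, 20, 10, 8, 18, 6, 8, 10, 4, 6, 8, 18, 20, 12, 10, 8, 18, 16, 14, 12, 10, 8, 6, 4, 2, 0] (.cons [12, 10, 8, 6, 16, 18, 6, 4, 2, 0, 16, 6, 4, 2, 8, 6, 4, 16, 6, 8, 10, 12, 14] (.cons [8, 4, 12, 10, 12, 0, 2, 8] (.cons [2, 0, 2, 1, 2, 2,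 0, 0] (.cons [3, 1, 2, 1, 3, 0, 2, 0] .nil .nil) .nil) .nil) .nil) (.cons [12, 18, 20, 10, 8, 18, 6, 8, 10, 4, 6, 8, 18, 20, 12, 10, 8, 18, 16, 14, 12, 10, 8, 6, 4, 2, 0] .nil (.cons [14, 1, 12, 4, 6, 8, 10, 2, 4, 6, 8, 18, 20, 12, 10, 6, 8, 18, 16, 14, 12, 10, 8, 6, 4, 2, 0] .nil (.cons [16, 14, 12, 4, 6, 8, 10, 2, 4, 6, 8, 18, 20, 12, 10, 6, 8, 18, 16, 14, 12, 10, 8, 6, 4, 2, 0] (.cons [18, 2, 4, 6, 16, 14, 10, 12, 6, 8, 10, 4, 6, 8, 2, 4, 6, 16, 18, 2, 0, 8, 10, 16, 6, 4, 2, 8, 6, 4, 16, 6, 8, 10, 12, 14] (.cons [2, 0, 4, 6, 2, 4, 6, 8, 10, 6, 8, 16] .nil .nil) .nil) (.cons [18, 14, 12, 4, 6, 8, 10, 2, 4, 6, 8, 18, 20, 12, 10, 6, 8, 18, 16, 14, 12, 10, 8, 6, 4, 2, 0] (.cons [8, 4, 6, 16, 18, 16, 6, 8, 4, 6, 16, 14, 10,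 12, 8, 10, 4, 6, 8, 2, 4, 6, 16, 18, 2, 0, 12, 10, 16, 6, 4, 2, 8, 6, 4, 16, 6, 8, 10, 12, 14] (.cons [14, 2, 4, 2, 12] (.cons [1, 2, 1, 1, 1, 2, 0, 0, 0, 3] (.cons [1, 1, 2, 1, 2, 0, 2, 0, 0, 3, 0] .nil .nil) .nil) .nil) .nil) (.cons [1, 16, 14, 12, 6, 8, 10, 2, 4, 6, 8, 18, 20, 12, 10, 6, 8, 18, 16, 14, 12, 10, 8, 6, 4, 2, 0] .nil (.cons [18, 16, 14, 12, 6, 8, 10, 2, 4, 6, 8, 18, 20, 12, 10, 6, 8, 18, 16, 14, 12, 10, 8, 6, 4, 2, 0] .nil (.cons [8, 18, 14, 12, 6, 8, 10, 2, 4, 6, 8, 18, 20, 12, 10, 6, 8, 18, 16, 14, 12, 10, 8, 6, 4, 2, 0] .nil (.cons [12, 10, 8, 18, 6, 8, 10, 2, 4, 6, 8, 18, 20, 12, 10, 6, 8, 18, 16, 14, 12, 10, 8, 6, 4, 2, 0] .nil (.cons [1, 8, 18, 14, 12, 6, 8, 10, 4, 6, 8, 18, 20, 12, 10, 6, 8, 18, 16,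 14, 12, 10, 8, 6, 4, 2, 0] .nil (.cons [20, 8, 18, 14, 12, 6, 8, 10, 4, 6, 8, 18, 20, 12, 10, 6, 8, 18, 16, 14, 12, 10, 8, 6, 4, 2, 0] .nil (.cons [1, 20, 18, 14, 12, 6, 8, 10, 4, 6, 8, 18, 20, 12, 10, 6, 8, 18, 16, 14, 12, 10, 8, 6, 4, 2, 0] .nil (.cons [12, 10, 8, 18, 12, 6, 8, 10, 4, 6, 8, 18, 20, 12, 10, 6, 8, 18, 16, 14, 12, 10, 8, 6, 4, 2, 0] .nil (.cons [20, 10, 8, 18, 12, 6, 8, 10, 4, 6, 8, 18, 20, 12, 10, 6, 8, 18, 16, 14, 12, 10, 8, 6, 4, 2, 0] .nil (.cons [1, 12, 10, 8, 18, 6, 8, 10, 4, 6, 8, 18, 20, 12, 10, 6, 8, 18, 16, 14, 12, 10, 8, 6, 4, 2, 0] .nil (.cons [14, 12, 10, 8, 18, 6, 8, 10, 4, 6, 8, 18, 20, 12, 10, 6, 8, 18, 16, 14, 12, 10, 8, 6, 4, 2, 0] .nil (.cons [20, 12, 10, 8, 18, 6, 8, 10, 4, 6, 8, 18,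 20, 12, 10, 6, 8, 18, 16, 14, 12, 10, 8, 6, 4, 2, 0] .nil (.cons [18, 20, 10, 8, 18, 6, 8, 10, 4, 6, 8, 18, 20, 12, 10, 6, 8, 18, 16, 14, 12, 10, 8, 6, 4, 2, 0] .nil (.cons [1, 20, 18, 16, 14, 12, 8, 10, 4, 6, 8, 18, 20, 12, 10, 6, 8, 18, 16, 14, 12, 10, 8, 6, 4, 2, 0] .nil (.cons [12, 18, 20, 8, 18, 6, 8, 10, 4, 6, 8, 18, 20, 14, 12, 10, 8, 18, 16, 14, 12, 10, 8, 6, 4, 2, 0] (.cons [14, 12, 10, 6, 16, 8, 6, 4, 2, 12, 4, 6, 10, 8, 16, 18, 6, 4, 16, 6, 8, 10, 12, 14] (.cons [10, 8, 2, 16, 6, 4, 2, 12, 8, 6, 14, 10] (.cons [3, 3, 0, 3, 1, 1, 1, 3, 0, 0, 3] (.cons [3, 3, 0, 3, 3, 0, 3, 0, 3] .nil .nil) .nil) .nil) .nil) (.cons [8, 1, 10, 12, 6, 8, 10, 2, 4, 6, 8, 18, 20, 14, 12, 10, 8, 18, 16, 14, 12, 10, 8, 6, 4, 2, 0] .nil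 (.cons [8, 1, 18, 10, 12, 8, 10, 2, 4, 6, 8, 18, 20, 14, 12, 10, 8, 18, 16, 14, 12, 10, 8, 6, 4, 2, 0] .nil (.cons [10, 8, 18, 12, 6, 8, 10, 2, 4, 6, 8, 18, 20, 14, 12, 10, 8, 18, 16, 14, 12, 10, 8, 6, 4, 2, 0] .nil (.cons [12, 10, 8, 18, 6, 8, 10, 2, 4, 6, 8, 18, 20, 14, 12, 10, 8, 18, 16, 14, 12, 10, 8, 6, 4, 2, 0] .nil (.cons [20, 18, 8, 10, 12, 6, 8, 10, 4, 6, 8, 18, 20, 14, 12, 10, 8, 18, 16, 14, 12, 10, 8, 6, 4, 2, 0] .nil (.cons [6, 8, 18, 10, 12, 6, 8, 10, 4, 6, 8, 18, 20, 14, 12, 10, 8, 18, 16, 14, 12, 10, 8, 6, 4, 2, 0] .nil (.cons [10, 8, 18, 10, 12, 6, 8, 10, 4, 6, 8, 18, 20, 14, 12, 10, 8, 18, 16, 14, 12, 10, 8, 6, 4, 2, 0] .nil (.cons [20, 8, 18, 10, 12, 6, 8, 10, 4, 6, 8, 18, 20, 14, 12, 10, 8, 18, 16, 14,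 12, 10, 8, 6, 4, 2, 0] .nil (.cons [1, 20, 18, 10, 12, 6, 8, 10, 4, 6, 8, 18, 20, 14, 12, 10, 8, 18, 16, 14, 12, 10, 8, 6, 4, 2, 0] .nil (.cons [1, 10, 8, 18, 12, 6, 8, 10, 4, 6, 8, 18, 20, 14, 12, 10, 8, 18, 16, 14, 12, 10, 8, 6, 4, 2, 0] .nil (.cons [12, 10, 8, 18, 12, 6, 8, 10, 4, 6, 8, 18, 20, 14, 12, 10, 8, 18, 16, 14, 12, 10, 8, 6, 4, 2, 0] .nil (.cons [1, 20, 8, 18, 12, 6, 8, 10, 4, 6, 8, 18, 20, 14, 12, 10, 8, 18, 16, 14, 12, 10, 8, 6, 4, 2, 0] .nil (.cons [14, 12, 10, 8, 18, 6, 8, 10, 4, 6, 8, 18, 20, 14, 12, 10, 8, 18, 16, 14, 12, 10, 8, 6, 4, 2, 0] .nil (.cons [20, 12, 10, 8, 18, 6, 8, 10, 4, 6, 8, 18, 20, 14, 12, 10, 8, 18, 16, 14, 12, 10, 8, 6, 4, 2, 0] .nil (.cons [1, 6, 8, 18, 10, 12, 8, 10, 4, 6, 8, 18,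 20, 14, 12, 10, 8, 18, 16, 14, 12, 10, 8, 6, 4, 2, 0] .nil (.cons [4, 6, 8, 18, 10, 12, 8, 10, 4, 6, 8, 18, 20, 14, 12, 10, 8, 18, 16, 14, 12, 10, 8, 6, 4, 2, 0] .nil (.cons [1, 4, 6, 8, 18, 10, 12, 8, 10, 6, 8, 18, 20, 14, 12, 10, 8, 18, 16, 14, 12, 10, 8, 6, 4, 2, 0] .nil (.cons [2, 4, 6, 8, 18, 10, 12, 8, 10, 6, 8, 18, 20, 14, 12, 10, 8, 18, 16, 14, 12, 10, 8, 6, 4, 2, 0] .nil (.cons [1, 20, 6, 8, 18, 10, 12, 8, 10, 6, 8, 18, 20, 14, 12, 10, 8, 18, 16, 14, 12, 10, 8, 6, 4, 2, 0] .nil (.cons [1, 18, 20, 8, 18, 10, 12, 8, 10, 6, 8, 18, 20, 14, 12, 10, 8, 18, 16, 14, 12, 10, 8, 6, 4, 2, 0] .nil (.cons [1, 14, 12, 10, 8, 18, 6, 8, 10, 4, 6, 8, 18, 20, 12, 10, 8, 18, 16, 14, 12, 10, 8, 6, 4, 2, 0] .nil (.cons [16, 14, 12,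 10, 8, 18, 6, 8, 10, 4, 6, 8, 18, 20, 12, 10, 8, 18, 16, 14, 12, 10, 8, 6, 4, 2, 0] .nil (.cons [20, 14, 12, 10, 8, 18, 6, 8, 10, 4, 6, 8, 18, 20, 12, 10, 8, 18, 16, 14, 12, 10, 8, 6, 4, 2, 0] .nil (.cons [1, 20, 12, 10, 8, 18, 6, 8, 10, 4, 6, 8, 18, 20, 12, 10, 8, 18, 16, 14, 12, 10, 8, 6, 4, 2, 0] .nil (.cons [12, 6, 8, 10, 4, 6, 8, 18, 20, 10, 12, 8, 10, 0, 2, 4, 6, 8, 18, 14, 12, 10, 8, 6, 4, 2, 1] .nil (.cons [20, 18, 12, 8, 10, 6, 8, 18, 20, 10, 12, 8, 10, 0, 2, 4, 6, 8, 18, 14, 12, 10, 8, 6, 4, 2, 1] .nil (.cons [12, 1, 8, 10, 2, 4, 6, 8, 18, 20, 12, 8, 10, 0, 2, 4, 6, 8, 18, 14, 12, 10, 8, 6, 4, 2, 1] .nil (.cons [18, 1, 8, 10, 2, 4, 6, 8, 18, 20, 12, 8, 10, 0, 2, 4, 6, 8, 18, 14, 12, 10, 8, 6, 4, 2, 1] .nil (.cons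 [4, 6, 8, 10, 2, 4, 6, 8, 18, 20, 12, 8, 10, 0, 2, 4, 6, 8, 18, 14, 12, 10, 8, 6, 4, 2, 1] .nil (.cons [1, 12, 8, 10, 2, 4, 6, 8, 18, 20, 12, 8, 10, 0, 2, 4, 6, 8, 18, 14, 12, 10, 8, 6, 4, 2, 1] (.cons [6, 16, 18, 0, 6, 10, 8, 12, 10, 16, 6, 4, 2, 8, 6, 4, 16, 6, 8, 10, 12, 14] .nil .nil) (.cons [18, 12, 6, 8, 10, 4, 6, 8, 18, 20, 12, 8, 10, 0, 2, 4, 6, 8, 18, 14, 12, 10, 8, 6, 4, 2, 1] .nil (.cons [20, 18, 6, 8, 10, 4, 6, 8, 18, 20, 12, 8, 10, 0, 2, 4, 6, 8, 18, 14, 12, 10, 8, 6, 4, 2, 1] .nil (.cons [18, 10, 12, 8, 10, 4, 6, 8, 18, 20, 12, 8, 10, 0, 2, 4, 6, 8, 18, 14, 12, 10, 8, 6, 4, 2, 1] .nil (.cons [20, 18, 12, 8, 10, 4, 6, 8, 18, 20, 12, 8, 10, 0, 2, 4, 6, 8, 18, 14, 12, 10, 8, 6, 4, 2, 1] .nil (.cons [4, 1, 6,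 8, 10, 2, 4, 6, 8, 18, 20, 12, 10, 0, 2, 4, 6, 8, 18, 14, 12, 10, 8, 6, 4, 2, 1] (.cons [6, 16, 8, 10, 6, 4, 8, 6, 2, 0, 4, 2, 12, 6, 10, 8, 16, 18, 6, 4, 16, 6, 8, 10, 12, 14] .nil .nil) (.cons [18, 1, 12, 8, 10, 2, 4, 6, 8, 18, 20, 12, 10, 0, 2, 4, 6, 8, 18, 14, 12, 10, 8, 6, 4, 2, 1] .nil (.cons [12, 4, 6, 8, 10, 2, 4, 6, 8, 18, 20, 12, 10, 0, 2, 4, 6, 8, 18, 14, 12, 10, 8, 6, 4, 2, 1] .nil (.cons [1, 12, 6, 8, 10, 2, 4, 6, 8, 18, 20, 12, 10, 0, 2, 4, 6, 8, 18, 14, 12, 10, 8, 6, 4, 2, 1] (.cons [18, 2, 0, 10, 8, 12, 10, 16, 6, 4, 2, 8, 6, 4, 16, 6, 8, 10, 12, 14] (.cons [10, 8, 6, 14, 8, 6, 4, 16] (.cons [1, 3, 0, 0, 2, 1, 1, 3] .nil .nil) .nil) .nil) (.cons [1, 18, 6, 8, 10, 2, 4, 6, 8, 18, 20, 12, 10, 0, 2, 4, 6, 8,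 18, 14, 12, 10, 8, 6, 4, 2, 1] .nil (.cons [10, 8, 18, 6, 8, 10, 4, 6, 8, 18, 20, 12, 10, 0, 2, 4, 6, 8, 18, 14, 12, 10, 8, 6, 4, 2, 1] .nil (.cons [12, 6, 8, 10, 2, 4, 6, 8, 18, 20, 10, 12, 8, 10, 2, 4, 6, 8, 18, 14, 12, 10, 8, 6, 4, 2, 0] .nil (.cons [1, 12, 8, 10, 2, 4, 6, 8, 18, 20, 10, 12, 8, 10, 2, 4, 6, 8, 18, 14, 12, 10, 8, 6, 4, 2, 0] (.cons [12, 10, 8, 4, 6, 16, 18, 12, 10, 6, 4, 2, 8, 6, 4, 16, 6, 8, 10, 12, 14] (.cons [14, 16, 0, 2, 12, 10, 8, 6, 4, 2, 0, 14, 6, 8, 16] (.cons [1, 3, 1, 2, 1, 2, 0, 3, 1] .nil .nil) .nil) .nil) (.cons [18, 12, 8, 10, 2, 4, 6, 8, 18, 20, 10, 12, 8, 10, 2, 4, 6, 8, 18, 14, 12, 10, 8, 6, 4, 2, 0] .nil (.cons [1, 18, 8, 10, 2, 4, 6, 8, 18, 20, 10, 12, 8, 10, 2, 4, 6, 8, 18, 14, 12,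 10, 8, 6, 4, 2, 0] (.cons [18, 6, 8, 4, 6, 16, 10, 12, 8, 10, 4, 6, 8, 2, 4, 6, 16, 18, 2, 0, 8, 10, 16, 6, 4, 2, 8, 6, 4, 16, 6, 8, 10, 12, 14] .nil .nil) (.cons [20, 18, 8, 10, 2, 4, 6, 8, 18, 20, 10, 12, 8, 10, 2, 4, 6, 8, 18, 14, 12, 10, 8, 6, 4, 2, 0] .nil (.cons [18, 12, 6, 8, 10, 4, 6, 8, 18, 20, 10, 12, 8, 10, 2, 4, 6, 8, 18, 14, 12, 10, 8, 6, 4, 2, 0] .nil (.cons [8, 18, 6, 8, 10, 4, 6, 8, 18, 20, 10, 12, 8, 10, 2, 4, 6, 8, 18, 14, 12, 10, 8, 6, 4, 2, 0] .nil (.cons [18, 10, 12, 8, 10, 4, 6, 8, 18, 20, 10, 12, 8, 10, 2, 4, 6, 8, 18, 14, 12, 10, 8, 6, 4, 2, 0] .nil (.cons [20, 18, 10, 12, 8, 10, 6, 8, 18, 20, 10, 12, 8, 10, 2, 4, 6, 8, 18, 14, 12, 10, 8, 6, 4, 2, 0] .nil (.cons [18, 1, 6, 8, 10, 2, 4, 6, 8, 18,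 20, 12, 8, 10, 2, 4, 6, 8, 18, 14, 12, 10, 8, 6, 4, 2, 0] .nil (.cons [10, 1, 12, 8, 10, 2, 4, 6, 8, 18, 20, 12, 8, 10, 2, 4, 6, 8, 18, 14, 12, 10, 8, 6, 4, 2, 0] .nil (.cons [18, 1, 12, 8, 10, 2, 4, 6, 8, 18, 20, 12, 8, 10, 2, 4, 6, 8, 18, 14, 12, 10, 8, 6, 4, 2, 0] .nil (.cons [20, 1, 18, 8, 10, 2, 4, 6, 8, 18, 20, 12, 8, 10, 2, 4, 6, 8, 18, 14, 12, 10, 8, 6, 4, 2, 0] .nil (.cons [18, 4, 6, 8, 10, 2, 4, 6, 8, 18, 20, 12, 8, 10, 2, 4, 6, 8, 18, 14, 12, 10, 8, 6, 4, 2, 0] .nil (.cons [1, 12, 6, 8, 10, 2, 4, 6, 8, 18, 20, 12, 8, 10, 2, 4, 6, 8, 18, 14, 12, 10, 8, 6, 4, 2, 0] .nil (.cons [18, 12, 6, 8, 10, 2, 4, 6, 8, 18, 20, 12, 8, 10, 2, 4, 6, 8, 18, 14, 12, 10, 8, 6, 4, 2, 0] .nil (.cons [1, 18, 12, 8, 10, 2, 4, 6, 8,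 18, 20, 12, 8, 10, 2, 4, 6, 8, 18, 14, 12, 10, 8, 6, 4, 2, 0] .nil (.cons [8, 10, 12, 6, 8, 10, 4, 6, 8, 18, 20, 12, 8, 10, 2, 4, 6, 8, 18, 14, 12, 10, 8, 6, 4, 2, 0] (.cons [18, 12, 10, 8, 10, 4, 6, 16, 6, 4, 2, 8, 6, 4, 0, 2, 12, 4, 6, 10, 8, 16, 18, 6, 4, 16, 6, 8, 10, 12, 14] (.cons [6, 14, 6, 4] (.cons [1, 3, 3, 1, 2, 0, 2, 2, 0] (.cons [2, 0, 2, 1, 3, 3, 0, 3, 1, 1] .nil .nil) .nil) .nil) .nil) (.cons [20, 8, 18, 6, 8, 10, 4, 6, 8, 18, 20, 12, 8, 10, 2, 4, 6, 8, 18, 14, 12, 10, 8, 6, 4, 2, 0] .nil (.cons [10, 12, 4, 6, 8, 10, 2, 4, 6, 8, 18, 20, 8, 10, 2, 4, 6, 8, 18, 14, 12, 10, 8, 6, 4, 2, 0] .nil (.cons [1, 10, 12, 6, 8, 10, 2, 4, 6, 8, 18, 20, 8, 10, 2, 4, 6, 8, 18, 14, 12, 10, 8, 6, 4, 2, 0] .nil (.cons [8, 10,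 12, 6, 8, 10, 2, 4, 6, 8, 18, 20, 8, 10, 2, 4, 6, 8, 18, 14, 12, 10, 8, 6, 4, 2, 0] .nil (.cons [2, 1, 4, 6, 8, 10, 2, 4, 6, 8, 18, 20, 12, 10, 2, 4, 6, 8, 18, 14, 12, 10, 8, 6, 4, 2, 0] .nil (.cons [18, 1, 4, 6, 8, 10, 2, 4, 6, 8, 18, 20, 12, 10, 2, 4, 6, 8, 18, 14, 12, 10, 8, 6, 4, 2, 0] .nil (.cons [18, 12, 4, 6, 8, 10, 2, 4, 6, 8, 18, 20, 12, 10, 2, 4, 6, 8, 18, 14, 12, 10, 8, 6, 4, 2, 0] .nil (.cons [1, 18, 4, 6, 8, 10, 2, 4, 6, 8, 18, 20, 12, 10, 2, 4, 6, 8, 18, 14, 12, 10, 8, 6, 4, 2, 0] (.cons [0, 2, 4, 6, 16, 18, 6, 8, 4, 6, 16, 10, 12, 8, 10, 4, 6, 8, 2, 4, 6, 16, 18, 2, 0, 8, 10, 6, 4, 2, 8, 6, 4, 16, 6, 8, 10, 12, 14] (.cons [10, 6, 4, 2, 14, 6, 12, 4, 6, 8, 16] (.cons [2, 1, 1, 1, 3, 1, 2, 1, 1, 3] .nil .nil)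 .nil) .nil) (.cons [8, 18, 4, 6, 8, 10, 2, 4, 6, 8, 18, 20, 12, 10, 2, 4, 6, 8, 18, 14, 12, 10, 8, 6, 4, 2, 0] (.cons [2, 4, 6, 16, 18, 8, 4, 6, 16, 10, 12, 8, 10, 4, 6, 8, 6, 16, 4, 6, 2, 0, 4, 2, 8, 6, 10, 8, 16, 18, 6, 4, 16, 6, 8, 10, 12, 14] (.cons [4, 16, 14, 2, 8, 10] (.cons [3, 1, 1, 1, 2, 0, 0, 3, 0, 0, 0] .nil .nil) .nil) .nil) (.cons [20, 18, 4, 6, 8, 10, 2, 4, 6, 8, 18, 20, 12, 10, 2, 4, 6, 8, 18, 14, 12, 10, 8, 6, 4, 2, 0] .nil (.cons [1, 18, 12, 6, 8, 10, 2, 4, 6, 8, 18, 20, 12, 10, 2, 4, 6, 8, 18, 14, 12, 10, 8, 6, 4, 2, 0] (.cons [8, 2, 4, 6, 16, 18, 6, 8, 4, 6, 16, 10, 12, 8, 10, 4, 6, 8, 2, 4, 6, 16, 18, 2, 0, 12, 10, 16, 6, 4, 2, 8, 6, 4, 16, 6, 8, 10, 12, 14] .nil .nil) (.cons [20, 18, 12, 6, 8, 10,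 2, 4, 6, 8, 18, 20, 12, 10, 2, 4, 6, 8, 18, 14, 12, 10, 8, 6, 4, 2, 0] .nil (.cons [10, 8, 18, 6, 8, 10, 2, 4, 6, 8, 18, 20, 12, 10, 2, 4, 6, 8, 18, 14, 12, 10, 8, 6, 4, 2, 0] .nil (.cons [10, 8, 18, 12, 6, 8, 10, 4, 6, 8, 18, 20, 12, 10, 2, 4, 6, 8, 18, 14, 12, 10, 8, 6, 4, 2, 0] .nil (.cons [20, 8, 18, 12, 6, 8, 10, 4, 6, 8, 18, 20, 12, 10, 2, 4, 6, 8, 18, 14, 12, 10, 8, 6, 4, 2, 0] .nil (.cons [18, 20, 8, 18, 6, 8, 10, 4, 6, 8, 18, 20, 12, 10, 2, 4, 6, 8, 18, 14, 12, 10, 8, 6, 4, 2, 0] .nil (.cons [12, 6, 8, 10, 4, 6, 8, 18, 20, 8, 10, 12, 6, 8, 10, 4, 6, 8, 18, 14, 12, 10, 8, 6, 4, 2, 0] .nil (.cons [14, 12, 8, 10, 4, 6, 8, 18, 20, 8, 10, 12, 6, 8, 10, 4, 6, 8, 18, 14, 12, 10, 8, 6, 4, 2, 0] .nil (.cons [1, 10, 12,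 8, 10, 6, 8, 18, 20, 8, 10, 12, 6, 8, 10, 4, 6, 8, 18, 14, 12, 10, 8, 6, 4, 2, 0] .nil (.cons [18, 10, 12, 8, 10, 6, 8, 18, 20, 8, 10, 12, 6, 8, 10, 4, 6, 8, 18, 14, 12, 10, 8, 6, 4, 2, 0] .nil (.cons [20, 18, 12, 8, 10, 6, 8, 18, 20, 8, 10, 12, 6, 8, 10, 4, 6, 8, 18, 14, 12, 10, 8, 6, 4, 2, 0] (.cons [18, 16, 8, 10, 4, 6, 8, 6, 16, 4, 6, 2, 0, 4, 2, 8, 6, 10, 8, 16, 18, 6, 4, 16, 6, 8, 10, 12, 14] (.cons [6, 14, 0, 8, 10, 6, 8] (.cons [3, 3, 1, 1, 1, 3, 0, 0, 0] (.cons [0, 3, 3, 0, 2, 2, 0, 2, 1] .nil .nil) .nil) .nil) .nil) (.cons [1, 20, 18, 8, 10, 6, 8, 18, 20, 8, 10, 12, 6, 8, 10, 4, 6, 8, 18, 14, 12, 10, 8, 6, 4, 2, 0] .nil (.cons [1, 12, 8, 10, 2, 4, 6, 8, 18, 20, 10, 12, 6, 8, 10, 4, 6, 8, 18, 14, 12, 10, 8, 6,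 4, 2, 0] .nil (.cons [1, 18, 8, 10, 2, 4, 6, 8, 18, 20, 10, 12, 6, 8, 10, 4, 6, 8, 18, 14, 12, 10, 8, 6, 4, 2, 0] .nil (.cons [20, 18, 8, 10, 2, 4, 6, 8, 18, 20, 10, 12, 6, 8, 10, 4, 6, 8, 18, 14, 12, 10, 8, 6, 4, 2, 0] .nil (.cons [1, 14, 12, 10, 2, 4, 6, 8, 18, 20, 10, 12, 6, 8, 10, 4, 6, 8, 18, 14, 12, 10, 8, 6, 4, 2, 0] .nil (.cons [14, 12, 6, 8, 10, 4, 6, 8, 18, 20, 10, 12, 6, 8, 10, 4, 6, 8, 18, 14, 12, 10, 8, 6, 4, 2, 0] .nil (.cons [8, 18, 6, 8, 10, 4, 6, 8, 18, 20, 10, 12, 6, 8, 10, 4, 6, 8, 18, 14, 12, 10, 8, 6, 4, 2, 0] .nil (.cons [1, 10, 12, 8, 10, 4, 6, 8, 18, 20, 10, 12, 6, 8, 10, 4, 6, 8, 18, 14, 12, 10, 8, 6, 4, 2, 0] .nil (.cons [18, 10, 12, 8, 10, 4, 6, 8, 18, 20, 10, 12, 6, 8, 10, 4, 6, 8, 18, 14, 12,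 10, 8, 6, 4, 2, 0] .nil (.cons [1, 14, 12, 8, 10, 4, 6, 8, 18, 20, 10, 12, 6, 8, 10, 4, 6, 8, 18, 14, 12, 10, 8, 6, 4, 2, 0] .nil (.cons [20, 18, 12, 8, 10, 4, 6, 8, 18, 20, 10, 12, 6, 8, 10, 4, 6, 8, 18, 14, 12, 10, 8, 6, 4, 2, 0] .nil (.cons [1, 20, 18, 8, 10, 4, 6, 8, 18, 20, 10, 12, 6, 8, 10, 4, 6, 8, 18, 14, 12, 10, 8, 6, 4, 2, 0] .nil (.cons [1, 14, 10, 12, 8, 10, 6, 8, 18, 20, 10, 12, 6, 8, 10, 4, 6, 8, 18, 14, 12, 10, 8, 6, 4, 2, 0] .nil (.cons [12, 14, 10, 12, 8, 10, 6, 8, 18, 20, 10, 12, 6, 8, 10, 4, 6, 8, 18, 14, 12, 10, 8, 6, 4, 2, 0] .nil (.cons [20, 18, 10, 12, 8, 10, 6, 8, 18, 20, 10, 12, 6, 8, 10, 4, 6, 8, 18, 14, 12, 10, 8, 6, 4, 2, 0] .nil (.cons [1, 18, 14, 12, 8, 10, 6, 8, 18, 20, 10, 12, 6, 8, 10, 4,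 6, 8, 18, 14, 12, 10, 8, 6, 4, 2, 0] .nil (.cons [20, 18, 14, 12, 8, 10, 6, 8, 18, 20, 10, 12, 6, 8, 10, 4, 6, 8, 18, 14, 12, 10, 8, 6, 4, 2, 0] .nil (.cons [1, 20, 18, 12, 8, 10, 6, 8, 18, 20, 10, 12, 6, 8, 10, 4, 6, 8, 18, 14, 12, 10, 8, 6, 4, 2, 0] .nil (.cons [18, 4, 6, 8, 10, 2, 4, 6, 8, 18, 20, 12, 6, 8, 10, 4, 6, 8, 18, 14, 12, 10, 8, 6, 4, 2, 0] .nil (.cons [20, 18, 6, 8, 10, 2, 4, 6, 8, 18, 20, 12, 6, 8, 10, 4, 6, 8, 18, 14, 12, 10, 8, 6, 4, 2, 0] .nil (.cons [1, 10, 12, 8, 10, 2, 4, 6, 8, 18, 20, 12, 6, 8, 10, 4, 6, 8, 18, 14, 12, 10, 8, 6, 4, 2, 0] .nil (.cons [18, 10, 12, 8, 10, 2, 4, 6, 8, 18, 20, 12, 6, 8, 10, 4, 6, 8, 18, 14, 12, 10, 8, 6, 4, 2, 0] .nil (.cons [18, 14, 12, 8, 10, 2, 4, 6, 8, 18, 20, 12, 6,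 8, 10, 4, 6, 8, 18, 14, 12, 10, 8, 6, 4, 2, 0] .nil (.cons [14, 10, 12, 6, 8, 10, 4, 6, 8, 18, 20, 12, 6, 8, 10, 4, 6, 8, 18, 14, 12, 10, 8, 6, 4, 2, 0] (.cons [18, 16, 6, 8, 4, 2, 6, 4, 0, 2, 4, 8, 6, 10, 8, 16, 18, 6, 4, 16, 6, 8, 10, 12, 14] (.cons [2, 0, 8, 6, 4, 6, 2, 4, 8, 10, 6, 8] (.cons [2, 1, 2, 0, 0, 2, 1, 1, 1] (.cons [2, 1, 2, 2, 0, 3, 0] .nil .nil) .nil) .nil) .nil) (.cons [18, 14, 12, 6, 8, 10, 4, 6, 8, 18, 20, 12, 6, 8, 10, 4, 6, 8, 18, 14, 12, 10, 8, 6, 4, 2, 0] .nil (.cons [1, 18, 12, 6, 8, 10, 4, 6, 8, 18, 20, 12, 6, 8, 10, 4, 6, 8, 18, 14, 12, 10, 8, 6, 4, 2, 0] .nil (.cons [20, 8, 18, 6, 8, 10, 4, 6, 8, 18, 20, 12, 6, 8, 10, 4, 6, 8, 18, 14, 12, 10, 8, 6, 4, 2, 0] .nil (.cons [1, 14, 10, 12, 8, 10,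 4, 6, 8, 18, 20, 12, 6, 8, 10, 4, 6, 8, 18, 14, 12, 10, 8, 6, 4, 2, 0] .nil (.cons [8, 18, 10, 12, 8, 10, 4, 6, 8, 18, 20, 12, 6, 8, 10, 4, 6, 8, 18, 14, 12, 10, 8, 6, 4, 2, 0] .nil (.cons [20, 18, 10, 12, 8, 10, 4, 6, 8, 18, 20, 12, 6, 8, 10, 4, 6, 8, 18, 14, 12, 10, 8, 6, 4, 2, 0] .nil (.cons [1, 18, 14, 12, 8, 10, 4, 6, 8, 18, 20, 12, 6, 8, 10, 4, 6, 8, 18, 14, 12, 10, 8, 6, 4, 2, 0] .nil (.cons [1, 12, 14, 10, 12, 8, 10, 6, 8, 18, 20, 12, 6, 8, 10, 4, 6, 8, 18, 14, 12, 10, 8, 6, 4, 2, 0] .nil (.cons [18, 12, 14, 10, 12, 8, 10, 6, 8, 18, 20, 12, 6, 8, 10, 4, 6, 8, 18, 14, 12, 10, 8, 6, 4, 2, 0] (.cons [4, 6, 16, 18, 6, 8, 4, 6, 16, 10, 12, 6, 8, 10, 4, 6, 8, 2, 4, 6, 16, 18, 4, 2, 0, 12, 10, 6, 4, 2, 8, 6, 4, 16, 6,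 8, 10, 12, 14] (.cons [6, 4, 2, 10, 8, 6, 4, 2, 8, 10, 6, 8] (.cons [3, 1, 2, 1, 2, 1, 3, 0, 2] (.cons [3, 0, 3, 0, 0, 3, 0] .nil .nil) .nil) .nil) .nil) (.cons [1, 18, 14, 10, 12, 8, 10, 6, 8, 18, 20, 12, 6, 8, 10, 4, 6, 8, 18, 14, 12, 10, 8, 6, 4, 2, 0] .nil (.cons [20, 18, 14, 10, 12, 8, 10, 6, 8, 18, 20, 12, 6, 8, 10, 4, 6, 8, 18, 14, 12, 10, 8, 6, 4, 2, 0] .nil (.cons [20, 8, 18, 10, 12, 8, 10, 6, 8, 18, 20, 12, 6, 8, 10, 4, 6, 8, 18, 14, 12, 10, 8, 6, 4, 2, 0] (.cons [18, 16, 14, 10, 12, 8, 10, 6, 8, 2, 4, 6, 16, 18, 2, 0, 8, 10, 16, 6, 4, 2, 8, 6, 4, 16, 6, 8, 10, 12, 14] .nil .nil) .nil)))))))))))))))))))))))))))))))))))))))))))))))))))))))))))))))))))))))))))))))))))))))))))))))))))))))))))))))))))))))))))))))))))))))))))))))))))))))))))))))))))))))))))))))))))))))))))))))))))))))))))))))))))))))))))))))))))))))))))))))))))))))))))))))))))))))))))))))))))))))))))))))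 (⟨cu_l0.b, cu_l0.S, [], cu_R44, 0⟩ :: cu_tl) (0 :: cu_lk) Pd.nil 0 = true := by decide +kernel
theorem cu_r45 : cu_S.run (.cons [1, 20, 18, 10, 12, 8, 10, 6, 8, 18, 20, 12, 6, 8, 10, 4, 6, 8, 18, 14, 12, 10, 8, 6, 4, 2, 0] .nil (.cons [10, 1, 12, 6, 8, 10, 2, 4, 6, 8, 18, 20, 6, 8, 10, 4, 6, 8, 18, 14, 12, 10, 8, 6, 4, 2, 0] .nil (.cons [10, 12, 4, 6, 8, 10, 2, 4, 6, 8, 18, 20, 6, 8, 10, 4, 6, 8, 18, 14, 12, 10, 8, 6, 4, 2, 0] .nil (.cons [8, 10, 12, 6, 8, 10, 2, 4, 6, 8, 18, 20, 6, 8, 10, 4, 6, 8, 18, 14, 12, 10, 8, 6, 4, 2, 0] .nil (.cons [18, 8, 10, 12, 6, 8, 10, 4, 6, 8, 18, 20, 6, 8, 10, 4, 6, 8, 18, 14, 12, 10, 8, 6, 4, 2, 0] .nil (.cons [1, 14, 10, 12, 6, 8, 10, 4, 6, 8, 18, 20, 6, 8, 10, 4, 6, 8, 18, 14, 12, 10,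 8, 6, 4, 2, 0] .nil (.cons [18, 14, 10, 12, 6, 8, 10, 4, 6, 8, 18, 20, 6, 8, 10, 4, 6, 8, 18, 14, 12, 10, 8, 6, 4, 2, 0] .nil (.cons [1, 18, 10, 12, 6, 8, 10, 4, 6, 8, 18, 20, 6, 8, 10, 4, 6, 8, 18, 14, 12, 10, 8, 6, 4, 2, 0] .nil (.cons [8, 18, 10, 12, 6, 8, 10, 4, 6, 8, 18, 20, 6, 8, 10, 4, 6, 8, 18, 14, 12, 10, 8, 6, 4, 2, 0] (.cons [16, 18, 12, 10, 8, 6, 16, 4, 6, 8, 2, 4, 6, 16, 18, 6, 4, 2, 0, 8, 12, 10, 6, 4, 2, 8, 6, 4, 16, 6, 8, 10, 12, 14] (.cons [0, 12, 4, 6, 2, 16, 14, 6, 4, 8, 6] (.cons [3, 3, 1, 2, 0, 2, 1, 3] .nil .nil) .nil) .nil) (.cons [1, 18, 14, 10, 12, 8, 10, 4, 6, 8, 18, 20, 6, 8, 10, 4, 6, 8, 18, 14, 12, 10, 8, 6, 4, 2, 0] .nil (.cons [8, 18, 14, 10, 12, 8, 10, 4, 6, 8, 18, 20, 6, 8, 10, 4, 6, 8,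 18, 14, 12, 10, 8, 6, 4, 2, 0] .nil (.cons [6, 8, 18, 14, 10, 12, 8, 10, 6, 8, 18, 20, 6, 8, 10, 4, 6, 8, 18, 14, 12, 10, 8, 6, 4, 2, 0] .nil (.cons [10, 12, 8, 6, 10, 8, 1, 10, 2, 1, 4, 6, 8, 18, 20, 12, 10, 8, 18, 14, 12, 10, 8, 6, 4, 2, 1] .nil (.cons [14, 12, 8, 6, 10, 8, 1, 10, 2, 1, 4, 6, 8, 18, 20, 12, 10, 8, 18, 14, 12, 10, 8, 6, 4, 2, 1] .nil (.cons [18, 12, 8, 6, 10, 8, 1, 10, 2, 1, 4, 6, 8, 18, 20, 12, 10, 8, 18, 14, 12, 10, 8, 6, 4, 2, 1] .nil (.cons [20, 18, 8, 6, 10, 8, 1, 10, 2, 1, 4, 6, 8, 18, 20, 12, 10, 8, 18, 14, 12, 10, 8, 6, 4, 2, 1] .nil (.cons [14, 10, 12, 8, 10, 6, 8, 18, 20, 8, 18, 10, 12, 8, 10, 4, 6, 8, 18, 14, 12, 10, 8, 6, 4, 2, 0] (.cons [6, 16, 14, 12, 10, 4, 6, 8, 2, 4, 6, 16, 18, 2, 0, 10,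 16, 6, 4, 2, 8, 6, 4, 16, 6, 8, 10, 12, 14] (.cons [12, 0, 14, 6, 4, 2, 0, 8, 10, 6, 8, 16] (.cons [2, 0, 3, 1, 3, 1, 3] (.cons [3, 1, 3, 0, 2, 2, 0, 3, 1, 1] .nil .nil) .nil) .nil) .nil) (.cons [18, 10, 12, 8, 10, 6, 8, 18, 20, 8, 18, 10, 12, 8, 10, 4, 6, 8, 18, 14, 12, 10, 8, 6, 4, 2, 0] .nil (.cons [1, 14, 12, 8, 10, 6, 8, 18, 20, 8, 18, 10, 12, 8, 10, 4, 6, 8, 18, 14, 12, 10, 8, 6, 4, 2, 0] .nil (.cons [18, 14, 12, 8, 10, 6, 8, 18, 20, 8, 18, 10, 12, 8, 10, 4, 6, 8, 18, 14, 12, 10, 8, 6, 4, 2, 0] .nil (.cons [1, 18, 12, 8, 10, 6, 8, 18, 20, 8, 18, 10, 12, 8, 10, 4, 6, 8, 18, 14, 12, 10, 8, 6, 4, 2, 0] .nil (.cons [20, 18, 12, 8, 10, 6, 8, 18, 20, 8, 18, 10, 12, 8, 10, 4, 6, 8, 18, 14, 12, 10, 8, 6, 4, 2, 0] .nil (.cons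 [14, 12, 8, 10, 2, 4, 6, 8, 18, 20, 18, 10, 12, 8, 10, 4, 6, 8, 18, 14, 12, 10, 8, 6, 4, 2, 0] .nil (.cons [16, 14, 12, 10, 2, 4, 6, 8, 18, 20, 18, 10, 12, 8, 10, 4, 6, 8, 18, 14, 12, 10, 8, 6, 4, 2, 0] .nil (.cons [18, 12, 6, 8, 10, 4, 6, 8, 18, 20, 18, 10, 12, 8, 10, 4, 6, 8, 18, 14, 12, 10, 8, 6, 4, 2, 0] .nil (.cons [8, 18, 6, 8, 10, 4, 6, 8, 18, 20, 18, 10, 12, 8, 10, 4, 6, 8, 18, 14, 12, 10, 8, 6, 4, 2, 0] .nil (.cons [1, 10, 12, 8, 10, 4, 6, 8, 18, 20, 18, 10, 12, 8, 10, 4, 6, 8, 18, 14, 12, 10, 8, 6, 4, 2, 0] .nil (.cons [14, 10, 12, 8, 10, 4, 6, 8, 18, 20, 18, 10, 12, 8, 10, 4, 6, 8, 18, 14, 12, 10, 8, 6, 4, 2, 0] .nil (.cons [18, 14, 12, 8, 10, 4, 6, 8, 18, 20, 18, 10, 12, 8, 10, 4, 6, 8, 18, 14, 12, 10, 8, 6,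 4, 2, 0] (.cons [4, 6, 16, 18, 8, 6, 16, 4, 6, 8, 2, 4, 6, 16, 18, 6, 4, 2, 0, 8, 12, 10, 6, 4, 2, 8, 6, 4, 16, 6, 8, 10, 12, 14] .nil .nil) (.cons [20, 18, 12, 8, 10, 4, 6, 8, 18, 20, 18, 10, 12, 8, 10, 4, 6, 8, 18, 14, 12, 10, 8, 6, 4, 2, 0] .nil (.cons [20, 18, 10, 12, 8, 10, 6, 8, 18, 20, 18, 10, 12, 8, 10, 4, 6, 8, 18, 14, 12, 10, 8, 6, 4, 2, 0] .nil (.cons [1, 18, 14, 12, 8, 10, 6, 8, 18, 20, 18, 10, 12, 8, 10, 4, 6, 8, 18, 14, 12, 10, 8, 6, 4, 2, 0] .nil (.cons [18, 1, 6, 8, 10, 2, 4, 6, 8, 18, 20, 10, 12, 8, 10, 4, 6, 8, 18, 14, 12, 10, 8, 6, 4, 2, 0] .nil (.cons [14, 1, 12, 8, 10, 2, 4, 6, 8, 18, 20, 10, 12, 8, 10, 4, 6, 8, 18, 14, 12, 10, 8, 6, 4, 2, 0] .nil (.cons [1, 12, 6, 8, 10, 2, 4, 6, 8, 18, 20, 10, 12,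 8, 10, 4, 6, 8, 18, 14, 12, 10, 8, 6, 4, 2, 0] .nil (.cons [1, 18, 6, 8, 10, 2, 4, 6, 8, 18, 20, 10, 12, 8, 10, 4, 6, 8, 18, 14, 12, 10, 8, 6, 4, 2, 0] .nil (.cons [8, 18, 6, 8, 10, 2, 4, 6, 8, 18, 20, 10, 12, 8, 10, 4, 6, 8, 18, 14, 12, 10, 8, 6, 4, 2, 0] .nil (.cons [20, 18, 6, 8, 10, 2, 4, 6, 8, 18, 20, 10, 12, 8, 10, 4, 6, 8, 18, 14, 12, 10, 8, 6, 4, 2, 0] (.cons [6, 16, 18, 8, 6, 16, 12, 10, 4, 6, 8, 2, 4, 6, 16, 18, 4, 2, 0, 8, 12, 10, 16, 6, 4, 2, 8, 6, 4, 16, 6, 8, 10, 12, 14] (.cons [14, 16, 10, 8, 6, 14, 6, 4, 8, 16] (.cons [0, 3, 0, 3, 1, 3, 0, 0] (.cons [1, 2, 1, 3, 0, 0, 2, 2, 1, 1] .nil .nil) .nil) .nil) .nil) (.cons [14, 10, 12, 8, 10, 2, 4, 6, 8, 18, 20, 10, 12, 8, 10, 4, 6, 8, 18, 14, 12, 10, 8, 6, 4, 2,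 0] .nil (.cons [1, 14, 12, 8, 10, 2, 4, 6, 8, 18, 20, 10, 12, 8, 10, 4, 6, 8, 18, 14, 12, 10, 8, 6, 4, 2, 0] .nil (.cons [1, 18, 12, 8, 10, 2, 4, 6, 8, 18, 20, 10, 12, 8, 10, 4, 6, 8, 18, 14, 12, 10, 8, 6, 4, 2, 0] .nil (.cons [1, 16, 14, 12, 10, 2, 4, 6, 8, 18, 20, 10, 12, 8, 10, 4, 6, 8, 18, 14, 12, 10, 8, 6, 4, 2, 0] .nil (.cons [1, 10, 12, 6, 8, 10, 4, 6, 8, 18, 20, 10, 12, 8, 10, 4, 6, 8, 18, 14, 12, 10, 8, 6, 4, 2, 0] .nil (.cons [14, 10, 12, 6, 8, 10, 4, 6, 8, 18, 20, 10, 12, 8, 10, 4, 6, 8, 18, 14, 12, 10, 8, 6, 4, 2, 0] .nil (.cons [18, 10, 12, 6, 8, 10, 4, 6, 8, 18, 20, 10, 12, 8, 10, 4, 6, 8, 18, 14, 12, 10, 8, 6, 4, 2, 0] .nil (.cons [18, 14, 12, 6, 8, 10, 4, 6, 8, 18, 20, 10, 12, 8, 10, 4, 6, 8, 18, 14, 12,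 10, 8, 6, 4, 2, 0] .nil (.cons [8, 18, 12, 6, 8, 10, 4, 6, 8, 18, 20, 10, 12, 8, 10, 4, 6, 8, 18, 14, 12, 10, 8, 6, 4, 2, 0] .nil (.cons [20, 18, 12, 6, 8, 10, 4, 6, 8, 18, 20, 10, 12, 8, 10, 4, 6, 8, 18, 14, 12, 10, 8, 6, 4, 2, 0] .nil (.cons [1, 8, 18, 6, 8, 10, 4, 6, 8, 18, 20, 10, 12, 8, 10, 4, 6, 8, 18, 14, 12, 10, 8, 6, 4, 2, 0] (.cons [8, 6, 16, 10, 4, 6, 8, 2, 4, 6, 16, 18, 6, 4, 2, 0, 14, 12, 10, 16, 6, 4, 2, 8, 6, 4, 16, 6, 8, 10, 12, 14] (.cons [12, 10, 16, 14, 6, 4, 2, 6, 8, 10] (.cons [1, 3, 3, 1, 3, 0, 2, 1, 1] .nil .nil) .nil) .nil) (.cons [10, 8, 18, 6, 8, 10, 4, 6, 8, 18, 20, 10, 12, 8, 10, 4, 6, 8, 18, 14, 12, 10, 8, 6, 4, 2, 0] .nil (.cons [18, 14, 10, 12, 8, 10, 4, 6, 8, 18, 20, 10, 12, 8, 10, 4, 6,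 8, 18, 14, 12, 10, 8, 6, 4, 2, 0] .nil (.cons [1, 18, 10, 12, 8, 10, 4, 6, 8, 18, 20, 10, 12, 8, 10, 4, 6, 8, 18, 14, 12, 10, 8, 6, 4, 2, 0] .nil (.cons [20, 18, 10, 12, 8, 10, 4, 6, 8, 18, 20, 10, 12, 8, 10, 4, 6, 8, 18, 14, 12, 10, 8, 6, 4, 2, 0] .nil (.cons [1, 16, 14, 12, 8, 10, 4, 6, 8, 18, 20, 10, 12, 8, 10, 4, 6, 8, 18, 14, 12, 10, 8, 6, 4, 2, 0] .nil (.cons [18, 16, 14, 12, 8, 10, 4, 6, 8, 18, 20, 10, 12, 8, 10, 4, 6, 8, 18, 14, 12, 10, 8, 6, 4, 2, 0] .nil (.cons [20, 18, 14, 12, 8, 10, 4, 6, 8, 18, 20, 10, 12, 8, 10, 4, 6, 8, 18, 14, 12, 10, 8, 6, 4, 2, 0] .nil (.cons [1, 20, 18, 12, 8, 10, 4, 6, 8, 18, 20, 10, 12, 8, 10, 4, 6, 8, 18, 14, 12, 10, 8, 6, 4, 2, 0] .nil (.cons [1, 18, 14, 10, 12, 8, 10, 6, 8, 18, 20,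 10, 12, 8, 10, 4, 6, 8, 18, 14, 12, 10, 8, 6, 4, 2, 0] .nil (.cons [8, 18, 14, 10, 12, 8, 10, 6, 8, 18, 20, 10, 12, 8, 10, 4, 6, 8, 18, 14, 12, 10, 8, 6, 4, 2, 0] .nil (.cons [6, 8, 18, 10, 12, 8, 10, 6, 8, 18, 20, 10, 12, 8, 10, 4, 6, 8, 18, 14, 12, 10, 8, 6, 4, 2, 0] (.cons [8, 6, 16, 18, 0, 6, 8, 12, 10, 16, 6, 4, 2, 8, 6, 4, 16, 6, 8, 10, 12, 14] .nil .nil) (.cons [10, 1, 12, 8, 10, 2, 4, 6, 8, 18, 20, 18, 12, 8, 10, 4, 6, 8, 18, 14, 12, 10, 8, 6, 4, 2, 0] .nil (.cons [18, 1, 12, 8, 10, 2, 4, 6, 8, 18, 20, 18, 12, 8, 10, 4, 6, 8, 18, 14, 12, 10, 8, 6, 4, 2, 0] .nil (.cons [1, 12, 6, 8, 10, 2, 4, 6, 8, 18, 20, 18, 12, 8, 10, 4, 6, 8, 18, 14, 12, 10, 8, 6, 4, 2, 0] .nil (.cons [20, 18, 6, 8, 10, 2, 4, 6, 8, 18, 20, 18,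 12, 8, 10, 4, 6, 8, 18, 14, 12, 10, 8, 6, 4, 2, 0] (.cons [8, 6, 16, 18, 6, 8, 2, 4, 6, 16, 10, 12, 8, 10, 4, 6, 8, 2, 4, 6, 16, 18, 2, 0, 12, 10, 16, 6, 4, 2, 8, 6, 4, 16, 6, 8, 10, 12, 14] (.cons [8, 6, 14, 8, 0, 10, 8, 6, 8] (.cons [1, 3, 1, 3, 0, 0, 0, 2, 1] (.cons [3, 0, 2, 0, 2, 2, 1, 1, 3, 3] .nil .nil) .nil) .nil) .nil) (.cons [18, 14, 12, 8, 10, 2, 4, 6, 8, 18, 20, 18, 12, 8, 10, 4, 6, 8, 18, 14, 12, 10, 8, 6, 4, 2, 0] .nil (.cons [8, 10, 12, 6, 8, 10, 4, 6, 8, 18, 20, 18, 12, 8, 10, 4, 6, 8, 18, 14, 12, 10, 8, 6, 4, 2, 0] .nil (.cons [16, 14, 12, 6, 8, 10, 4, 6, 8, 18, 20, 18, 12, 8, 10, 4, 6, 8, 18, 14, 12, 10, 8, 6, 4, 2, 0] .nil (.cons [8, 18, 12, 6, 8, 10, 4, 6, 8, 18, 20, 18, 12, 8, 10, 4, 6, 8, 18, 14, 12,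 10, 8, 6, 4, 2, 0] .nil (.cons [20, 18, 12, 6, 8, 10, 4, 6, 8, 18, 20, 18, 12, 8, 10, 4, 6, 8, 18, 14, 12, 10, 8, 6, 4, 2, 0] .nil (.cons [10, 8, 18, 6, 8, 10, 4, 6, 8, 18, 20, 18, 12, 8, 10, 4, 6, 8, 18, 14, 12, 10, 8, 6, 4, 2, 0] .nil (.cons [20, 8, 18, 6, 8, 10, 4, 6, 8, 18, 20, 18, 12, 8, 10, 4, 6, 8, 18, 14, 12, 10, 8, 6, 4, 2, 0] .nil (.cons [16, 14, 10, 12, 8, 10, 4, 6, 8, 18, 20, 18, 12, 8, 10, 4, 6, 8, 18, 14, 12, 10, 8, 6, 4, 2, 0] .nil (.cons [20, 18, 10, 12, 8, 10, 4, 6, 8, 18, 20, 18, 12, 8, 10, 4, 6, 8, 18, 14, 12, 10, 8, 6, 4, 2, 0] .nil (.cons [1, 16, 14, 12, 8, 10, 4, 6, 8, 18, 20, 18, 12, 8, 10, 4, 6, 8, 18, 14, 12, 10, 8, 6, 4, 2, 0] .nil (.cons [20, 18, 14, 12, 8, 10, 4, 6, 8, 18, 20, 18, 12, 8, 10,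 4, 6, 8, 18, 14, 12, 10, 8, 6, 4, 2, 0] .nil (.cons [1, 20, 18, 12, 8, 10, 4, 6, 8, 18, 20, 18, 12, 8, 10, 4, 6, 8, 18, 14, 12, 10, 8, 6, 4, 2, 0] .nil (.cons [1, 18, 14, 10, 12, 8, 10, 6, 8, 18, 20, 18, 12, 8, 10, 4, 6, 8, 18, 14, 12, 10, 8, 6, 4, 2, 0] .nil (.cons [1, 18, 16, 14, 12, 8, 10, 6, 8, 18, 20, 18, 12, 8, 10, 4, 6, 8, 18, 14, 12, 10, 8, 6, 4, 2, 0] (.cons [18, 2, 4, 8, 10, 12, 16, 6, 8, 10, 4, 6, 16, 6, 4, 2, 8, 6, 4, 0, 2, 4, 6, 10, 8, 16, 18, 6, 4, 16, 6, 8, 10, 12, 14] (.cons [10, 6, 14, 2, 8, 6, 4, 2, 14, 6, 8] (.cons [1, 1, 3, 1, 3, 3, 1, 3, 0] (.cons [3, 0, 3, 3, 1, 3, 1, 1, 2] .nil .nil) .nil) .nil) .nil) (.cons [2, 1, 4, 6, 8, 10, 2, 4, 6, 8, 18, 20, 12, 8, 10, 4, 6, 8, 18, 14, 12, 10, 8, 6, 4, 2, 0]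 .nil (.cons [18, 1, 4, 6, 8, 10, 2, 4, 6, 8, 18, 20, 12, 8, 10, 4, 6, 8, 18, 14, 12, 10, 8, 6, 4, 2, 0] .nil (.cons [14, 1, 12, 6, 8, 10, 2, 4, 6, 8, 18, 20, 12, 8, 10, 4, 6, 8, 18, 14, 12, 10, 8, 6, 4, 2, 0] .nil (.cons [18, 1, 12, 6, 8, 10, 2, 4, 6, 8, 18, 20, 12, 8, 10, 4, 6, 8, 18, 14, 12, 10, 8, 6, 4, 2, 0] .nil (.cons [14, 1, 10, 12, 8, 10, 2, 4, 6, 8, 18, 20, 12, 8, 10, 4, 6, 8, 18, 14, 12, 10, 8, 6, 4, 2, 0] .nil (.cons [16, 1, 14, 12, 8, 10, 2, 4, 6, 8, 18, 20, 12, 8, 10, 4, 6, 8, 18, 14, 12, 10, 8, 6, 4, 2, 0] .nil (.cons [18, 1, 14, 12, 8, 10, 2, 4, 6, 8, 18, 20, 12, 8, 10, 4, 6, 8, 18, 14, 12, 10, 8, 6, 4, 2, 0] .nil (.cons [14, 12, 4, 6, 8, 10, 2, 4, 6, 8, 18, 20, 12, 8, 10, 4, 6, 8, 18, 14, 12, 10, 8, 6, 4,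 2, 0] .nil (.cons [8, 18, 4, 6, 8, 10, 2, 4, 6, 8, 18, 20, 12, 8, 10, 4, 6, 8, 18, 14, 12, 10, 8, 6, 4, 2, 0] .nil (.cons [1, 10, 12, 6, 8, 10, 2, 4, 6, 8, 18, 20, 12, 8, 10, 4, 6, 8, 18, 14, 12, 10, 8, 6, 4, 2, 0] .nil (.cons [8, 10, 12, 6, 8, 10, 2, 4, 6, 8, 18, 20, 12, 8, 10, 4, 6, 8, 18, 14, 12, 10, 8, 6, 4, 2, 0] .nil (.cons [14, 10, 12, 6, 8, 10, 2, 4, 6, 8, 18, 20, 12, 8, 10, 4, 6, 8, 18, 14, 12, 10, 8, 6, 4, 2, 0] .nil (.cons [16, 14, 12, 6, 8, 10, 2, 4, 6, 8, 18, 20, 12, 8, 10, 4, 6, 8, 18, 14, 12, 10, 8, 6, 4, 2, 0] .nil (.cons [8, 18, 12, 6, 8, 10, 2, 4, 6, 8, 18, 20, 12, 8, 10, 4, 6, 8, 18, 14, 12, 10, 8, 6, 4, 2, 0] .nil (.cons [20, 18, 12, 6, 8, 10, 2, 4, 6, 8, 18, 20, 12, 8, 10, 4, 6, 8, 18, 14, 12, 10, 8,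 6, 4, 2, 0] .nil (.cons [10, 8, 18, 6, 8, 10, 2, 4, 6, 8, 18, 20, 12, 8, 10, 4, 6, 8, 18, 14, 12, 10, 8, 6, 4, 2, 0] .nil (.cons [20, 8, 18, 6, 8, 10, 2, 4, 6, 8, 18, 20, 12, 8, 10, 4, 6, 8, 18, 14, 12, 10, 8, 6, 4, 2, 0] .nil (.cons [1, 14, 10, 12, 8, 10, 2, 4, 6, 8, 18, 20, 12, 8, 10, 4, 6, 8, 18, 14, 12, 10, 8, 6, 4, 2, 0] .nil (.cons [12, 14, 10, 12, 8, 10, 2, 4, 6, 8, 18, 20, 12, 8, 10, 4, 6, 8, 18, 14, 12, 10, 8, 6, 4, 2, 0] .nil (.cons [16, 14, 10, 12, 8, 10, 2, 4, 6, 8, 18, 20, 12, 8, 10, 4, 6, 8, 18, 14, 12, 10, 8, 6, 4, 2, 0] .nil (.cons [18, 14, 10, 12, 8, 10, 2, 4, 6, 8, 18, 20, 12, 8, 10, 4, 6, 8, 18, 14, 12, 10, 8, 6, 4, 2, 0] (.cons [18, 6, 16, 8, 6, 4, 2, 0, 14, 12, 10, 8, 2, 4, 6, 16, 18, 8, 10, 6, 4, 2,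 8, 6, 4, 16, 6, 8, 10, 12, 14] (.cons [0, 2, 8, 16] (.cons [0, 3, 1, 2, 1, 2, 2, 1, 3] (.cons [0, 3, 1, 3, 3, 0, 3, 0, 3, 1] .nil .nil) .nil) .nil) .nil) (.cons [1, 18, 10, 12, 8, 10, 2, 4, 6, 8, 18, 20, 12, 8, 10, 4, 6, 8, 18, 14, 12, 10, 8, 6, 4, 2, 0] .nil (.cons [8, 18, 10, 12, 8, 10, 2, 4, 6, 8, 18, 20, 12, 8, 10, 4, 6, 8, 18, 14, 12, 10, 8, 6, 4, 2, 0] .nil (.cons [1, 18, 14, 12, 8, 10, 2, 4, 6, 8, 18, 20, 12, 8, 10, 4, 6, 8, 18, 14, 12, 10, 8, 6, 4, 2, 0] (.cons [14, 12, 8, 10, 6, 8, 4, 6, 16, 18, 2, 0, 10, 6, 4, 2, 8, 6, 4, 16, 6, 8, 10, 12, 14] (.cons [8, 10, 8, 6, 8, 10, 0, 2, 4, 6, 14, 8, 16] (.cons [1, 3, 0, 3, 3, 0, 2, 1, 1, 3] (.cons [0, 0, 2, 2, 0, 3, 0, 2, 0] .nil .nil) .nil) .nil) .nil) (.cons [14, 8, 10,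 12, 6, 8, 10, 4, 6, 8, 18, 20, 12, 8, 10, 4, 6, 8, 18, 14, 12, 10, 8, 6, 4, 2, 0] .nil (.cons [12, 14, 10, 12, 6, 8, 10, 4, 6, 8, 18, 20, 12, 8, 10, 4, 6, 8, 18, 14, 12, 10, 8, 6, 4, 2, 0] .nil (.cons [18, 14, 10, 12, 6, 8, 10, 4, 6, 8, 18, 20, 12, 8, 10, 4, 6, 8, 18, 14, 12, 10, 8, 6, 4, 2, 0] .nil (.cons [20, 18, 10, 12, 6, 8, 10, 4, 6, 8, 18, 20, 12, 8, 10, 4, 6, 8, 18, 14, 12, 10, 8, 6, 4, 2, 0] .nil (.cons [1, 16, 14, 12, 6, 8, 10, 4, 6, 8, 18, 20, 12, 8, 10, 4, 6, 8, 18, 14, 12, 10, 8, 6, 4, 2, 0] .nil (.cons [18, 16, 14, 12, 6, 8, 10, 4, 6, 8, 18, 20, 12, 8, 10, 4, 6, 8, 18, 14, 12, 10, 8, 6, 4, 2, 0] .nil (.cons [1, 18, 14, 12, 6, 8, 10, 4, 6, 8, 18, 20, 12, 8, 10, 4, 6, 8, 18, 14, 12, 10, 8, 6, 4, 2, 0] .nil (.cons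 [8, 18, 14, 12, 6, 8, 10, 4, 6, 8, 18, 20, 12, 8, 10, 4, 6, 8, 18, 14, 12, 10, 8, 6, 4, 2, 0] .nil (.cons [20, 18, 14, 12, 6, 8, 10, 4, 6, 8, 18, 20, 12, 8, 10, 4, 6, 8, 18, 14, 12, 10, 8, 6, 4, 2, 0] .nil (.cons [10, 8, 18, 12, 6, 8, 10, 4, 6, 8, 18, 20, 12, 8, 10, 4, 6, 8, 18, 14, 12, 10, 8, 6, 4, 2, 0] .nil (.cons [1, 20, 18, 12, 6, 8, 10, 4, 6, 8, 18, 20, 12, 8, 10, 4, 6, 8, 18, 14, 12, 10, 8, 6, 4, 2, 0] .nil (.cons [1, 10, 8, 18, 6, 8, 10, 4, 6, 8, 18, 20, 12, 8, 10, 4, 6, 8, 18, 14, 12, 10, 8, 6, 4, 2, 0] (.cons [8, 6, 16, 8, 10, 4, 6, 8, 0, 2, 4, 6, 16, 18, 2, 0, 14, 12, 10, 16, 6, 4, 2, 8, 6, 4, 16, 6, 8, 10, 12, 14] (.cons [2, 4, 0, 6, 14, 4, 2, 0, 10, 8, 6, 8] (.cons [2, 0, 2, 2, 1, 1, 1, 1, 3] (.cons [3, 3,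 3, 0, 3, 3] .nil .nil) .nil) .nil) .nil) (.cons [1, 16, 14, 10, 12, 8, 10, 4, 6, 8, 18, 20, 12, 8, 10, 4, 6, 8, 18, 14, 12, 10, 8, 6, 4, 2, 0] .nil (.cons [18, 16, 14, 10, 12, 8, 10, 4, 6, 8, 18, 20, 12, 8, 10, 4, 6, 8, 18, 14, 12, 10, 8, 6, 4, 2, 0] .nil (.cons [20, 18, 14, 10, 12, 8, 10, 4, 6, 8, 18, 20, 12, 8, 10, 4, 6, 8, 18, 14, 12, 10, 8, 6, 4, 2, 0] .nil (.cons [6, 8, 18, 10, 12, 8, 10, 4, 6, 8, 18, 20, 12, 8, 10, 4, 6, 8, 18, 14, 12, 10, 8, 6, 4, 2, 0] .nil (.cons [1, 18, 16, 14, 12, 8, 10, 4, 6, 8, 18, 20, 12, 8, 10, 4, 6, 8, 18, 14, 12, 10, 8, 6, 4, 2, 0] .nil (.cons [1, 20, 18, 14, 12, 8, 10, 4, 6, 8, 18, 20, 12, 8, 10, 4, 6, 8, 18, 14, 12, 10, 8, 6, 4, 2, 0] .nil (.cons [1, 18, 16, 14, 10, 12, 8, 10, 6, 8, 18,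 20, 12, 8, 10, 4, 6, 8, 18, 14, 12, 10, 8, 6, 4, 2, 0] .nil (.cons [20, 6, 8, 18, 10, 12, 8, 10, 6, 8, 18, 20, 12, 8, 10, 4, 6, 8, 18, 14, 12, 10, 8, 6, 4, 2, 0] .nil (.cons [1, 20, 18, 16, 14, 12, 8, 10, 6, 8, 18, 20, 12, 8, 10, 4, 6, 8, 18, 14, 12, 10, 8, 6, 4, 2, 0] .nil (.cons [16, 10, 14, 12, 6, 8, 10, 4, 6, 8, 18, 20, 18, 8, 10, 4, 6, 8, 18, 14, 12, 10, 8, 6, 4, 2, 0] .nil (.cons [8, 18, 10, 12, 6, 8, 10, 4, 6, 8, 18, 20, 18, 8, 10, 4, 6, 8, 18, 14, 12, 10, 8, 6, 4, 2, 0] (.cons [18, 10, 6, 8, 4, 6, 16, 10, 12, 8, 10, 4, 6, 8, 0, 2, 4, 6, 16, 18, 2, 0, 12, 10, 16, 6, 4, 2, 8, 6, 4, 16, 6, 8, 10, 12, 14] (.cons [14, 6, 4, 12, 6, 8] (.cons [3, 1, 3, 0, 0, 2, 0, 3, 1, 1] .nil .nil) .nil) .nil) (.cons [1, 16, 14, 10,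 12, 8, 10, 4, 6, 8, 18, 20, 18, 8, 10, 4, 6, 8, 18, 14, 12, 10, 8, 6, 4, 2, 0] .nil (.cons [8, 1, 10, 12, 6, 8, 10, 2, 4, 6, 8, 18, 20, 8, 10, 4, 6, 8, 18, 14, 12, 10, 8, 6, 4, 2, 0] .nil (.cons [8, 1, 18, 10, 12, 8, 10, 2, 4, 6, 8, 18, 20, 8, 10, 4, 6, 8, 18, 14, 12, 10, 8, 6, 4, 2, 0] .nil (.cons [8, 18, 10, 12, 6, 8, 10, 2, 4, 6, 8, 18, 20, 8, 10, 4, 6, 8, 18, 14, 12, 10, 8, 6, 4, 2, 0] .nil (.cons [6, 8, 18, 10, 12, 8, 10, 2, 4, 6, 8, 18, 20, 8, 10, 4, 6, 8, 18, 14, 12, 10, 8, 6, 4, 2, 0] .nil (.cons [18, 14, 8, 10, 12, 6, 8, 10, 4, 6, 8, 18, 20, 8, 10, 4, 6, 8, 18, 14, 12, 10, 8, 6, 4, 2, 0] .nil (.cons [8, 18, 8, 10, 12, 6, 8, 10, 4, 6, 8, 18, 20, 8, 10, 4, 6, 8, 18, 14, 12, 10, 8, 6, 4, 2, 0] .nil (.cons [20, 18,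 8, 10, 12, 6, 8, 10, 4, 6, 8, 18, 20, 8, 10, 4, 6, 8, 18, 14, 12, 10, 8, 6, 4, 2, 0] .nil (.cons [1, 16, 14, 10, 12, 6, 8, 10, 4, 6, 8, 18, 20, 8, 10, 4, 6, 8, 18, 14, 12, 10, 8, 6, 4, 2, 0] .nil (.cons [2, 4, 6, 8, 18, 10, 12, 8, 10, 6, 8, 18, 20, 8, 10, 4, 6, 8, 18, 14, 12, 10, 8, 6, 4, 2, 0] .nil (.cons [1, 8, 2, 1, 4, 6, 8, 10, 2, 4, 6, 8, 18, 20, 12, 10, 6, 8, 18, 14, 12, 10, 8, 6, 4, 2, 0] (.cons [6, 4, 2, 0, 12, 10, 8, 2, 4, 6, 16, 18, 14, 8, 12, 10, 6, 4, 2, 8, 6, 4, 16, 6, 8, 10, 12, 14] (.cons [14, 2, 4, 12, 2, 10, 8] (.cons [2, 2, 0, 2, 1, 2, 2, 0, 0, 2] (.cons [2, 0, 3, 0] .nil .nil) .nil) .nil) .nil) (.cons [18, 1, 10, 12, 6, 8, 10, 2, 4, 6, 8, 18, 20, 12, 10, 4, 6, 8, 18, 14, 12, 10, 8, 6, 4, 2, 0] .nil (.cons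 [16, 1, 14, 12, 6, 8, 10, 2, 4, 6, 8, 18, 20, 12, 10, 4, 6, 8, 18, 14, 12, 10, 8, 6, 4, 2, 0] .nil (.cons [18, 1, 14, 12, 6, 8, 10, 2, 4, 6, 8, 18, 20, 12, 10, 4, 6, 8, 18, 14, 12, 10, 8, 6, 4, 2, 0] .nil (.cons [20, 1, 18, 10, 12, 8, 10, 2, 4, 6, 8, 18, 20, 12, 10, 4, 6, 8, 18, 14, 12, 10, 8, 6, 4, 2, 0] .nil (.cons [18, 1, 16, 14, 12, 8, 10, 2, 4, 6, 8, 18, 20, 12, 10, 4, 6, 8, 18, 14, 12, 10, 8, 6, 4, 2, 0] .nil (.cons [1, 14, 12, 4, 6, 8, 10, 2, 4, 6, 8, 18, 20, 12, 10, 4, 6, 8, 18, 14, 12, 10, 8, 6, 4, 2, 0] .nil (.cons [1, 20, 18, 4, 6, 8, 10, 2, 4, 6, 8, 18, 20, 12, 10, 4, 6, 8, 18, 14, 12, 10, 8, 6, 4, 2, 0] .nil (.cons [1, 18, 10, 12, 6, 8, 10, 2, 4, 6, 8, 18, 20, 12, 10, 4, 6, 8, 18, 14, 12, 10, 8, 6, 4, 2, 0]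 .nil (.cons [8, 18, 10, 12, 6, 8, 10, 2, 4, 6, 8, 18, 20, 12, 10, 4, 6, 8, 18, 14, 12, 10, 8, 6, 4, 2, 0] .nil (.cons [1, 18, 14, 12, 6, 8, 10, 2, 4, 6, 8, 18, 20, 12, 10, 4, 6, 8, 18, 14, 12, 10, 8, 6, 4, 2, 0] (.cons [6, 8, 4, 6, 12, 0, 2, 4, 6, 8, 10, 16, 6, 8, 4, 6, 16, 18, 2, 0, 4, 2, 6, 4, 16, 6, 8, 10, 12, 14] (.cons [2, 0, 2, 4, 10, 8, 16, 14, 6, 8] (.cons [3, 0, 3, 1, 1, 2, 1, 2, 2, 1] (.cons [1, 2, 2, 0, 2, 1, 3, 1, 3, 3] .nil .nil) .nil) .nil) .nil) (.cons [8, 18, 14, 12, 6, 8, 10, 2, 4, 6, 8, 18, 20, 12, 10, 4, 6, 8, 18, 14, 12, 10, 8, 6, 4, 2, 0] .nil (.cons [20, 8, 18, 12, 6, 8, 10, 2, 4, 6, 8, 18, 20, 12, 10, 4, 6, 8, 18, 14, 12, 10, 8, 6, 4, 2, 0] .nil (.cons [12, 10, 8, 18, 6, 8, 10, 2, 4, 6, 8, 18, 20,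 12, 10, 4, 6, 8, 18, 14, 12, 10, 8, 6, 4, 2, 0] (.cons [16, 18, 4, 6, 16, 10, 12, 8, 10, 4, 6, 8, 2, 4, 6, 16, 18, 4, 2, 0, 12, 10, 16, 6, 4, 2, 8, 6, 4, 16, 6, 8, 10, 12, 14] (.cons [2, 4, 6, 14, 6, 4, 2, 6, 4] .nil .nil) .nil) (.cons [1, 8, 18, 10, 12, 8, 10, 2, 4, 6, 8, 18, 20, 12, 10, 4, 6, 8, 18, 14, 12, 10, 8, 6, 4, 2, 0] .nil (.cons [1, 20, 18, 10, 12, 8, 10, 2, 4, 6, 8, 18, 20, 12, 10, 4, 6, 8, 18, 14, 12, 10, 8, 6, 4, 2, 0] .nil (.cons [10, 8, 18, 10, 12, 6, 8, 10, 4, 6, 8, 18, 20, 12, 10, 4, 6, 8, 18, 14, 12, 10, 8, 6, 4, 2, 0] .nil (.cons [20, 8, 18, 10, 12, 6, 8, 10, 4, 6, 8, 18, 20, 12, 10, 4, 6, 8, 18, 14, 12, 10, 8, 6, 4, 2, 0] .nil (.cons [1, 18, 16, 14, 12, 6, 8, 10, 4, 6, 8, 18, 20, 12, 10, 4, 6, 8, 18,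 14, 12, 10, 8, 6, 4, 2, 0] .nil (.cons [20, 18, 16, 14, 12, 6, 8, 10, 4, 6, 8, 18, 20, 12, 10, 4, 6, 8, 18, 14, 12, 10, 8, 6, 4, 2, 0] .nil (.cons [10, 8, 18, 14, 12, 6, 8, 10, 4, 6, 8, 18, 20, 12, 10, 4, 6, 8, 18, 14, 12, 10, 8, 6, 4, 2, 0] .nil (.cons [20, 8, 18, 14, 12, 6, 8, 10, 4, 6, 8, 18, 20, 12, 10, 4, 6, 8, 18, 14, 12, 10, 8, 6, 4, 2, 0] .nil (.cons [12, 10, 8, 18, 12, 6, 8, 10, 4, 6, 8, 18, 20, 12, 10, 4, 6, 8, 18, 14, 12, 10, 8, 6, 4, 2, 0] .nil (.cons [20, 10, 8, 18, 12, 6, 8, 10, 4, 6, 8, 18, 20, 12, 10, 4, 6, 8, 18, 14, 12, 10, 8, 6, 4, 2, 0] .nil (.cons [1, 20, 10, 8, 18, 6, 8, 10, 4, 6, 8, 18, 20, 12, 10, 4, 6, 8, 18, 14, 12, 10, 8, 6, 4, 2, 0] .nil (.cons [18, 20, 10, 8, 18, 6, 8, 10, 4, 6, 8, 18, 20, 12,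 10, 4, 6, 8, 18, 14, 12, 10, 8, 6, 4, 2, 0] .nil (.cons [1, 18, 20, 8, 18, 6, 8, 10, 4, 6, 8, 18, 20, 12, 10, 4, 6, 8, 18, 14, 12, 10, 8, 6, 4, 2, 0] .nil (.cons [4, 6, 8, 18, 10, 12, 8, 10, 4, 6, 8, 18, 20, 12, 10, 4, 6, 8, 18, 14, 12, 10, 8, 6, 4, 2, 0] .nil (.cons [2, 4, 6, 8, 18, 10, 12, 8, 10, 6, 8, 18, 20, 12, 10, 4, 6, 8, 18, 14, 12, 10, 8, 6, 4, 2, 0] .nil (.cons [1, 4, 6, 8, 18, 10, 12, 8, 10, 4, 6, 8, 18, 20, 10, 4, 6, 8, 18, 14, 12, 10, 8, 6, 4, 2, 0] .nil (.cons [2, 4, 6, 8, 18, 10, 12, 8, 10, 4, 6, 8, 18, 20, 10, 4, 6, 8, 18, 14, 12, 10, 8, 6, 4, 2, 0] .nil (.cons [0, 2, 4, 6, 8, 18, 10, 12, 8, 10, 6, 8, 18, 20, 10, 4, 6, 8, 18, 14, 12, 10, 8, 6, 4, 2, 0] .nil (.cons [14, 12, 6, 8, 10, 2, 4, 6, 8, 18, 20, 18,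 10, 12, 8, 10, 6, 8, 18, 14, 12, 10, 8, 6, 4, 2, 0] .nil (.cons [10, 6, 1, 8, 10, 2, 1, 4, 6, 8, 18, 20, 12, 8, 10, 4, 6, 8, 18, 14, 12, 10, 8, 6, 4, 2, 0] .nil (.cons [20, 6, 1, 8, 10, 2, 1, 4, 6, 8, 18, 20, 12, 8, 10, 4, 6, 8, 18, 14, 12, 10, 8, 6, 4, 2, 0] .nil (.cons [2, 1, 4, 6, 8, 10, 2, 4, 6, 8, 18, 20, 10, 12, 8, 10, 6, 8, 18, 14, 12, 10, 8, 6, 4, 2, 0] .nil (.cons [18, 1, 4, 6, 8, 10, 2, 4, 6, 8, 18, 20, 10, 12, 8, 10, 6, 8, 18, 14, 12, 10, 8, 6, 4, 2, 0] .nil (.cons [14, 12, 4, 6, 8, 10, 2, 4, 6, 8, 18, 20, 10, 12, 8, 10, 6, 8, 18, 14, 12, 10, 8, 6, 4, 2, 0] .nil (.cons [1, 10, 12, 6, 8, 10, 2, 4, 6, 8, 18, 20, 10, 12, 8, 10, 6, 8, 18, 14, 12, 10, 8, 6, 4, 2, 0] .nil (.cons [8, 10, 12, 6, 8, 10, 2, 4, 6, 8, 18,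 20, 10, 12, 8, 10, 6, 8, 18, 14, 12, 10, 8, 6, 4, 2, 0] .nil (.cons [18, 10, 12, 6, 8, 10, 2, 4, 6, 8, 18, 20, 10, 12, 8, 10, 6, 8, 18, 14, 12, 10, 8, 6, 4, 2, 0] .nil (.cons [1, 14, 10, 12, 6, 8, 10, 4, 6, 8, 18, 20, 10, 12, 8, 10, 6, 8, 18, 14, 12, 10, 8, 6, 4, 2, 0] .nil (.cons [8, 18, 10, 12, 6, 8, 10, 4, 6, 8, 18, 20, 10, 12, 8, 10, 6, 8, 18, 14, 12, 10, 8, 6, 4, 2, 0] .nil (.cons [1, 16, 14, 12, 6, 8, 10, 4, 6, 8, 18, 20, 10, 12, 8, 10, 6, 8, 18, 14, 12, 10, 8, 6, 4, 2, 0] (.cons [18, 16, 6, 8, 10, 4, 6, 8, 0, 2, 4, 6, 16, 18, 0, 12, 10, 16, 6, 4, 2, 8, 6, 4, 16, 6, 8, 10, 12, 14] (.cons [6, 4, 0, 8, 10, 6, 8, 16] (.cons [3, 0, 0, 3, 1, 1, 1, 3, 1, 2, 1] (.cons [2, 1, 2, 0, 2, 1, 1, 3, 3, 1] .nil .nil) .nil) .nil)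 .nil) (.cons [10, 8, 18, 12, 6, 8, 10, 4, 6, 8, 18, 20, 10, 12, 8, 10, 6, 8, 18, 14, 12, 10, 8, 6, 4, 2, 0] .nil (.cons [20, 10, 8, 18, 6, 8, 10, 4, 6, 8, 18, 20, 10, 12, 8, 10, 6, 8, 18, 14, 12, 10, 8, 6, 4, 2, 0] .nil (.cons [1, 20, 8, 18, 6, 8, 10, 4, 6, 8, 18, 20, 10, 12, 8, 10, 6, 8, 18, 14, 12, 10, 8, 6, 4, 2, 0] .nil (.cons [18, 20, 8, 18, 6, 8, 10, 4, 6, 8, 18, 20, 10, 12, 8, 10, 6, 8, 18, 14, 12, 10, 8, 6, 4, 2, 0] .nil (.cons [2, 1, 4, 6, 8, 10, 2, 4, 6, 8, 18, 20, 18, 12, 8, 10, 6, 8, 18, 14, 12, 10, 8, 6, 4, 2, 0] .nil (.cons [1, 12, 4, 6, 8, 10, 2, 4, 6, 8, 18, 20, 18, 12, 8, 10, 6, 8, 18, 14, 12, 10, 8, 6, 4, 2, 0] .nil (.cons [14, 12, 4, 6, 8, 10, 2, 4, 6, 8, 18, 20, 18, 12, 8, 10, 6, 8, 18, 14, 12, 10, 8,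 6, 4, 2, 0] (.cons [8, 6, 16, 18, 6, 8, 16, 6, 4, 2, 8, 6, 16, 14, 10, 12, 8, 10, 6, 8, 4, 6, 16, 18, 2, 0, 8, 10, 6, 4, 2, 8, 6, 4, 16, 6, 8, 10, 12, 14] (.cons [2, 12, 8, 6, 4, 14, 8, 6, 14] (.cons [2, 1, 2, 1, 1, 3, 1, 1, 2] .nil .nil) .nil) .nil) (.cons [18, 12, 4, 6, 8, 10, 2, 4, 6, 8, 18, 20, 18, 12, 8, 10, 6, 8, 18, 14, 12, 10, 8, 6, 4, 2, 0] .nil (.cons [10, 8, 18, 6, 8, 10, 2, 4, 6, 8, 18, 20, 18, 12, 8, 10, 6, 8, 18, 14, 12, 10, 8, 6, 4, 2, 0] .nil (.cons [18, 8, 10, 12, 6, 8, 10, 4, 6, 8, 18, 20, 18, 12, 8, 10, 6, 8, 18, 14, 12, 10, 8, 6, 4, 2, 0] .nil (.cons [1, 16, 14, 12, 6, 8, 10, 4, 6, 8, 18, 20, 18, 12, 8, 10, 6, 8, 18, 14, 12, 10, 8, 6, 4, 2, 0] .nil (.cons [10, 8, 18, 12, 6, 8, 10, 4, 6, 8, 18, 20, 18,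 12, 8, 10, 6, 8, 18, 14, 12, 10, 8, 6, 4, 2, 0] .nil (.cons [1, 10, 8, 18, 6, 8, 10, 4, 6, 8, 18, 20, 18, 12, 8, 10, 6, 8, 18, 14, 12, 10, 8, 6, 4, 2, 0] .nil (.cons [1, 20, 8, 18, 6, 8, 10, 4, 6, 8, 18, 20, 18, 12, 8, 10, 6, 8, 18, 14, 12, 10, 8, 6, 4, 2, 0] .nil (.cons [18, 20, 8, 18, 6, 8, 10, 4, 6, 8, 18, 20, 18, 12, 8, 10, 6, 8, 18, 14, 12, 10, 8, 6, 4, 2, 0] .nil (.cons [12, 2, 4, 1, 6, 8, 10, 2, 4, 6, 8, 18, 20, 12, 8, 10, 6, 8, 18, 14, 12, 10, 8, 6, 4, 2, 0] .nil (.cons [18, 2, 4, 1, 6, 8, 10, 2, 4, 6, 8, 18, 20, 12, 8, 10, 6, 8, 18, 14, 12, 10, 8, 6, 4, 2, 0] .nil (.cons [10, 1, 12, 4, 6, 8, 10, 2, 4, 6, 8, 18, 20, 12, 8, 10, 6, 8, 18, 14, 12, 10, 8, 6, 4, 2, 0] .nil (.cons [14, 1, 12, 4, 6, 8, 10, 2, 4, 6, 8,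 18, 20, 12, 8, 10, 6, 8, 18, 14, 12, 10, 8, 6, 4, 2, 0] .nil (.cons [18, 1, 12, 4, 6, 8, 10, 2, 4, 6, 8, 18, 20, 12, 8, 10, 6, 8, 18, 14, 12, 10, 8, 6, 4, 2, 0] .nil (.cons [8, 1, 18, 4, 6, 8, 10, 2, 4, 6, 8, 18, 20, 12, 8, 10, 6, 8, 18, 14, 12, 10, 8, 6, 4, 2, 0] .nil (.cons [16, 1, 14, 12, 6, 8, 10, 2, 4, 6, 8, 18, 20, 12, 8, 10, 6, 8, 18, 14, 12, 10, 8, 6, 4, 2, 0] .nil (.cons [18, 1, 14, 12, 6, 8, 10, 2, 4, 6, 8, 18, 20, 12, 8, 10, 6, 8, 18, 14, 12, 10, 8, 6, 4, 2, 0] .nil (.cons [18, 1, 16, 14, 12, 8, 10, 2, 4, 6, 8, 18, 20, 12, 8, 10, 6, 8, 18, 14, 12, 10, 8, 6, 4, 2, 0] .nil (.cons [8, 10, 12, 4, 6, 8, 10, 2, 4, 6, 8, 18, 20, 12, 8, 10, 6, 8, 18, 14, 12, 10, 8, 6, 4, 2, 0] .nil (.cons [18, 10, 12, 4, 6, 8, 10, 2,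 4, 6, 8, 18, 20, 12, 8, 10, 6, 8, 18, 14, 12, 10, 8, 6, 4, 2, 0] .nil (.cons [16, 14, 12, 4, 6, 8, 10, 2, 4, 6, 8, 18, 20, 12, 8, 10, 6, 8, 18, 14, 12, 10, 8, 6, 4, 2, 0] .nil (.cons [8, 18, 12, 4, 6, 8, 10, 2, 4, 6, 8, 18, 20, 12, 8, 10, 6, 8, 18, 14, 12, 10, 8, 6, 4, 2, 0] .nil (.cons [10, 8, 18, 4, 6, 8, 10, 2, 4, 6, 8, 18, 20, 12, 8, 10, 6, 8, 18, 14, 12, 10, 8, 6, 4, 2, 0] .nil (.cons [18, 8, 10, 12, 6, 8, 10, 2, 4, 6, 8, 18, 20, 12, 8, 10, 6, 8, 18, 14, 12, 10, 8, 6, 4, 2, 0] .nil (.cons [8, 18, 10, 12, 6, 8, 10, 2, 4, 6, 8, 18, 20, 12, 8, 10, 6, 8, 18, 14, 12, 10, 8, 6, 4, 2, 0] .nil (.cons [18, 16, 14, 12, 6, 8, 10, 2, 4, 6, 8, 18, 20, 12, 8, 10, 6, 8, 18, 14, 12, 10, 8, 6, 4, 2, 0] .nil (.cons [8, 18, 14, 12, 6,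 8, 10, 2, 4, 6, 8, 18, 20, 12, 8, 10, 6, 8, 18, 14, 12, 10, 8, 6, 4, 2, 0] .nil (.cons [12, 10, 8, 18, 6, 8, 10, 2, 4, 6, 8, 18, 20, 12, 8, 10, 6, 8, 18, 14, 12, 10, 8, 6, 4, 2, 0] .nil (.cons [1, 16, 14, 10, 12, 6, 8, 10, 4, 6, 8, 18, 20, 12, 8, 10, 6, 8, 18, 14, 12, 10, 8, 6, 4, 2, 0] .nil (.cons [10, 8, 18, 10, 12, 6, 8, 10, 4, 6, 8, 18, 20, 12, 8, 10, 6, 8, 18, 14, 12, 10, 8, 6, 4, 2, 0] .nil (.cons [8, 18, 16, 14, 12, 6, 8, 10, 4, 6, 8, 18, 20, 12, 8, 10, 6, 8, 18, 14, 12, 10, 8, 6, 4, 2, 0] .nil (.cons [1, 10, 8, 18, 12, 6, 8, 10, 4, 6, 8, 18, 20, 12, 8, 10, 6, 8, 18, 14, 12, 10, 8, 6, 4, 2, 0] .nil (.cons [1, 12, 10, 8, 18, 6, 8, 10, 4, 6, 8, 18, 20, 12, 8, 10, 6, 8, 18, 14, 12, 10, 8, 6, 4, 2, 0] .nil (.cons [1,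 20, 10, 8, 18, 6, 8, 10, 4, 6, 8, 18, 20, 12, 8, 10, 6, 8, 18, 14, 12, 10, 8, 6, 4, 2, 0] .nil (.cons [16, 12, 1, 8, 10, 2, 1, 4, 6, 8, 18, 20, 12, 8, 10, 4, 6, 8, 18, 14, 12, 10, 8, 6, 4, 2, 0] .nil (.cons [18, 12, 1, 8, 10, 2, 1, 4, 6, 8, 18, 20, 12, 8, 10, 4, 6, 8, 18, 14, 12, 10, 8, 6, 4, 2, 0] .nil (.cons [1, 18, 8, 10, 12, 6, 8, 10, 4, 6, 8, 18, 20, 18, 8, 10, 6, 8, 18, 14, 12, 10, 8, 6, 4, 2, 0] .nil (.cons [18, 1, 8, 10, 12, 6, 8, 10, 2, 4, 6, 8, 18, 20, 8, 10, 6, 8, 18, 14, 12, 10, 8, 6, 4, 2, 0] .nil (.cons [6, 8, 10, 12, 4, 6, 8, 10, 2, 4, 6, 8, 18, 20, 8, 10, 6, 8, 18, 14, 12, 10, 8, 6, 4, 2, 0] .nil (.cons [18, 8, 10, 12, 4, 6, 8, 10, 2, 4, 6, 8, 18, 20, 8, 10, 6, 8, 18, 14, 12, 10, 8, 6, 4, 2, 0] .nil (.cons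 [20, 18, 8, 10, 12, 6, 8, 10, 2, 4, 6, 8, 18, 20, 8, 10, 6, 8, 18, 14, 12, 10, 8, 6, 4, 2, 0] (.cons [0, 2, 4, 6, 16, 18, 10, 8, 6, 16, 8, 10, 12, 6, 8, 10, 4, 6, 8, 2, 4, 6, 16, 18, 4, 2, 0, 10, 16, 6, 4, 2, 8, 6, 4, 16, 6, 8, 10, 12, 14] (.cons [12, 8, 10, 6, 4, 8, 6, 2, 4, 12, 10, 8, 6, 14] (.cons [0, 2, 0] (.cons [3, 3, 1, 2, 2, 0, 3, 1, 1, 3, 1] .nil .nil) .nil) .nil) .nil) (.cons [14, 10, 16, 0, 2, 1, 4, 6, 8, 18, 20, 18, 12, 8, 10, 4, 6, 8, 18, 14, 12, 10, 8, 6, 4, 2, 1] .nil (.cons [1, 18, 20, 12, 10, 8, 18, 6, 8, 10, 4, 6, 8, 18, 20, 12, 10, 8, 18, 14, 12, 10, 8, 6, 4, 2, 0] .nil (.cons [14, 18, 20, 12, 10, 8, 18, 6, 8, 10, 4, 6, 8, 18, 20, 12, 10, 8, 18, 14, 12, 10, 8, 6, 4, 2, 0] (.cons [18, 16, 14, 10, 12, 8,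 10, 6, 8, 2, 4, 6, 16, 18, 2, 0, 10, 6, 4, 2, 8, 6, 4, 16, 6, 8, 10, 12, 14] (.cons [2, 4, 8, 10, 6, 8] (.cons [3, 0, 2, 2, 1, 2, 2, 1, 3] (.cons [1, 2, 2, 1, 2, 2, 1, 1] .nil .nil) .nil) .nil) .nil) (.cons [18, 1, 16, 14, 12, 6, 8, 10, 2, 4, 6, 8, 18, 20, 12, 10, 6, 8, 18, 14, 12, 10, 8, 6, 4, 2, 0] .nil (.cons [8, 1, 18, 14, 12, 6, 8, 10, 2, 4, 6, 8, 18, 20, 12, 10, 6, 8, 18, 14, 12, 10, 8, 6, 4, 2, 0] .nil (.cons [8, 18, 14, 12, 4, 6, 8, 10, 2, 4, 6, 8, 18, 20, 12, 10, 6, 8, 18, 14, 12, 10, 8, 6, 4, 2, 0] .nil (.cons [6, 8, 18, 12, 4, 6, 8, 10, 2, 4, 6, 8, 18, 20, 12, 10, 6, 8, 18, 14, 12, 10, 8, 6, 4, 2, 0] .nil (.cons [1, 8, 18, 16, 14, 12, 6, 8, 10, 4, 6, 8, 18, 20, 12, 10, 6, 8, 18, 14, 12, 10, 8, 6, 4, 2, 0] .nil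 (.cons [10, 8, 18, 16, 14, 12, 6, 8, 10, 4, 6, 8, 18, 20, 12, 10, 6, 8, 18, 14, 12, 10, 8, 6, 4, 2, 0] (.cons [16, 10, 12, 8, 10, 6, 8, 2, 4, 6, 16, 18, 2, 0, 12, 10, 16, 6, 4, 2, 8, 6, 4, 16, 6, 8, 10, 12, 14] (.cons [6, 8, 4, 2, 10, 6, 14, 8, 10] (.cons [2, 0, 2, 0, 3, 0, 3, 1, 2] (.cons [3, 3, 3, 1, 2, 1] .nil .nil) .nil) .nil) .nil) (.cons [20, 8, 18, 16, 14, 12, 6, 8, 10, 4, 6, 8, 18, 20, 12, 10, 6, 8, 18, 14, 12, 10, 8, 6, 4, 2, 0] .nil (.cons [1, 10, 8, 18, 14, 12, 6, 8, 10, 4, 6, 8, 18, 20, 12, 10, 6, 8, 18, 14, 12, 10, 8, 6, 4, 2, 0] .nil (.cons [1, 20, 8, 18, 14, 12, 6, 8, 10, 4, 6, 8, 18, 20, 12, 10, 6, 8, 18, 14, 12, 10, 8, 6, 4, 2, 0] .nil (.cons [1, 20, 12, 10, 8, 18, 6, 8, 10, 4, 6, 8, 18, 20, 12, 10, 6,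 8, 18, 14, 12, 10, 8, 6, 4, 2, 0] (.cons [12, 8, 10, 4, 6, 8, 6, 16, 4, 6, 2, 0, 4, 2, 14, 12, 8, 6, 10, 8, 16, 18, 6, 4, 16, 6, 8, 10, 12, 14] (.cons [12, 10, 6, 4, 6, 8, 14, 6, 4, 16, 14] (.cons [0, 3, 0, 0, 3, 1, 1, 1, 1] .nil .nil) .nil) .nil) (.cons [1, 18, 20, 10, 8, 18, 6, 8, 10, 4, 6, 8, 18, 20, 12, 10, 6, 8, 18, 14, 12, 10, 8, 6, 4, 2, 0] (.cons [10, 6, 8, 2, 4, 6, 16, 18, 2, 0, 14, 10, 8, 12, 10, 16, 6, 4, 2, 8, 6, 4, 16, 6, 8, 10, 12, 14] (.cons [8, 10, 6, 14, 2, 4, 6, 8] (.cons [1, 1, 2, 0, 3, 0, 3, 0, 0, 0] (.cons [2, 1, 3, 3, 1, 1, 3, 3] .nil .nil) .nil) .nil) .nil) (.cons [1, 20, 14, 12, 10, 8, 18, 6, 8, 10, 4, 6, 8, 18, 20, 12, 10, 8, 18, 14, 12, 10, 8, 6, 4, 2, 0] .nil (.cons [8, 18, 10, 12, 8, 10, 6, 8,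 18, 20, 14, 12, 10, 8, 18, 16, 14, 12, 10, 8, 4, 6, 2, 1, 4, 2, 1] (.cons [8, 6, 16, 18, 4, 6, 8, 10, 4, 6, 16, 6, 4, 2, 8, 6, 4, 0, 2, 12, 4, 6, 10, 8, 16, 18, 6, 4, 16, 6, 8, 10, 12, 14] (.cons [10, 8, 4, 6, 14, 0, 2, 6, 4] (.cons [2, 0, 3, 0, 3, 3, 0, 0, 3] (.cons [1, 2, 1, 3, 1, 2, 1, 2] .nil .nil) .nil) .nil) .nil) (.cons [6, 8, 10, 4, 6, 8, 18, 12, 14, 10, 12, 8, 10, 6, 8, 18, 16, 14, 12, 10, 8, 6, 2, 1, 4, 2, 1] (.cons [8, 4, 6, 16, 18, 10, 8, 6, 4, 2, 16, 12, 10, 8, 6, 4, 14, 12, 10, 8, 6, 16, 18, 4, 2, 0, 12, 10, 6, 4, 2, 8, 6, 4, 16, 6, 8, 10, 12, 14] (.cons [10, 8, 4, 6, 16, 14, 2, 4, 2, 10] (.cons [2, 0, 3, 1, 1, 3, 0, 0, 2] .nil .nil) .nil) .nil) (.cons [18, 8, 10, 4, 6, 8, 18, 12, 14, 10, 12, 8, 10, 6, 8,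 18, 16, 14, 12, 10, 8, 6, 2, 1, 4, 2, 1] .nil (.cons [10, 8, 18, 20, 10, 8, 18, 12, 14, 10, 12, 8, 10, 6, 8, 18, 16, 14, 12, 10, 8, 6, 2, 1, 4, 2, 1] .nil (.cons [8, 10, 6, 8, 18, 20, 18, 12, 14, 10, 12, 8, 10, 6, 8, 18, 16, 14, 12, 10, 8, 6, 2, 1, 4, 2, 1] .nil (.cons [14, 12, 10, 8, 18, 20, 18, 12, 14, 10, 12, 8, 10, 6, 8, 18, 16, 14, 12, 10, 8, 6, 2, 1, 4, 2, 1] (.cons [6, 16, 18, 8, 6, 16, 12, 6, 8, 10, 4, 6, 8, 2, 4, 6, 16, 18, 4, 2, 0, 12, 10, 6, 4, 2, 8, 6, 4, 16, 6, 8, 10, 12, 14] (.cons [6, 0, 8, 2, 0, 10, 8, 16, 14, 6, 8] .nil .nil) .nil) (.cons [18, 8, 10, 6, 8, 18, 20, 12, 14, 10, 12, 8, 10, 6, 8, 18, 16, 14, 12, 10, 8, 6, 2, 1, 4, 2, 1] (.cons [16, 18, 8, 6, 16, 10, 12, 8, 10, 4, 6, 8, 0, 2, 4, 6, 16, 18, 4,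 2, 0, 8, 12, 10, 6, 4, 2, 8, 6, 4, 16, 6, 8, 10, 12, 14] (.cons [10, 6, 4, 2, 8, 6, 4, 6, 8, 16] (.cons [0, 0, 3, 1, 1, 2, 0, 3] .nil .nil) .nil) .nil) .nil)))))))))))))))))))))))))))))))))))))))))))))))))))))))))))))))))))))))))))))))))))))))))))))))))))))))))))))))))))))))))))))))))))))))))))))))))))))))))))))))))))))))))))))))))))))))))))))))))))))))))))))))))))))))))))))))))))))))))))))))))))))))) (⟨cu_l0.b, cu_l0.S, [], cu_R45, 0⟩ :: cu_tl) (0 :: cu_lk) Pd.nil 0 = true := by decide +kernel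
theorem cu_r46 : cu_S.run (.cons [14, 12, 10, 6, 8, 18, 20, 12, 14, 10, 12, 8, 10, 6, 8, 18, 16, 14, 12, 10, 8, 6, 2, 1, 4, 2, 1] .nil (.cons [14, 12, 10, 6, 8, 18, 20, 18, 14, 10, 12, 8, 10, 6, 8, 18, 16, 14, 12, 10, 8, 6, 2, 1, 4, 2, 1] .nil (.cons [6, 8, 10, 4, 6, 8, 18, 20, 14, 10, 12, 8, 10, 6, 8, 18, 16, 14, 12, 10, 8, 6, 2, 1, 4, 2, 1] .nil (.cons [18, 12, 8, 10, 6, 8, 18, 20, 14, 10, 12, 8, 10, 6, 8, 18, 16, 14, 12, 10, 8, 6, 2, 1, 4, 2, 1] .nil (.cons [10, 12, 8, 10, 6, 8, 18, 20, 18, 10, 12, 8, 10, 6, 8, 18, 16, 14, 12, 10, 8, 6, 2, 1, 4, 2, 1] .nil (.cons [14, 12, 8, 10, 6, 8, 18, 20, 18, 10, 12, 8, 10, 6, 8, 18, 16, 14, 12, 10, 8, 6, 2, 1, 4, 2, 1] .nil (.cons [14, 12, 8, 10, 4, 6, 8, 18, 20, 10, 12, 8, 10,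 6, 8, 18, 16, 14, 12, 10, 8, 6, 2, 1, 4, 2, 1] .nil (.cons [18, 10, 12, 8, 10, 6, 8, 18, 20, 10, 12, 8, 10, 6, 8, 18, 16, 14, 12, 10, 8, 6, 2, 1, 4, 2, 1] .nil (.cons [12, 8, 10, 4, 6, 8, 18, 20, 18, 14, 12, 8, 10, 6, 8, 18, 16, 14, 12, 10, 8, 6, 2, 1, 4, 2, 1] .nil (.cons [14, 12, 10, 4, 6, 8, 18, 20, 18, 14, 12, 8, 10, 6, 8, 18, 16, 14, 12, 10, 8, 6, 2, 1, 4, 2, 1] .nil (.cons [10, 12, 8, 10, 6, 8, 18, 20, 18, 14, 12, 8, 10, 6, 8, 18, 16, 14, 12, 10, 8, 6, 2, 1, 4, 2, 1] .nil (.cons [12, 18, 10, 1, 2, 4, 6, 8, 18, 20, 14, 12, 10, 6, 8, 18, 16, 14, 12, 10, 8, 6, 2, 1, 4, 2, 1] .nil (.cons [14, 10, 12, 8, 10, 6, 8, 18, 20, 14, 12, 8, 10, 6, 8, 18, 16, 14, 12, 10, 8, 6, 2, 1, 4, 2, 1] .nil (.cons [18, 10, 12, 8, 10, 6, 8,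 18, 20, 14, 12, 8, 10, 6, 8, 18, 16, 14, 12, 10, 8, 6, 2, 1, 4, 2, 1] .nil (.cons [16, 14, 12, 8, 10, 6, 8, 18, 20, 14, 12, 8, 10, 6, 8, 18, 16, 14, 12, 10, 8, 6, 2, 1, 4, 2, 1] .nil (.cons [18, 14, 12, 8, 10, 6, 8, 18, 20, 14, 12, 8, 10, 6, 8, 18, 16, 14, 12, 10, 8, 6, 2, 1, 4, 2, 1] .nil (.cons [14, 12, 8, 10, 4, 6, 8, 18, 20, 18, 12, 8, 10, 6, 8, 18, 16, 14, 12, 10, 8, 6, 2, 1, 4, 2, 1] .nil (.cons [18, 14, 12, 8, 10, 6, 8, 18, 20, 18, 12, 8, 10, 6, 8, 18, 16, 14, 12, 10, 8, 6, 2, 1, 4, 2, 1] .nil (.cons [14, 12, 10, 1, 2, 4, 6, 8, 18, 20, 14, 12, 10, 6, 8, 18, 16, 14, 12, 10, 8, 6, 2, 1, 4, 2, 1] .nil (.cons [18, 14, 10, 12, 8, 10, 6, 8, 18, 20, 14, 12, 10, 6, 8, 18, 16, 14, 12, 10, 8, 6, 2, 1, 4, 2, 1] .nil (.cons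 [10, 1, 2, 1, 4, 6, 8, 18, 20, 14, 12, 6, 8, 10, 4, 6, 8, 18, 16, 14, 12, 10, 8, 6, 4, 2, 1] .nil (.cons [1, 8, 10, 2, 1, 4, 6, 8, 18, 20, 12, 6, 8, 10, 4, 6, 8, 18, 16, 14, 12, 10, 8, 6, 4, 2, 0] .nil (.cons [6, 8, 10, 2, 1, 4, 6, 8, 18, 20, 12, 6, 8, 10, 4, 6, 8, 18, 16, 14, 12, 10, 8, 6, 4, 2, 0] .nil (.cons [12, 8, 10, 2, 1, 4, 6, 8, 18, 20, 12, 6, 8, 10, 4, 6, 8, 18, 16, 14, 12, 10, 8, 6, 4, 2, 0] .nil (.cons [14, 12, 10, 2, 1, 4, 6, 8, 18, 20, 12, 6, 8, 10, 4, 6, 8, 18, 16, 14, 12, 10, 8, 6, 4, 2, 0] (.cons [16, 14, 12, 8, 10, 6, 8, 4, 6, 16, 18, 2, 0, 4, 2, 8, 6, 4, 16, 6, 8, 10, 12, 14] (.cons [14, 0, 2, 8] (.cons [3, 0, 3, 3, 0, 0, 3, 1, 2, 0] .nil .nil) .nil) .nil) (.cons [14, 1, 12, 10, 2, 1, 4, 6, 8, 18, 20,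 6, 8, 10, 4, 6, 8, 18, 16, 14, 12, 10, 8, 6, 4, 2, 1] .nil (.cons [1, 14, 12, 10, 2, 1, 4, 6, 8, 18, 20, 6, 8, 10, 4, 6, 8, 18, 16, 14, 12, 10, 8, 6, 4, 2, 1] (.cons [16, 2, 4, 6, 8, 0, 2, 4, 6, 16, 18, 10, 8, 6, 16, 4, 12, 10, 8, 6, 4, 2, 0, 14, 12, 10, 8, 2, 4, 6, 16, 18, 8, 10, 6, 4, 2, 8, 6, 4, 16, 6, 8, 10, 12, 14] (.cons [12, 10, 6, 8, 4, 6, 2, 4, 16, 14, 10, 8] (.cons [0, 0, 3, 1, 1, 3, 1, 1, 1, 3] .nil .nil) .nil) .nil) (.cons [16, 14, 12, 10, 2, 1, 4, 6, 8, 18, 20, 6, 8, 10, 4, 6, 8, 18, 16, 14, 12, 10, 8, 6, 4, 2, 1] .nil (.cons [8, 10, 2, 1, 4, 6, 8, 18, 20, 18, 14, 12, 8, 10, 4, 6, 8, 18, 16, 14, 12, 10, 8, 6, 4, 2, 1] .nil (.cons [12, 10, 2, 1, 4, 6, 8, 18, 20, 18, 14, 12, 8, 10, 4, 6, 8, 18, 16, 14, 12, 10,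 8, 6, 4, 2, 1] .nil (.cons [12, 1, 10, 2, 1, 4, 6, 8, 18, 20, 14, 12, 8, 10, 4, 6, 8, 18, 16, 14, 12, 10, 8, 6, 4, 2, 0] .nil (.cons [6, 8, 10, 2, 1, 4, 6, 8, 18, 20, 14, 12, 8, 10, 4, 6, 8, 18, 16, 14, 12, 10, 8, 6, 4, 2, 0] .nil (.cons [18, 8, 10, 2, 1, 4, 6, 8, 18, 20, 14, 12, 8, 10, 4, 6, 8, 18, 16, 14, 12, 10, 8, 6, 4, 2, 0] .nil (.cons [8, 16, 10, 12, 0, 2, 1, 4, 6, 8, 18, 20, 18, 8, 10, 4, 6, 8, 18, 14, 12, 10, 8, 6, 4, 2, 0] (.cons [16, 2, 4, 6, 8, 0, 2, 4, 6, 16, 18, 4, 2, 0, 8, 10, 6, 4, 2, 8, 6, 4, 16, 6, 8, 10, 12, 14] .nil .nil) (.cons [18, 8, 10, 2, 1, 4, 6, 8, 18, 20, 18, 12, 8, 10, 4, 6, 8, 18, 16, 14, 12, 10, 8, 6, 4, 2, 0] .nil (.cons [6, 1, 8, 10, 2, 1, 4, 6, 8, 18, 20, 12, 8, 10, 4, 6, 8, 18, 16, 14,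 12, 10, 8, 6, 4, 2, 1] .nil (.cons [14, 16, 12, 1, 10, 2, 1, 4, 6, 8, 18, 20, 12, 8, 10, 4, 6, 8, 18, 14, 12, 10, 8, 6, 4, 2, 0] (.cons [12, 10, 6, 8, 2, 4, 6, 16, 18, 2, 0, 14, 12, 10, 6, 4, 2, 8, 6, 4, 16, 6, 8, 10, 12, 14] (.cons [16, 4, 0, 6, 4, 2, 10, 8, 6, 4, 12, 14, 6, 8, 16] (.cons [1, 1, 3, 1, 1, 2, 2, 1, 2] (.cons [1, 3, 0, 3, 0, 2, 1, 2, 2, 1] .nil .nil) .nil) .nil) .nil) (.cons [10, 12, 8, 10, 2, 1, 4, 6, 8, 18, 20, 12, 8, 10, 4, 6, 8, 18, 16, 14, 12, 10, 8, 6, 4, 2, 1] .nil (.cons [18, 12, 8, 10, 2, 1, 4, 6, 8, 18, 20, 12, 8, 10, 4, 6, 8, 18, 16, 14, 12, 10, 8, 6, 4, 2, 1] .nil (.cons [1, 18, 8, 10, 2, 1, 4, 6, 8, 18, 20, 12, 8, 10, 4, 6, 8, 18, 16, 14, 12, 10, 8, 6, 4, 2, 1] .nil (.cons [14, 10, 12, 8, 10,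 2, 1, 4, 6, 8, 18, 20, 8, 10, 4, 6, 8, 18, 16, 14, 12, 10, 8, 6, 4, 2, 0] .nil (.cons [18, 10, 12, 8, 10, 2, 1, 4, 6, 8, 18, 20, 8, 10, 4, 6, 8, 18, 16, 14, 12, 10, 8, 6, 4, 2, 0] .nil (.cons [18, 14, 12, 8, 10, 2, 1, 4, 6, 8, 18, 20, 8, 10, 4, 6, 8, 18, 16, 14, 12, 10, 8, 6, 4, 2, 0] .nil (.cons [18, 1, 8, 10, 2, 1, 4, 6, 8, 18, 20, 14, 12, 10, 4, 6, 8, 18, 16, 14, 12, 10, 8, 6, 4, 2, 1] .nil (.cons [14, 1, 12, 10, 2, 1, 4, 6, 8, 18, 20, 14, 12, 10, 4, 6, 8, 18, 16, 14, 12, 10, 8, 6, 4, 2, 1] .nil (.cons [12, 6, 8, 10, 2, 1, 4, 6, 8, 18, 20, 14, 12, 10, 4, 6, 8, 18, 16, 14, 12, 10, 8, 6, 4, 2, 1] .nil (.cons [1, 12, 8, 10, 2, 1, 4, 6, 8, 18, 20, 14, 12, 10, 4, 6, 8, 18, 16, 14, 12, 10, 8, 6, 4, 2, 1] .nil (.cons [12, 8,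 6, 10, 8, 1, 10, 2, 1, 4, 6, 8, 18, 20, 12, 10, 8, 18, 16, 14, 12, 10, 8, 6, 4, 2, 0] .nil (.cons [20, 18, 6, 8, 10, 2, 1, 4, 6, 8, 18, 20, 12, 10, 4, 6, 8, 18, 16, 14, 12, 10, 8, 6, 4, 2, 0] .nil (.cons [14, 10, 12, 8, 10, 2, 1, 4, 6, 8, 18, 20, 12, 10, 4, 6, 8, 18, 16, 14, 12, 10, 8, 6, 4, 2, 0] (.cons [12, 10, 8, 4, 6, 0, 2, 4, 6, 8, 10, 18, 16, 6, 8, 4, 6, 16, 18, 2, 0, 4, 2, 6, 4, 16, 6, 8, 10, 12, 14] (.cons [12, 10, 8, 6, 10, 0, 16, 14, 6, 4, 8] (.cons [1, 2, 1, 2, 2, 1, 1, 3, 1] .nil .nil) .nil) .nil) (.cons [1, 14, 12, 8, 10, 2, 1, 4, 6, 8, 18, 20, 12, 10, 4, 6, 8, 18, 16, 14, 12, 10, 8, 6, 4, 2, 0] .nil (.cons [1, 20, 18, 8, 10, 2, 1, 4, 6, 8, 18, 20, 12, 10, 4, 6, 8, 18, 16, 14, 12, 10, 8, 6, 4, 2, 0] .nil (.cons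 [14, 1, 10, 12, 8, 10, 2, 1, 4, 6, 8, 18, 20, 10, 4, 6, 8, 18, 16, 14, 12, 10, 8, 6, 4, 2, 1] .nil (.cons [18, 1, 10, 12, 8, 10, 2, 1, 4, 6, 8, 18, 20, 10, 4, 6, 8, 18, 16, 14, 12, 10, 8, 6, 4, 2, 1] .nil (.cons [18, 1, 14, 12, 8, 10, 2, 1, 4, 6, 8, 18, 20, 10, 4, 6, 8, 18, 16, 14, 12, 10, 8, 6, 4, 2, 1] .nil (.cons [20, 1, 18, 12, 8, 10, 2, 1, 4, 6, 8, 18, 20, 10, 4, 6, 8, 18, 16, 14, 12, 10, 8, 6, 4, 2, 1] .nil (.cons [1, 14, 10, 12, 8, 10, 2, 1, 4, 6, 8, 18, 20, 10, 4, 6, 8, 18, 16, 14, 12, 10, 8, 6, 4, 2, 1] .nil (.cons [8, 18, 10, 12, 8, 10, 2, 1, 4, 6, 8, 18, 20, 10, 4, 6, 8, 18, 16, 14, 12, 10, 8, 6, 4, 2, 1] .nil (.cons [20, 18, 10, 12, 8, 10, 2, 1, 4, 6, 8, 18, 20, 10, 4, 6, 8, 18, 16, 14, 12, 10, 8, 6, 4, 2, 1]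 .nil (.cons [12, 14, 10, 16, 0, 2, 1, 4, 6, 8, 18, 20, 18, 12, 8, 10, 6, 8, 18, 14, 12, 10, 8, 6, 4, 2, 0] .nil (.cons [6, 18, 8, 10, 4, 6, 8, 18, 20, 18, 14, 10, 12, 8, 10, 6, 8, 18, 16, 14, 12, 10, 8, 6, 4, 2, 1] .nil (.cons [12, 18, 8, 10, 4, 6, 8, 18, 20, 18, 14, 10, 12, 8, 10, 6, 8, 18, 16, 14, 12, 10, 8, 6, 4, 2, 1] .nil (.cons [14, 1, 12, 10, 2, 1, 4, 6, 8, 18, 20, 14, 12, 8, 10, 6, 8, 18, 16, 14, 12, 10, 8, 6, 4, 2, 1] .nil (.cons [12, 6, 8, 10, 2, 1, 4, 6, 8, 18, 20, 14, 12, 8, 10, 6, 8, 18, 16, 14, 12, 10, 8, 6, 4, 2, 1] (.cons [8, 0, 2, 4, 6, 16, 18, 12, 10, 8, 10, 6, 4, 2, 16, 8, 6, 4, 14, 12, 10, 8, 6, 16, 18, 4, 2, 0, 12, 10, 6, 4, 2, 8, 6, 4, 16, 6, 8, 10, 12, 14] .nil .nil) (.cons [14, 12, 8, 10, 2, 1, 4,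 6, 8, 18, 20, 14, 12, 8, 10, 6, 8, 18, 16, 14, 12, 10, 8, 6, 4, 2, 1] .nil (.cons [14, 18, 12, 8, 10, 4, 6, 8, 18, 20, 18, 10, 12, 8, 10, 6, 8, 18, 16, 14, 12, 10, 8, 6, 4, 2, 1] .nil (.cons [10, 12, 8, 1, 10, 2, 1, 4, 6, 8, 18, 20, 14, 12, 10, 6, 8, 18, 16, 14, 12, 10, 8, 6, 4, 2, 0] .nil (.cons [14, 12, 6, 8, 10, 2, 1, 4, 6, 8, 18, 20, 14, 12, 10, 6, 8, 18, 16, 14, 12, 10, 8, 6, 4, 2, 0] .nil (.cons [14, 10, 12, 8, 10, 2, 1, 4, 6, 8, 18, 20, 14, 12, 10, 6, 8, 18, 16, 14, 12, 10, 8, 6, 4, 2, 0] .nil (.cons [16, 14, 12, 8, 10, 2, 1, 4, 6, 8, 18, 20, 14, 12, 10, 6, 8, 18, 16, 14, 12, 10, 8, 6, 4, 2, 0] .nil (.cons [14, 12, 6, 10, 8, 1, 10, 2, 1, 4, 6, 8, 18, 20, 12, 10, 8, 18, 16, 14, 12, 10, 8, 6, 4, 2, 0] .nil (.cons [16,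 14, 12, 6, 8, 10, 2, 1, 4, 6, 8, 18, 20, 12, 10, 6, 8, 18, 16, 14, 12, 10, 8, 6, 4, 2, 1] (.cons [18, 16, 4, 8, 6, 4, 2, 16, 10, 8, 6, 4, 14, 12, 10, 8, 6, 16, 18, 4, 2, 0, 10, 6, 4, 2, 8, 6, 4, 16, 6, 8, 10, 12, 14] (.cons [8, 10, 0, 2, 14, 4, 6, 14, 8, 6, 4, 2] (.cons [0, 0, 0, 3, 1, 1, 2, 0, 0] (.cons [3, 3, 3, 1, 3, 1, 2, 1, 3] .nil .nil) .nil) .nil) .nil) (.cons [8, 10, 12, 6, 8, 10, 2, 1, 4, 6, 8, 18, 20, 14, 12, 10, 8, 18, 16, 14, 12, 10, 8, 6, 4, 2, 1] .nil (.cons [6, 1, 8, 10, 2, 1, 4, 6, 8, 18, 20, 12, 6, 8, 10, 4, 6, 8, 18, 14, 12, 10, 8, 6, 4, 2, 1] .nil (.cons [12, 1, 8, 10, 2, 1, 4, 6, 8, 18, 20, 12, 6, 8, 10, 4, 6, 8, 18, 14, 12, 10, 8, 6, 4, 2, 1] .nil (.cons [12, 6, 8, 10, 2, 1, 4, 6, 8, 18, 20, 12, 6,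 8, 10, 4, 6, 8, 18, 14, 12, 10, 8, 6, 4, 2, 1] .nil (.cons [10, 18, 14, 12, 6, 8, 10, 4, 6, 8, 18, 20, 6, 8, 10, 4, 6, 8, 18, 14, 12, 10, 8, 6, 4, 2, 1] .nil (.cons [20, 18, 8, 10, 2, 1, 4, 6, 8, 18, 20, 18, 12, 8, 10, 4, 6, 8, 18, 14, 12, 10, 8, 6, 4, 2, 1] .nil (.cons [18, 12, 6, 8, 10, 2, 1, 4, 6, 8, 18, 20, 12, 8, 10, 4, 6, 8, 18, 14, 12, 10, 8, 6, 4, 2, 0] .nil (.cons [20, 18, 6, 8, 10, 2, 1, 4, 6, 8, 18, 20, 12, 8, 10, 4, 6, 8, 18, 14, 12, 10, 8, 6, 4, 2, 0] .nil (.cons [18, 10, 12, 8, 10, 2, 1, 4, 6, 8, 18, 20, 12, 8, 10, 4, 6, 8, 18, 14, 12, 10, 8, 6, 4, 2, 0] (.cons [18, 16, 12, 10, 4, 6, 8, 2, 4, 6, 16, 18, 2, 0, 14, 8, 12, 10, 6, 4, 2, 8, 6, 4, 16, 6, 8, 10, 12, 14] (.cons [16, 6, 8, 14, 6, 4, 16, 14, 2] (.cons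 [0, 2, 1, 3, 1, 2, 0, 0, 2, 1] .nil .nil) .nil) .nil) (.cons [20, 18, 12, 8, 10, 2, 1, 4, 6, 8, 18, 20, 12, 8, 10, 4, 6, 8, 18, 14, 12, 10, 8, 6, 4, 2, 0] .nil (.cons [10, 12, 6, 1, 8, 10, 2, 1, 4, 6, 8, 18, 20, 12, 10, 4, 6, 8, 18, 14, 12, 10, 8, 6, 4, 2, 1] .nil (.cons [18, 12, 6, 1, 8, 10, 2, 1, 4, 6, 8, 18, 20, 12, 10, 4, 6, 8, 18, 14, 12, 10, 8, 6, 4, 2, 1] .nil (.cons [20, 18, 6, 1, 8, 10, 2, 1, 4, 6, 8, 18, 20, 12, 10, 4, 6, 8, 18, 14, 12, 10, 8, 6, 4, 2, 1] .nil (.cons [18, 1, 10, 12, 8, 10, 2, 1, 4, 6, 8, 18, 20, 12, 10, 4, 6, 8, 18, 14, 12, 10, 8, 6, 4, 2, 1] .nil (.cons [20, 18, 12, 6, 8, 10, 2, 1, 4, 6, 8, 18, 20, 12, 10, 4, 6, 8, 18, 14, 12, 10, 8, 6, 4, 2, 1] .nil (.cons [8, 18, 10, 12, 8, 10, 2, 1, 4, 6,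 8, 18, 20, 12, 10, 4, 6, 8, 18, 14, 12, 10, 8, 6, 4, 2, 1] .nil (.cons [18, 16, 14, 12, 8, 10, 2, 1, 4, 6, 8, 18, 20, 12, 10, 4, 6, 8, 18, 14, 12, 10, 8, 6, 4, 2, 1] (.cons [6, 4, 8, 6, 16, 10, 12, 6, 8, 10, 4, 6, 8, 2, 4, 6, 16, 18, 2, 0, 6, 4, 2, 8, 6, 4, 16, 6, 8, 10, 12, 14] (.cons [6, 12, 10, 16, 14, 6, 4, 2, 0, 8, 6, 4, 2, 10, 14, 6, 4, 8, 16, 14, 6, 8] .nil .nil) .nil) (.cons [20, 18, 14, 12, 8, 10, 2, 1, 4, 6, 8, 18, 20, 12, 10, 4, 6, 8, 18, 14, 12, 10, 8, 6, 4, 2, 1] .nil (.cons [8, 1, 18, 10, 12, 8, 10, 2, 1, 4, 6, 8, 18, 20, 10, 4, 6, 8, 18, 14, 12, 10, 8, 6, 4, 2, 0] .nil (.cons [6, 8, 18, 10, 12, 8, 10, 2, 1, 4, 6, 8, 18, 20, 10, 4, 6, 8, 18, 14, 12, 10, 8, 6, 4, 2, 0] .nil (.cons [16, 14, 12, 10, 6, 4, 6,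 8, 18, 20, 8, 18, 10, 12, 8, 10, 6, 8, 18, 14, 12, 10, 8, 6, 4, 2, 1] .nil (.cons [0, 2, 4, 6, 8, 18, 20, 12, 14, 10, 12, 8, 10, 2, 4, 6, 8, 18, 16, 14, 12, 10, 8, 6, 4, 2, 1] .nil (.cons [10, 2, 4, 6, 8, 18, 20, 12, 14, 10, 12, 8, 10, 2, 4, 6, 8, 18, 16, 14, 12, 10, 8, 6, 4, 2, 1] .nil (.cons [8, 10, 4, 6, 8, 18, 20, 12, 14, 10, 12, 8, 10, 2, 4, 6, 8, 18, 16, 14, 12, 10, 8, 6, 4, 2, 1] .nil (.cons [14, 12, 10, 6, 8, 18, 20, 12, 14, 10, 12, 8, 10, 2, 4, 6, 8, 18, 16, 14, 12, 10, 8, 6, 4, 2, 1] .nil (.cons [8, 10, 2, 4, 6, 8, 18, 20, 14, 10, 12, 8, 10, 2, 4, 6, 8, 18, 16, 14, 12, 10, 8, 6, 4, 2, 1] .nil (.cons [12, 8, 10, 4, 6, 8, 18, 20, 14, 10, 12, 8, 10, 2, 4, 6, 8, 18, 16, 14, 12, 10, 8, 6, 4, 2, 1] .nil (.cons [10,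 12, 8, 10, 6, 8, 18, 20, 14, 10, 12, 8, 10, 2, 4, 6, 8, 18, 16, 14, 12, 10, 8, 6, 4, 2, 1] .nil (.cons [14, 12, 8, 10, 6, 8, 18, 20, 14, 10, 12, 8, 10, 2, 4, 6, 8, 18, 16, 14, 12, 10, 8, 6, 4, 2, 1] .nil (.cons [6, 8, 10, 2, 4, 6, 8, 18, 20, 10, 12, 8, 10, 2, 4, 6, 8, 18, 16, 14, 12, 10, 8, 6, 4, 2, 1] .nil (.cons [12, 8, 10, 2, 4, 6, 8, 18, 20, 10, 12, 8, 10, 2, 4, 6, 8, 18, 16, 14, 12, 10, 8, 6, 4, 2, 1] .nil (.cons [14, 12, 10, 2, 4, 6, 8, 18, 20, 10, 12, 8, 10, 2, 4, 6, 8, 18, 16, 14, 12, 10, 8, 6, 4, 2, 1] .nil (.cons [10, 12, 8, 10, 4, 6, 8, 18, 20, 10, 12, 8, 10, 2, 4, 6, 8, 18, 16, 14, 12, 10, 8, 6, 4, 2, 1] .nil (.cons [14, 12, 8, 10, 4, 6, 8, 18, 20, 10, 12, 8, 10, 2, 4, 6, 8, 18, 16, 14, 12, 10, 8, 6, 4, 2, 1]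 .nil (.cons [18, 12, 8, 10, 4, 6, 8, 18, 20, 10, 12, 8, 10, 2, 4, 6, 8, 18, 16, 14, 12, 10, 8, 6, 4, 2, 1] .nil (.cons [20, 18, 8, 10, 4, 6, 8, 18, 20, 10, 12, 8, 10, 2, 4, 6, 8, 18, 16, 14, 12, 10, 8, 6, 4, 2, 1] (.cons [18, 4, 0, 8, 6, 4, 2, 16, 12, 10, 8, 6, 4, 14, 12, 10, 8, 6, 16, 18, 4, 2, 0, 10, 6, 4, 2, 8, 6, 4, 16, 6, 8, 10, 12, 14] .nil .nil) (.cons [18, 10, 12, 8, 10, 6, 8, 18, 20, 10, 12, 8, 10, 2, 4, 6, 8, 18, 16, 14, 12, 10, 8, 6, 4, 2, 1] .nil (.cons [18, 14, 12, 8, 10, 6, 8, 18, 20, 10, 12, 8, 10, 2, 4, 6, 8, 18, 16, 14, 12, 10, 8, 6, 4, 2, 1] (.cons [18, 16, 10, 6, 8, 2, 4, 6, 16, 18, 6, 4, 2, 0, 10, 16, 6, 4, 2, 8, 6, 4, 16, 6, 8, 10, 12, 14] (.cons [10, 4, 6, 2, 14, 0, 4, 6, 8, 10] (.cons [3, 1, 1, 1,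 2, 2, 1] .nil .nil) .nil) .nil) (.cons [20, 18, 12, 8, 10, 6, 8, 18, 20, 10, 12, 8, 10, 2, 4, 6, 8, 18, 16, 14, 12, 10, 8, 6, 4, 2, 1] (.cons [10, 12, 8, 10, 2, 4, 6, 8, 0, 2, 4, 6, 16, 18, 4, 2, 0, 8, 10, 6, 4, 2, 8, 6, 4, 16, 6, 8, 10, 12, 14] (.cons [16, 10, 6, 14, 6, 4, 2, 8, 16] (.cons [3, 0, 3, 1, 3, 0, 0, 2, 0] .nil .nil) .nil) .nil) (.cons [8, 1, 10, 2, 4, 6, 8, 18, 20, 14, 12, 8, 10, 2, 4, 6, 8, 18, 16, 14, 12, 10, 8, 6, 4, 2, 1] .nil (.cons [12, 1, 10, 2, 4, 6, 8, 18, 20, 14, 12, 8, 10, 2, 4, 6, 8, 18, 16, 14, 12, 10, 8, 6, 4, 2, 1] .nil (.cons [14, 12, 10, 2, 4, 6, 8, 18, 20, 14, 12, 8, 10, 2, 4, 6, 8, 18, 16, 14, 12, 10, 8, 6, 4, 2, 1] .nil (.cons [18, 6, 8, 10, 4, 6, 8, 18, 20, 14, 12, 8, 10, 2, 4, 6, 8, 18,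 16, 14, 12, 10, 8, 6, 4, 2, 1] .nil (.cons [10, 12, 8, 10, 4, 6, 8, 18, 20, 14, 12, 8, 10, 2, 4, 6, 8, 18, 16, 14, 12, 10, 8, 6, 4, 2, 1] .nil (.cons [14, 12, 8, 10, 4, 6, 8, 18, 20, 14, 12, 8, 10, 2, 4, 6, 8, 18, 16, 14, 12, 10, 8, 6, 4, 2, 1] .nil (.cons [18, 14, 12, 8, 10, 6, 8, 18, 20, 14, 12, 8, 10, 2, 4, 6, 8, 18, 16, 14, 12, 10, 8, 6, 4, 2, 1] .nil (.cons [18, 1, 8, 10, 2, 4, 6, 8, 18, 20, 12, 8, 10, 2, 4, 6, 8, 18, 16, 14, 12, 10, 8, 6, 4, 2, 1] (.cons [10, 4, 6, 8, 2, 4, 6, 16, 18, 10, 8, 4, 6, 16, 8, 10, 12, 6, 8, 10, 4, 6, 8, 2, 4, 6, 16, 18, 4, 2, 0, 8, 10, 6, 4, 2, 8, 6, 4, 16, 6, 8, 10, 12, 14] (.cons [10, 2, 4, 6, 8, 14, 6, 4, 16, 14, 8] .nil .nil) .nil) (.cons [1, 6, 8, 10, 2, 4, 6, 8, 18, 20, 12, 8, 10,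 2, 4, 6, 8, 18, 16, 14, 12, 10, 8, 6, 4, 2, 1] .nil (.cons [4, 6, 8, 10, 2, 4, 6, 8, 18, 20, 12, 8, 10, 2, 4, 6, 8, 18, 16, 14, 12, 10, 8, 6, 4, 2, 1] .nil (.cons [1, 12, 8, 10, 2, 4, 6, 8, 18, 20, 12, 8, 10, 2, 4, 6, 8, 18, 16, 14, 12, 10, 8, 6, 4, 2, 1] .nil (.cons [10, 12, 8, 10, 2, 4, 6, 8, 18, 20, 12, 8, 10, 2, 4, 6, 8, 18, 16, 14, 12, 10, 8, 6, 4, 2, 1] .nil (.cons [14, 12, 8, 10, 2, 4, 6, 8, 18, 20, 12, 8, 10, 2, 4, 6, 8, 18, 16, 14, 12, 10, 8, 6, 4, 2, 1] .nil (.cons [14, 12, 6, 8, 10, 4, 6, 8, 18, 20, 12, 8, 10, 2, 4, 6, 8, 18, 16, 14, 12, 10, 8, 6, 4, 2, 1] .nil (.cons [18, 10, 12, 8, 10, 4, 6, 8, 18, 20, 12, 8, 10, 2, 4, 6, 8, 18, 16, 14, 12, 10, 8, 6, 4, 2, 1] .nil (.cons [20, 18, 12, 8, 10, 4, 6, 8, 18, 20,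 12, 8, 10, 2, 4, 6, 8, 18, 16, 14, 12, 10, 8, 6, 4, 2, 1] .nil (.cons [18, 14, 10, 12, 8, 10, 6, 8, 18, 20, 12, 8, 10, 2, 4, 6, 8, 18, 16, 14, 12, 10, 8, 6, 4, 2, 1] (.cons [8, 2, 4, 6, 16, 18, 8, 4, 6, 16, 14, 10, 12, 6, 8, 10, 4, 6, 8, 2, 4, 6, 16, 18, 2, 0, 8, 10, 6, 4, 2, 8, 6, 4, 16, 6, 8, 10, 12, 14] (.cons [10, 8, 6, 16, 14, 12, 8, 6, 4, 2] (.cons [2, 1, 2, 2, 0, 3, 0, 3, 1] (.cons [3, 3, 0, 3, 1, 3, 1, 3, 1, 3] .nil .nil) .nil) .nil) .nil) (.cons [20, 18, 10, 12, 8, 10, 6, 8, 18, 20, 12, 8, 10, 2, 4, 6, 8, 18, 16, 14, 12, 10, 8, 6, 4, 2, 1] .nil (.cons [12, 1, 6, 8, 10, 2, 4, 6, 8, 18, 20, 8, 10, 2, 4, 6, 8, 18, 16, 14, 12, 10, 8, 6, 4, 2, 1] .nil (.cons [14, 1, 12, 8, 10, 2, 4, 6, 8, 18, 20, 8, 10, 2, 4, 6, 8,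 18, 16, 14, 12, 10, 8, 6, 4, 2, 1] .nil (.cons [14, 10, 12, 8, 10, 2, 4, 6, 8, 18, 20, 8, 10, 2, 4, 6, 8, 18, 16, 14, 12, 10, 8, 6, 4, 2, 1] .nil (.cons [1, 14, 12, 8, 10, 2, 4, 6, 8, 18, 20, 8, 10, 2, 4, 6, 8, 18, 16, 14, 12, 10, 8, 6, 4, 2, 1] .nil (.cons [8, 10, 12, 6, 8, 10, 4, 6, 8, 18, 20, 8, 10, 2, 4, 6, 8, 18, 16, 14, 12, 10, 8, 6, 4, 2, 1] .nil (.cons [6, 1, 8, 10, 2, 4, 6, 8, 18, 20, 14, 12, 10, 2, 4, 6, 8, 18, 16, 14, 12, 10, 8, 6, 4, 2, 1] .nil (.cons [1, 6, 8, 10, 2, 4, 6, 8, 18, 20, 14, 12, 10, 2, 4, 6, 8, 18, 16, 14, 12, 10, 8, 6, 4, 2, 1] .nil (.cons [4, 6, 8, 10, 2, 4, 6, 8, 18, 20, 14, 12, 10, 2, 4, 6, 8, 18, 16, 14, 12, 10, 8, 6, 4, 2, 1] .nil (.cons [1, 12, 8, 10, 2, 4, 6, 8, 18, 20, 14, 12, 10, 2, 4,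 6, 8, 18, 16, 14, 12, 10, 8, 6, 4, 2, 1] .nil (.cons [14, 12, 8, 10, 2, 4, 6, 8, 18, 20, 14, 12, 10, 2, 4, 6, 8, 18, 16, 14, 12, 10, 8, 6, 4, 2, 1] .nil (.cons [1, 18, 8, 10, 2, 4, 6, 8, 18, 20, 14, 12, 10, 2, 4, 6, 8, 18, 16, 14, 12, 10, 8, 6, 4, 2, 1] .nil (.cons [1, 14, 12, 10, 2, 4, 6, 8, 18, 20, 14, 12, 10, 2, 4, 6, 8, 18, 16, 14, 12, 10, 8, 6, 4, 2, 1] .nil (.cons [14, 12, 6, 8, 10, 4, 6, 8, 18, 20, 14, 12, 10, 2, 4, 6, 8, 18, 16, 14, 12, 10, 8, 6, 4, 2, 1] .nil (.cons [18, 14, 10, 12, 8, 10, 6, 8, 18, 20, 14, 12, 10, 2, 4, 6, 8, 18, 16, 14, 12, 10, 8, 6, 4, 2, 1] .nil (.cons [8, 18, 10, 12, 8, 10, 6, 8, 18, 20, 14, 12, 10, 2, 4, 6, 8, 18, 16, 14, 12, 10, 8, 6, 4, 2, 1] .nil (.cons [4, 1, 6, 8, 10, 2, 4, 6, 8, 18,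 20, 12, 10, 2, 4, 6, 8, 18, 16, 14, 12, 10, 8, 6, 4, 2, 1] .nil (.cons [20, 1, 18, 8, 10, 2, 4, 6, 8, 18, 20, 12, 10, 2, 4, 6, 8, 18, 16, 14, 12, 10, 8, 6, 4, 2, 1] .nil (.cons [1, 4, 6, 8, 10, 2, 4, 6, 8, 18, 20, 12, 10, 2, 4, 6, 8, 18, 16, 14, 12, 10, 8, 6, 4, 2, 1] .nil (.cons [12, 4, 6, 8, 10, 2, 4, 6, 8, 18, 20, 12, 10, 2, 4, 6, 8, 18, 16, 14, 12, 10, 8, 6, 4, 2, 1] .nil (.cons [18, 12, 6, 8, 10, 2, 4, 6, 8, 18, 20, 12, 10, 2, 4, 6, 8, 18, 16, 14, 12, 10, 8, 6, 4, 2, 1] .nil (.cons [1, 14, 12, 8, 10, 2, 4, 6, 8, 18, 20, 12, 10, 2, 4, 6, 8, 18, 16, 14, 12, 10, 8, 6, 4, 2, 1] .nil (.cons [1, 18, 12, 8, 10, 2, 4, 6, 8, 18, 20, 12, 10, 2, 4, 6, 8, 18, 16, 14, 12, 10, 8, 6, 4, 2, 1] .nil (.cons [1, 20, 18, 8, 10, 2, 4,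 6, 8, 18, 20, 12, 10, 2, 4, 6, 8, 18, 16, 14, 12, 10, 8, 6, 4, 2, 1] .nil (.cons [8, 18, 12, 6, 8, 10, 4, 6, 8, 18, 20, 12, 10, 2, 4, 6, 8, 18, 16, 14, 12, 10, 8, 6, 4, 2, 1] .nil (.cons [10, 8, 18, 6, 8, 10, 4, 6, 8, 18, 20, 12, 10, 2, 4, 6, 8, 18, 16, 14, 12, 10, 8, 6, 4, 2, 1] .nil (.cons [20, 18, 14, 12, 8, 10, 4, 6, 8, 18, 20, 12, 10, 2, 4, 6, 8, 18, 16, 14, 12, 10, 8, 6, 4, 2, 1] (.cons [6, 16, 14, 10, 12, 8, 10, 4, 6, 8, 6, 16, 4, 6, 2, 0, 4, 2, 8, 6, 10, 8, 16, 18, 6, 4, 16, 6, 8, 10, 12, 14] (.cons [2, 6, 4, 8, 10, 0, 2, 4, 6, 14, 8, 16] (.cons [0, 3, 3, 1, 3, 3, 1, 2, 1, 3] .nil .nil) .nil) .nil) (.cons [12, 10, 6, 8, 18, 20, 12, 14, 8, 10, 12, 6, 8, 10, 4, 6, 8, 18, 16, 14, 12, 10, 8, 6, 4, 2, 1] .nil (.cons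 [6, 8, 10, 4, 6, 8, 18, 20, 8, 10, 12, 6, 8, 10, 4, 6, 8, 18, 16, 14, 12, 10, 8, 6, 4, 2, 1] .nil (.cons [12, 8, 10, 4, 6, 8, 18, 20, 8, 10, 12, 6, 8, 10, 4, 6, 8, 18, 16, 14, 12, 10, 8, 6, 4, 2, 1] .nil (.cons [10, 12, 8, 10, 6, 8, 18, 20, 8, 10, 12, 6, 8, 10, 4, 6, 8, 18, 16, 14, 12, 10, 8, 6, 4, 2, 1] (.cons [18, 6, 16, 8, 10, 6, 8, 4, 6, 16, 18, 4, 2, 0, 10, 8, 12, 10, 16, 6, 4, 2, 8, 6, 4, 16, 6, 8, 10, 12, 14] (.cons [14, 4, 6, 4, 8, 10, 6, 8] .nil .nil) .nil) (.cons [14, 12, 8, 10, 6, 8, 18, 20, 8, 10, 12, 6, 8, 10, 4, 6, 8, 18, 16, 14, 12, 10, 8, 6, 4, 2, 1] .nil (.cons [18, 12, 8, 10, 6, 8, 18, 20, 8, 10, 12, 6, 8, 10, 4, 6, 8, 18, 16, 14, 12, 10, 8, 6, 4, 2, 1] .nil (.cons [16, 14, 12, 10, 6, 8, 18, 20, 8, 10,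 12, 6, 8, 10, 4, 6, 8, 18, 16, 14, 12, 10, 8, 6, 4, 2, 1] .nil (.cons [0, 2, 4, 6, 8, 18, 20, 12, 14, 10, 12, 6, 8, 10, 4, 6, 8, 18, 16, 14, 12, 10, 8, 6, 4, 2, 1] .nil (.cons [14, 12, 10, 6, 8, 18, 20, 12, 14, 10, 12, 6, 8, 10, 4, 6, 8, 18, 16, 14, 12, 10, 8, 6, 4, 2, 1] .nil (.cons [16, 14, 12, 10, 8, 18, 20, 12, 14, 10, 12, 6, 8, 10, 4, 6, 8, 18, 16, 14, 12, 10, 8, 6, 4, 2, 1] .nil (.cons [8, 10, 2, 4, 6, 8, 18, 20, 14, 10, 12, 6, 8, 10, 4, 6, 8, 18, 16, 14, 12, 10, 8, 6, 4, 2, 1] .nil (.cons [14, 12, 10, 4, 6, 8, 18, 20, 14, 10, 12, 6, 8, 10, 4, 6, 8, 18, 16, 14, 12, 10, 8, 6, 4, 2, 1] .nil (.cons [10, 12, 8, 10, 6, 8, 18, 20, 14, 10, 12, 6, 8, 10, 4, 6, 8, 18, 16, 14, 12, 10, 8, 6, 4, 2, 1] .nil (.cons [14, 12, 8,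 10, 6, 8, 18, 20, 14, 10, 12, 6, 8, 10, 4, 6, 8, 18, 16, 14, 12, 10, 8, 6, 4, 2, 1] .nil (.cons [20, 18, 8, 10, 6, 8, 18, 20, 14, 10, 12, 6, 8, 10, 4, 6, 8, 18, 16, 14, 12, 10, 8, 6, 4, 2, 1] .nil (.cons [18, 8, 10, 2, 4, 6, 8, 18, 20, 10, 12, 6, 8, 10, 4, 6, 8, 18, 16, 14, 12, 10, 8, 6, 4, 2, 1] .nil (.cons [12, 6, 8, 10, 4, 6, 8, 18, 20, 10, 12, 6, 8, 10, 4, 6, 8, 18, 16, 14, 12, 10, 8, 6, 4, 2, 1] .nil (.cons [14, 12, 8, 10, 4, 6, 8, 18, 20, 10, 12, 6, 8, 10, 4, 6, 8, 18, 16, 14, 12, 10, 8, 6, 4, 2, 1] .nil (.cons [18, 12, 8, 10, 4, 6, 8, 18, 20, 10, 12, 6, 8, 10, 4, 6, 8, 18, 16, 14, 12, 10, 8, 6, 4, 2, 1] .nil (.cons [16, 14, 12, 10, 4, 6, 8, 18, 20, 10, 12, 6, 8, 10, 4, 6, 8, 18, 16, 14, 12, 10, 8, 6, 4, 2, 1] .nil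 (.cons [6, 8, 10, 2, 4, 6, 8, 18, 20, 14, 12, 6, 8, 10, 4, 6, 8, 18, 16, 14, 12, 10, 8, 6, 4, 2, 1] .nil (.cons [12, 8, 10, 2, 4, 6, 8, 18, 20, 14, 12, 6, 8, 10, 4, 6, 8, 18, 16, 14, 12, 10, 8, 6, 4, 2, 1] .nil (.cons [14, 12, 10, 2, 4, 6, 8, 18, 20, 14, 12, 6, 8, 10, 4, 6, 8, 18, 16, 14, 12, 10, 8, 6, 4, 2, 1] .nil (.cons [12, 6, 8, 10, 4, 6, 8, 18, 20, 14, 12, 6, 8, 10, 4, 6, 8, 18, 16, 14, 12, 10, 8, 6, 4, 2, 1] .nil (.cons [18, 6, 8, 10, 4, 6, 8, 18, 20, 14, 12, 6, 8, 10, 4, 6, 8, 18, 16, 14, 12, 10, 8, 6, 4, 2, 1] .nil (.cons [10, 12, 8, 10, 4, 6, 8, 18, 20, 14, 12, 6, 8, 10, 4, 6, 8, 18, 16, 14, 12, 10, 8, 6, 4, 2, 1] .nil (.cons [14, 10, 12, 8, 10, 6, 8, 18, 20, 14, 12, 6, 8, 10, 4, 6, 8, 18, 16, 14, 12, 10, 8, 6,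 4, 2, 1] .nil (.cons [18, 10, 12, 8, 10, 6, 8, 18, 20, 14, 12, 6, 8, 10, 4, 6, 8, 18, 16, 14, 12, 10, 8, 6, 4, 2, 1] .nil (.cons [16, 14, 12, 8, 10, 6, 8, 18, 20, 14, 12, 6, 8, 10, 4, 6, 8, 18, 16, 14, 12, 10, 8, 6, 4, 2, 1] .nil (.cons [18, 14, 12, 8, 10, 6, 8, 18, 20, 14, 12, 6, 8, 10, 4, 6, 8, 18, 16, 14, 12, 10, 8, 6, 4, 2, 1] .nil (.cons [6, 1, 8, 10, 2, 4, 6, 8, 18, 20, 12, 6, 8, 10, 4, 6, 8, 18, 16, 14, 12, 10, 8, 6, 4, 2, 1] .nil (.cons [1, 6, 8, 10, 2, 4, 6, 8, 18, 20, 12, 6, 8, 10, 4, 6, 8, 18, 16, 14, 12, 10, 8, 6, 4, 2, 1] .nil (.cons [12, 6, 8, 10, 2, 4, 6, 8, 18, 20, 12, 6, 8, 10, 4, 6, 8, 18, 16, 14, 12, 10, 8, 6, 4, 2, 1] .nil (.cons [10, 12, 8, 10, 2, 4, 6, 8, 18, 20, 12, 6, 8, 10, 4, 6, 8, 18, 16, 14,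 12, 10, 8, 6, 4, 2, 1] .nil (.cons [14, 12, 8, 10, 2, 4, 6, 8, 18, 20, 12, 6, 8, 10, 4, 6, 8, 18, 16, 14, 12, 10, 8, 6, 4, 2, 1] .nil (.cons [18, 12, 8, 10, 2, 4, 6, 8, 18, 20, 12, 6, 8, 10, 4, 6, 8, 18, 16, 14, 12, 10, 8, 6, 4, 2, 1] .nil (.cons [16, 14, 12, 10, 2, 4, 6, 8, 18, 20, 12, 6, 8, 10, 4, 6, 8, 18, 16, 14, 12, 10, 8, 6, 4, 2, 1] .nil (.cons [10, 12, 6, 8, 10, 4, 6, 8, 18, 20, 12, 6, 8, 10, 4, 6, 8, 18, 16, 14, 12, 10, 8, 6, 4, 2, 1] (.cons [18, 16, 14, 12, 8, 10, 6, 8, 0, 2, 4, 6, 16, 18, 4, 2, 0, 10, 16, 6, 4, 2, 8, 6, 4, 16, 6, 8, 10, 12, 14] (.cons [4, 6, 14, 2, 8, 10, 6, 8] (.cons [1, 2, 1, 1, 2, 2, 1, 3] .nil .nil) .nil) .nil) (.cons [18, 12, 6, 8, 10, 4, 6, 8, 18, 20, 12, 6, 8, 10, 4, 6, 8, 18, 16, 14,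 12, 10, 8, 6, 4, 2, 1] .nil (.cons [20, 18, 6, 8, 10, 4, 6, 8, 18, 20, 12, 6, 8, 10, 4, 6, 8, 18, 16, 14, 12, 10, 8, 6, 4, 2, 1] .nil (.cons [18, 10, 12, 8, 10, 4, 6, 8, 18, 20, 12, 6, 8, 10, 4, 6, 8, 18, 16, 14, 12, 10, 8, 6, 4, 2, 1] .nil (.cons [20, 18, 12, 8, 10, 4, 6, 8, 18, 20, 12, 6, 8, 10, 4, 6, 8, 18, 16, 14, 12, 10, 8, 6, 4, 2, 1] .nil (.cons [12, 14, 10, 12, 8, 10, 6, 8, 18, 20, 12, 6, 8, 10, 4, 6, 8, 18, 16, 14, 12, 10, 8, 6, 4, 2, 1] .nil (.cons [16, 14, 10, 12, 8, 10, 6, 8, 18, 20, 12, 6, 8, 10, 4, 6, 8, 18, 16, 14, 12, 10, 8, 6, 4, 2, 1] .nil (.cons [20, 18, 14, 12, 8, 10, 6, 8, 18, 20, 12, 6, 8, 10, 4, 6, 8, 18, 16, 14, 12, 10, 8, 6, 4, 2, 1] .nil (.cons [10, 1, 12, 8, 10, 2, 4, 6, 8, 18, 20, 6, 8, 10, 4,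 6, 8, 18, 16, 14, 12, 10, 8, 6, 4, 2, 1] .nil (.cons [16, 1, 14, 12, 10, 2, 4, 6, 8, 18, 20, 6, 8, 10, 4, 6, 8, 18, 16, 14, 12, 10, 8, 6, 4, 2, 1] .nil (.cons [12, 4, 6, 8, 10, 2, 4, 6, 8, 18, 20, 6, 8, 10, 4, 6, 8, 18, 16, 14, 12, 10, 8, 6, 4, 2, 1] .nil (.cons [1, 12, 6, 8, 10, 2, 4, 6, 8, 18, 20, 6, 8, 10, 4, 6, 8, 18, 16, 14, 12, 10, 8, 6, 4, 2, 1] .nil (.cons [10, 12, 6, 8, 10, 2, 4, 6, 8, 18, 20, 6, 8, 10, 4, 6, 8, 18, 16, 14, 12, 10, 8, 6, 4, 2, 1] .nil (.cons [1, 10, 12, 8, 10, 2, 4, 6, 8, 18, 20, 6, 8, 10, 4, 6, 8, 18, 16, 14, 12, 10, 8, 6, 4, 2, 1] .nil (.cons [14, 10, 12, 8, 10, 2, 4, 6, 8, 18, 20, 6, 8, 10, 4, 6, 8, 18, 16, 14, 12, 10, 8, 6, 4, 2, 1] .nil (.cons [1, 14, 12, 8, 10, 2, 4, 6, 8, 18, 20, 6, 8, 10,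 4, 6, 8, 18, 16, 14, 12, 10, 8, 6, 4, 2, 1] .nil (.cons [20, 18, 12, 8, 10, 2, 4, 6, 8, 18, 20, 6, 8, 10, 4, 6, 8, 18, 16, 14, 12, 10, 8, 6, 4, 2, 1] .nil (.cons [18, 10, 12, 6, 8, 10, 4, 6, 8, 18, 20, 6, 8, 10, 4, 6, 8, 18, 16, 14, 12, 10, 8, 6, 4, 2, 1] (.cons [18, 12, 10, 8, 6, 16, 12, 10, 4, 6, 8, 2, 4, 6, 16, 18, 6, 4, 2, 0, 8, 10, 6, 4, 2, 8, 6, 4, 16, 6, 8, 10, 12, 14] (.cons [4, 6, 14, 2, 4, 0, 2, 6, 8, 10] (.cons [3, 1, 3, 1, 3, 3, 1, 2, 1] .nil .nil) .nil) .nil) (.cons [16, 14, 12, 6, 8, 10, 4, 6, 8, 18, 20, 6, 8, 10, 4, 6, 8, 18, 16, 14, 12, 10, 8, 6, 4, 2, 1] .nil (.cons [16, 14, 10, 12, 8, 10, 4, 6, 8, 18, 20, 6, 8, 10, 4, 6, 8, 18, 16, 14, 12, 10, 8, 6, 4, 2, 1] .nil (.cons [20, 18, 10, 12, 8, 10, 4, 6, 8,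 18, 20, 6, 8, 10, 4, 6, 8, 18, 16, 14, 12, 10, 8, 6, 4, 2, 1] .nil (.cons [18, 16, 14, 12, 8, 10, 4, 6, 8, 18, 20, 6, 8, 10, 4, 6, 8, 18, 16, 14, 12, 10, 8, 6, 4, 2, 1] .nil (.cons [8, 18, 14, 10, 12, 8, 10, 6, 8, 18, 20, 6, 8, 10, 4, 6, 8, 18, 16, 14, 12, 10, 8, 6, 4, 2, 1] .nil (.cons [20, 8, 18, 10, 12, 8, 10, 6, 8, 18, 20, 6, 8, 10, 4, 6, 8, 18, 16, 14, 12, 10, 8, 6, 4, 2, 1] .nil (.cons [10, 6, 8, 18, 20, 10, 8, 18, 12, 14, 10, 12, 8, 10, 4, 6, 8, 18, 16, 14, 12, 10, 8, 6, 4, 2, 1] (.cons [18, 6, 16, 10, 12, 8, 10, 2, 4, 6, 8, 0, 2, 4, 6, 16, 18, 4, 2, 0, 10, 16, 6, 4, 2, 8, 6, 4, 16, 6, 8, 10, 12, 14] .nil .nil) (.cons [8, 10, 6, 8, 18, 20, 8, 18, 12, 14, 10, 12, 8, 10, 4, 6, 8, 18, 16, 14, 12, 10, 8, 6, 4, 2, 1]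 .nil (.cons [12, 10, 6, 8, 18, 20, 8, 18, 12, 14, 10, 12, 8, 10, 4, 6, 8, 18, 16, 14, 12, 10, 8, 6, 4, 2, 1] (.cons [16, 18, 8, 6, 16, 10, 12, 8, 10, 4, 6, 8, 2, 4, 6, 16, 18, 4, 2, 0, 8, 10, 16, 6, 4, 2, 8, 6, 4, 16, 6, 8, 10, 12, 14] (.cons [0, 6, 4, 2, 0, 8, 16, 14, 6, 8] (.cons [0, 2, 1, 2, 1, 1, 1, 3, 1] (.cons [2, 2, 0, 0, 2, 2, 1, 3] .nil .nil) .nil) .nil) .nil) (.cons [14, 12, 10, 8, 18, 20, 8, 18, 12, 14, 10, 12, 8, 10, 4, 6, 8, 18, 16, 14, 12, 10, 8, 6, 4, 2, 1] .nil (.cons [10, 2, 4, 6, 8, 18, 20, 18, 12, 14, 10, 12, 8, 10, 4, 6, 8, 18, 16, 14, 12, 10, 8, 6, 4, 2, 1] .nil (.cons [8, 10, 4, 6, 8, 18, 20, 18, 12, 14, 10, 12, 8, 10, 4, 6, 8, 18, 16, 14, 12, 10, 8, 6, 4, 2, 1] .nil (.cons [12, 8, 10, 6, 8, 18, 20,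 18, 12, 14, 10, 12, 8, 10, 4, 6, 8, 18, 16, 14, 12, 10, 8, 6, 4, 2, 1] .nil (.cons [18, 8, 10, 6, 8, 18, 20, 18, 12, 14, 10, 12, 8, 10, 4, 6, 8, 18, 16, 14, 12, 10, 8, 6, 4, 2, 1] (.cons [18, 8, 6, 16, 12, 10, 4, 6, 8, 2, 4, 6, 16, 18, 4, 2, 0, 10, 16, 6, 4, 2, 8, 6, 4, 16, 6, 8, 10, 12, 14] (.cons [12, 10, 8, 6, 14, 8, 6, 4, 2, 16] (.cons [0, 0, 2, 2, 1, 1, 1, 2, 0, 3] (.cons [0, 0, 3, 0, 2, 0, 2] .nil .nil) .nil) .nil) .nil) (.cons [14, 12, 10, 6, 8, 18, 20, 18, 12, 14, 10, 12, 8, 10, 4, 6, 8, 18, 16, 14, 12, 10, 8, 6, 4, 2, 1] .nil (.cons [16, 14, 12, 10, 8, 18, 20, 18, 12, 14, 10, 12, 8, 10, 4, 6, 8, 18, 16, 14, 12, 10, 8, 6, 4, 2, 1] .nil (.cons [10, 1, 2, 4, 6, 8, 18, 20, 12, 14, 10, 12, 8, 10, 4, 6, 8, 18, 16, 14,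 12, 10, 8, 6, 4, 2, 1] .nil (.cons [12, 10, 2, 4, 6, 8, 18, 20, 12, 14, 10, 12, 8, 10, 4, 6, 8, 18, 16, 14, 12, 10, 8, 6, 4, 2, 1] .nil (.cons [14, 12, 10, 4, 6, 8, 18, 20, 12, 14, 10, 12, 8, 10, 4, 6, 8, 18, 16, 14, 12, 10, 8, 6, 4, 2, 1] (.cons [2, 4, 6, 16, 10, 12, 6, 8, 10, 4, 6, 8, 16, 4, 6, 2, 0, 4, 2, 8, 6, 10, 8, 16, 18, 6, 4, 16, 6, 8, 10, 12, 14] (.cons [10, 8, 4, 6, 2, 4, 12, 10, 6, 14, 8, 10] (.cons [3, 0, 0, 2, 0, 0, 3, 1, 1, 2, 0] (.cons [1, 2, 1, 1, 3, 1, 3, 3, 0, 2] .nil .nil) .nil) .nil) .nil) (.cons [14, 12, 8, 10, 6, 8, 18, 20, 12, 14, 10, 12, 8, 10, 4, 6, 8, 18, 16, 14, 12, 10, 8, 6, 4, 2, 1] .nil (.cons [18, 12, 8, 10, 6, 8, 18, 20, 12, 14, 10, 12, 8, 10, 4, 6, 8, 18, 16, 14, 12, 10, 8, 6, 4, 2, 1]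 .nil (.cons [20, 18, 8, 10, 6, 8, 18, 20, 12, 14, 10, 12, 8, 10, 4, 6, 8, 18, 16, 14, 12, 10, 8, 6, 4, 2, 1] .nil (.cons [12, 8, 10, 6, 8, 18, 20, 8, 18, 14, 10, 12, 8, 10, 4, 6, 8, 18, 16, 14, 12, 10, 8, 6, 4, 2, 1] .nil (.cons [14, 12, 10, 6, 8, 18, 20, 8, 18, 14, 10, 12, 8, 10, 4, 6, 8, 18, 16, 14, 12, 10, 8, 6, 4, 2, 1] (.cons [8, 6, 16, 18, 12, 10, 4, 2, 8, 6, 4, 16, 6, 8, 10, 12, 14] (.cons [12, 4, 2, 0, 10, 12, 8, 6, 4, 2, 0, 14, 6, 8, 16] (.cons [2, 2, 0, 0, 0, 3, 3, 0, 0] (.cons [2, 1, 2, 2, 0, 3, 1, 3, 3] .nil .nil) .nil) .nil) .nil) (.cons [16, 14, 12, 10, 8, 18, 20, 8, 18, 14, 10, 12, 8, 10, 4, 6, 8, 18, 16, 14, 12, 10, 8, 6, 4, 2, 1] .nil (.cons [8, 10, 2, 4, 6, 8, 18, 20, 18, 14, 10, 12, 8, 10, 4, 6, 8, 18,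 16, 14, 12, 10, 8, 6, 4, 2, 1] .nil (.cons [6, 8, 10, 4, 6, 8, 18, 20, 18, 14, 10, 12, 8, 10, 4, 6, 8, 18, 16, 14, 12, 10, 8, 6, 4, 2, 1] .nil (.cons [18, 8, 10, 4, 6, 8, 18, 20, 18, 14, 10, 12, 8, 10, 4, 6, 8, 18, 16, 14, 12, 10, 8, 6, 4, 2, 1] .nil (.cons [10, 12, 8, 10, 6, 8, 18, 20, 18, 14, 10, 12, 8, 10, 4, 6, 8, 18, 16, 14, 12, 10, 8, 6, 4, 2, 1] .nil (.cons [14, 12, 8, 10, 6, 8, 18, 20, 18, 14, 10, 12, 8, 10, 4, 6, 8, 18, 16, 14, 12, 10, 8, 6, 4, 2, 1] .nil (.cons [20, 18, 8, 10, 6, 8, 18, 20, 18, 14, 10, 12, 8, 10, 4, 6, 8, 18, 16, 14, 12, 10, 8, 6, 4, 2, 1] .nil (.cons [8, 1, 10, 2, 4, 6, 8, 18, 20, 14, 10, 12, 8, 10, 4, 6, 8, 18, 16, 14, 12, 10, 8, 6, 4, 2, 1] .nil (.cons [12, 8, 10, 2, 4, 6, 8, 18, 20, 14, 10,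 12, 8, 10, 4, 6, 8, 18, 16, 14, 12, 10, 8, 6, 4, 2, 1] .nil (.cons [1, 12, 10, 2, 4, 6, 8, 18, 20, 14, 10, 12, 8, 10, 4, 6, 8, 18, 16, 14, 12, 10, 8, 6, 4, 2, 1] .nil (.cons [14, 12, 8, 10, 4, 6, 8, 18, 20, 14, 10, 12, 8, 10, 4, 6, 8, 18, 16, 14, 12, 10, 8, 6, 4, 2, 1] .nil (.cons [18, 12, 8, 10, 4, 6, 8, 18, 20, 14, 10, 12, 8, 10, 4, 6, 8, 18, 16, 14, 12, 10, 8, 6, 4, 2, 1] .nil (.cons [16, 14, 12, 10, 4, 6, 8, 18, 20, 14, 10, 12, 8, 10, 4, 6, 8, 18, 16, 14, 12, 10, 8, 6, 4, 2, 1] .nil (.cons [18, 10, 12, 8, 10, 6, 8, 18, 20, 14, 10, 12, 8, 10, 4, 6, 8, 18, 16, 14, 12, 10, 8, 6, 4, 2, 1] .nil (.cons [20, 18, 8, 10, 6, 8, 18, 20, 8, 18, 10, 12, 8, 10, 4, 6, 8, 18, 16, 14, 12, 10, 8, 6, 4, 2, 1] (.cons [10, 8, 0, 2, 4, 6,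 16, 18, 6, 8, 10, 8, 4, 6, 16, 14, 12, 8, 10, 4, 6, 8, 2, 4, 6, 16, 18, 2, 0, 10, 16, 6, 4, 2, 8, 6, 4, 16, 6, 8, 10, 12, 14] (.cons [16, 6, 8, 4, 6, 14, 8, 10, 16] (.cons [3, 1, 1, 1, 2, 0, 2, 0, 0, 3] .nil .nil) .nil) .nil) (.cons [6, 8, 10, 2, 4, 6, 8, 18, 20, 18, 10, 12, 8, 10, 4, 6, 8, 18, 16, 14, 12, 10, 8, 6, 4, 2, 1] .nil (.cons [12, 8, 10, 2, 4, 6, 8, 18, 20, 18, 10, 12, 8, 10, 4, 6, 8, 18, 16, 14, 12, 10, 8, 6, 4, 2, 1] .nil (.cons [18, 8, 10, 2, 4, 6, 8, 18, 20, 18, 10, 12, 8, 10, 4, 6, 8, 18, 16, 14, 12, 10, 8, 6, 4, 2, 1] .nil (.cons [14, 12, 10, 2, 4, 6, 8, 18, 20, 18, 10, 12, 8, 10, 4, 6, 8, 18, 16, 14, 12, 10, 8, 6, 4, 2, 1] .nil (.cons [12, 6, 8, 10, 4, 6, 8, 18, 20, 18, 10, 12, 8, 10, 4, 6, 8, 18, 16,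 14, 12, 10, 8, 6, 4, 2, 1] .nil (.cons [18, 6, 8, 10, 4, 6, 8, 18, 20, 18, 10, 12, 8, 10, 4, 6, 8, 18, 16, 14, 12, 10, 8, 6, 4, 2, 1] .nil (.cons [14, 10, 12, 8, 10, 6, 8, 18, 20, 18, 10, 12, 8, 10, 4, 6, 8, 18, 16, 14, 12, 10, 8, 6, 4, 2, 1] .nil (.cons [20, 18, 12, 8, 10, 6, 8, 18, 20, 18, 10, 12, 8, 10, 4, 6, 8, 18, 16, 14, 12, 10, 8, 6, 4, 2, 1] .nil (.cons [6, 1, 8, 10, 2, 4, 6, 8, 18, 20, 10, 12, 8, 10, 4, 6, 8, 18, 16, 14, 12, 10, 8, 6, 4, 2, 1] .nil (.cons [18, 1, 8, 10, 2, 4, 6, 8, 18, 20, 10, 12, 8, 10, 4, 6, 8, 18, 16, 14, 12, 10, 8, 6, 4, 2, 1] .nil (.cons [4, 6, 8, 10, 2, 4, 6, 8, 18, 20, 10, 12, 8, 10, 4, 6, 8, 18, 16, 14, 12, 10, 8, 6, 4, 2, 1] .nil (.cons [12, 6, 8, 10, 2, 4, 6, 8, 18, 20, 10, 12, 8, 10,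 4, 6, 8, 18, 16, 14, 12, 10, 8, 6, 4, 2, 1] .nil (.cons [10, 12, 8, 10, 2, 4, 6, 8, 18, 20, 10, 12, 8, 10, 4, 6, 8, 18, 16, 14, 12, 10, 8, 6, 4, 2, 1] .nil (.cons [18, 12, 8, 10, 2, 4, 6, 8, 18, 20, 10, 12, 8, 10, 4, 6, 8, 18, 16, 14, 12, 10, 8, 6, 4, 2, 1] .nil (.cons [1, 18, 8, 10, 2, 4, 6, 8, 18, 20, 10, 12, 8, 10, 4, 6, 8, 18, 16, 14, 12, 10, 8, 6, 4, 2, 1] .nil (.cons [20, 18, 8, 10, 2, 4, 6, 8, 18, 20, 10, 12, 8, 10, 4, 6, 8, 18, 16, 14, 12, 10, 8, 6, 4, 2, 1] .nil (.cons [1, 14, 12, 10, 2, 4, 6, 8, 18, 20, 10, 12, 8, 10, 4, 6, 8, 18, 16, 14, 12, 10, 8, 6, 4, 2, 1] .nil (.cons [14, 12, 6, 8, 10, 4, 6, 8, 18, 20, 10, 12, 8, 10, 4, 6, 8, 18, 16, 14, 12, 10, 8, 6, 4, 2, 1] (.cons [6, 16, 18, 6, 8, 2, 4, 6, 16, 10, 12,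 6, 8, 10, 4, 6, 8, 2, 4, 6, 16, 18, 4, 2, 0, 8, 10, 6, 4, 2, 8, 6, 4, 16, 6, 8, 10, 12, 14] (.cons [8, 6, 2, 4, 8, 6, 14, 0, 2] (.cons [2, 2, 0, 3, 0, 2, 1, 2] (.cons [0, 3, 0, 3, 3, 1, 3, 0, 2, 1] .nil .nil) .nil) .nil) .nil) (.cons [18, 12, 6, 8, 10, 4, 6, 8, 18, 20, 10, 12, 8, 10, 4, 6, 8, 18, 16, 14, 12, 10, 8, 6, 4, 2, 1] .nil (.cons [8, 18, 6, 8, 10, 4, 6, 8, 18, 20, 10, 12, 8, 10, 4, 6, 8, 18, 16, 14, 12, 10, 8, 6, 4, 2, 1] .nil (.cons [20, 18, 6, 8, 10, 4, 6, 8, 18, 20, 10, 12, 8, 10, 4, 6, 8, 18, 16, 14, 12, 10, 8, 6, 4, 2, 1] .nil (.cons [14, 10, 12, 8, 10, 4, 6, 8, 18, 20, 10, 12, 8, 10, 4, 6, 8, 18, 16, 14, 12, 10, 8, 6, 4, 2, 1] .nil (.cons [20, 18, 12, 8, 10, 4, 6, 8, 18, 20, 10, 12, 8, 10, 4, 6, 8, 18, 16,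 14, 12, 10, 8, 6, 4, 2, 1] .nil (.cons [12, 14, 10, 12, 8, 10, 6, 8, 18, 20, 10, 12, 8, 10, 4, 6, 8, 18, 16, 14, 12, 10, 8, 6, 4, 2, 1] (.cons [4, 6, 16, 12, 8, 10, 6, 4, 2, 8, 6, 4, 0, 2, 12, 4, 6, 10, 8, 16, 18, 6, 4, 16, 6, 8, 10, 12, 14] (.cons [12, 16, 14, 6, 8, 10, 14, 6, 8, 16] (.cons [2, 1, 1, 1, 2, 0, 3, 0, 2] (.cons [0, 2, 1, 3, 1, 3, 0, 2, 2] .nil .nil) .nil) .nil) .nil) (.cons [20, 18, 14, 12, 8, 10, 6, 8, 18, 20, 10, 12, 8, 10, 4, 6, 8, 18, 16, 14, 12, 10, 8, 6, 4, 2, 1] .nil (.cons [8, 1, 10, 2, 4, 6, 8, 18, 20, 18, 14, 12, 8, 10, 4, 6, 8, 18, 16, 14, 12, 10, 8, 6, 4, 2, 1] .nil (.cons [12, 1, 10, 2, 4, 6, 8, 18, 20, 18, 14, 12, 8, 10, 4, 6, 8, 18, 16, 14, 12, 10, 8, 6, 4, 2, 1] .nil (.cons [12, 8, 10, 2,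 4, 6, 8, 18, 20, 18, 14, 12, 8, 10, 4, 6, 8, 18, 16, 14, 12, 10, 8, 6, 4, 2, 1] (.cons [16, 6, 8, 4, 6, 16, 18, 0, 8, 10, 6, 4, 2, 8, 6, 4, 16, 6, 8, 10, 12, 14] .nil .nil) (.cons [12, 6, 8, 10, 4, 6, 8, 18, 20, 18, 14, 12, 8, 10, 4, 6, 8, 18, 16, 14, 12, 10, 8, 6, 4, 2, 1] .nil (.cons [18, 6, 8, 10, 4, 6, 8, 18, 20, 18, 14, 12, 8, 10, 4, 6, 8, 18, 16, 14, 12, 10, 8, 6, 4, 2, 1] .nil (.cons [14, 12, 8, 10, 4, 6, 8, 18, 20, 18, 14, 12, 8, 10, 4, 6, 8, 18, 16, 14, 12, 10, 8, 6, 4, 2, 1] .nil (.cons [20, 18, 8, 10, 4, 6, 8, 18, 20, 18, 14, 12, 8, 10, 4, 6, 8, 18, 16, 14, 12, 10, 8, 6, 4, 2, 1] (.cons [8, 4, 2, 16, 6, 4, 14, 12, 10, 8, 6, 16, 18, 4, 2, 0, 8, 10, 6, 4, 2, 8, 6, 4, 16, 6, 8, 10, 12, 14] (.cons [4, 6, 14, 0, 2,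 8, 10, 6, 8] (.cons [3, 0, 3, 0, 3, 3, 1, 2, 0] .nil .nil) .nil) .nil) (.cons [16, 14, 12, 10, 4, 6, 8, 18, 20, 18, 14, 12, 8, 10, 4, 6, 8, 18, 16, 14, 12, 10, 8, 6, 4, 2, 1] .nil (.cons [16, 14, 12, 8, 10, 6, 8, 18, 20, 18, 14, 12, 8, 10, 4, 6, 8, 18, 16, 14, 12, 10, 8, 6, 4, 2, 1] (.cons [6, 16, 18, 4, 6, 16, 8, 10, 12, 6, 8, 10, 4, 6, 8, 2, 4, 6, 16, 18, 2, 0, 12, 10, 6, 4, 2, 8, 6, 4, 16, 6, 8, 10, 12, 14] .nil .nil) (.cons [18, 14, 12, 8, 10, 6, 8, 18, 20, 18, 14, 12, 8, 10, 4, 6, 8, 18, 16, 14, 12, 10, 8, 6, 4, 2, 1] .nil (.cons [20, 18, 12, 8, 10, 6, 8, 18, 20, 18, 14, 12, 8, 10, 4, 6, 8, 18, 16, 14, 12, 10, 8, 6, 4, 2, 1] .nil (.cons [6, 1, 8, 10, 2, 4, 6, 8, 18, 20, 14, 12, 8, 10, 4, 6, 8, 18, 16, 14, 12, 10, 8,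 6, 4, 2, 1] .nil (.cons [12, 1, 8, 10, 2, 4, 6, 8, 18, 20, 14, 12, 8, 10, 4, 6, 8, 18, 16, 14, 12, 10, 8, 6, 4, 2, 1] .nil (.cons [4, 6, 8, 10, 2, 4, 6, 8, 18, 20, 14, 12, 8, 10, 4, 6, 8, 18, 16, 14, 12, 10, 8, 6, 4, 2, 1] .nil (.cons [12, 6, 8, 10, 2, 4, 6, 8, 18, 20, 14, 12, 8, 10, 4, 6, 8, 18, 16, 14, 12, 10, 8, 6, 4, 2, 1] .nil (.cons [10, 12, 8, 10, 2, 4, 6, 8, 18, 20, 14, 12, 8, 10, 4, 6, 8, 18, 16, 14, 12, 10, 8, 6, 4, 2, 1] .nil (.cons [1, 18, 8, 10, 2, 4, 6, 8, 18, 20, 14, 12, 8, 10, 4, 6, 8, 18, 16, 14, 12, 10, 8, 6, 4, 2, 1] .nil (.cons [20, 18, 8, 10, 2, 4, 6, 8, 18, 20, 14, 12, 8, 10, 4, 6, 8, 18, 16, 14, 12, 10, 8, 6, 4, 2, 1] .nil (.cons [1, 14, 12, 10, 2, 4, 6, 8, 18, 20, 14, 12, 8, 10, 4, 6, 8, 18, 16,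 14, 12, 10, 8, 6, 4, 2, 1] .nil (.cons [18, 12, 6, 8, 10, 4, 6, 8, 18, 20, 14, 12, 8, 10, 4, 6, 8, 18, 16, 14, 12, 10, 8, 6, 4, 2, 1] .nil (.cons [8, 18, 6, 8, 10, 4, 6, 8, 18, 20, 14, 12, 8, 10, 4, 6, 8, 18, 16, 14, 12, 10, 8, 6, 4, 2, 1] .nil (.cons [14, 10, 12, 8, 10, 4, 6, 8, 18, 20, 14, 12, 8, 10, 4, 6, 8, 18, 16, 14, 12, 10, 8, 6, 4, 2, 1] .nil (.cons [12, 14, 10, 12, 8, 10, 6, 8, 18, 20, 14, 12, 8, 10, 4, 6, 8, 18, 16, 14, 12, 10, 8, 6, 4, 2, 1] .nil (.cons [18, 14, 10, 12, 8, 10, 6, 8, 18, 20, 14, 12, 8, 10, 4, 6, 8, 18, 16, 14, 12, 10, 8, 6, 4, 2, 1] (.cons [18, 2, 4, 6, 16, 10, 8, 6, 4, 2, 0, 14, 12, 10, 8, 2, 4, 6, 16, 18, 8, 10, 6, 4, 2, 8, 6, 4, 16, 6, 8, 10, 12, 14] .nil .nil) (.cons [18, 16, 14, 12, 8, 10,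 6, 8, 18, 20, 14, 12, 8, 10, 4, 6, 8, 18, 16, 14, 12, 10, 8, 6, 4, 2, 1] .nil (.cons [14, 1, 12, 10, 2, 4, 6, 8, 18, 20, 18, 12, 8, 10, 4, 6, 8, 18, 16, 14, 12, 10, 8, 6, 4, 2, 1] .nil (.cons [1, 6, 8, 10, 2, 4, 6, 8, 18, 20, 18, 12, 8, 10, 4, 6, 8, 18, 16, 14, 12, 10, 8, 6, 4, 2, 1] .nil (.cons [4, 6, 8, 10, 2, 4, 6, 8, 18, 20, 18, 12, 8, 10, 4, 6, 8, 18, 16, 14, 12, 10, 8, 6, 4, 2, 1] .nil (.cons [12, 6, 8, 10, 2, 4, 6, 8, 18, 20, 18, 12, 8, 10, 4, 6, 8, 18, 16, 14, 12, 10, 8, 6, 4, 2, 1] .nil (.cons [18, 6, 8, 10, 2, 4, 6, 8, 18, 20, 18, 12, 8, 10, 4, 6, 8, 18, 16, 14, 12, 10, 8, 6, 4, 2, 1] .nil (.cons [10, 12, 8, 10, 2, 4, 6, 8, 18, 20, 18, 12, 8, 10, 4, 6, 8, 18, 16, 14, 12, 10, 8, 6, 4, 2, 1] .nil (.cons [14, 12,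 8, 10, 2, 4, 6, 8, 18, 20, 18, 12, 8, 10, 4, 6, 8, 18, 16, 14, 12, 10, 8, 6, 4, 2, 1] .nil (.cons [1, 14, 12, 10, 2, 4, 6, 8, 18, 20, 18, 12, 8, 10, 4, 6, 8, 18, 16, 14, 12, 10, 8, 6, 4, 2, 1] .nil (.cons [10, 12, 6, 8, 10, 4, 6, 8, 18, 20, 18, 12, 8, 10, 4, 6, 8, 18, 16, 14, 12, 10, 8, 6, 4, 2, 1] (.cons [12, 10, 8, 4, 6, 16, 18, 8, 4, 6, 16, 10, 12, 8, 10, 4, 6, 8, 2, 4, 6, 16, 18, 4, 2, 0, 8, 10, 16, 6, 4, 2, 8, 6, 4, 16, 6, 8, 10, 12, 14] (.cons [0, 2, 6, 4, 2, 0, 6, 4, 2, 10, 8, 6, 4, 12, 14, 6, 8, 16] (.cons [0, 3, 0, 2, 0, 0, 0] (.cons [2, 1, 3, 1, 1, 2, 2, 1] .nil .nil) .nil) .nil) .nil) (.cons [14, 12, 6, 8, 10, 4, 6, 8, 18, 20, 18, 12, 8, 10, 4, 6, 8, 18, 16, 14, 12, 10, 8, 6, 4, 2, 1] .nil (.cons [8, 18, 6, 8,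 10, 4, 6, 8, 18, 20, 18, 12, 8, 10, 4, 6, 8, 18, 16, 14, 12, 10, 8, 6, 4, 2, 1] .nil (.cons [18, 10, 12, 8, 10, 4, 6, 8, 18, 20, 18, 12, 8, 10, 4, 6, 8, 18, 16, 14, 12, 10, 8, 6, 4, 2, 1] .nil (.cons [16, 14, 10, 12, 8, 10, 6, 8, 18, 20, 18, 12, 8, 10, 4, 6, 8, 18, 16, 14, 12, 10, 8, 6, 4, 2, 1] .nil (.cons [12, 1, 6, 8, 10, 2, 4, 6, 8, 18, 20, 12, 8, 10, 4, 6, 8, 18, 16, 14, 12, 10, 8, 6, 4, 2, 1] .nil (.cons [14, 1, 12, 8, 10, 2, 4, 6, 8, 18, 20, 12, 8, 10, 4, 6, 8, 18, 16, 14, 12, 10, 8, 6, 4, 2, 1] .nil (.cons [18, 1, 12, 8, 10, 2, 4, 6, 8, 18, 20, 12, 8, 10, 4, 6, 8, 18, 16, 14, 12, 10, 8, 6, 4, 2, 1] .nil (.cons [20, 1, 18, 8, 10, 2, 4, 6, 8, 18, 20, 12, 8, 10, 4, 6, 8, 18, 16, 14, 12, 10, 8, 6, 4, 2, 1] .nil (.cons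 [16, 1, 14, 12, 10, 2, 4, 6, 8, 18, 20, 12, 8, 10, 4, 6, 8, 18, 16, 14, 12, 10, 8, 6, 4, 2, 1] .nil (.cons [12, 4, 6, 8, 10, 2, 4, 6, 8, 18, 20, 12, 8, 10, 4, 6, 8, 18, 16, 14, 12, 10, 8, 6, 4, 2, 1] .nil (.cons [18, 4, 6, 8, 10, 2, 4, 6, 8, 18, 20, 12, 8, 10, 4, 6, 8, 18, 16, 14, 12, 10, 8, 6, 4, 2, 1] .nil (.cons [1, 12, 6, 8, 10, 2, 4, 6, 8, 18, 20, 12, 8, 10, 4, 6, 8, 18, 16, 14, 12, 10, 8, 6, 4, 2, 1] .nil (.cons [10, 12, 6, 8, 10, 2, 4, 6, 8, 18, 20, 12, 8, 10, 4, 6, 8, 18, 16, 14, 12, 10, 8, 6, 4, 2, 1] .nil (.cons [18, 12, 6, 8, 10, 2, 4, 6, 8, 18, 20, 12, 8, 10, 4, 6, 8, 18, 16, 14, 12, 10, 8, 6, 4, 2, 1] .nil (.cons [1, 18, 6, 8, 10, 2, 4, 6, 8, 18, 20, 12, 8, 10, 4, 6, 8, 18, 16, 14, 12, 10, 8, 6, 4, 2, 1] .nil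 (.cons [8, 18, 6, 8, 10, 2, 4, 6, 8, 18, 20, 12, 8, 10, 4, 6, 8, 18, 16, 14, 12, 10, 8, 6, 4, 2, 1] .nil (.cons [20, 18, 6, 8, 10, 2, 4, 6, 8, 18, 20, 12, 8, 10, 4, 6, 8, 18, 16, 14, 12, 10, 8, 6, 4, 2, 1] (.cons [16, 18, 2, 4, 6, 16, 10, 12, 8, 10, 6, 8, 4, 6, 16, 18, 4, 2, 0, 8, 10, 16, 6, 4, 2, 8, 6, 4, 16, 6, 8, 10, 12, 14] (.cons [10, 8, 2, 16, 14, 6, 4, 2, 8, 6, 14] (.cons [1, 1, 2, 0, 3, 0, 2, 1, 3, 1] (.cons [2, 2, 0, 3, 0, 3, 0, 2, 0] .nil .nil) .nil) .nil) .nil) .nil)))))))))))))))))))))))))))))))))))))))))))))))))))))))))))))))))))))))))))))))))))))))))))))))))))))))))))))))))))))))))))))))))))))))))))))))))))))))))))))))))))))))))))))))))))))))))))))))))))))))))))))))))))))))))))))))))))))))))))))))))))))))))))))))))))))))))))))))))))))))))))))))))))))))))))))))))))))))))))))))))))))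 (⟨cu_l0.b, cu_l0.S, [], cu_R46, 0⟩ :: cu_tl) (0 :: cu_lk) Pd.nil 0 = true := by decide +kernel

end Cfsg.Agent.Fi24C
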