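import Cfsg.Agent.Fi24C.OutUL3
import Cfsg.Agent.Fi24C.OutUL4
import Cfsg.Agent.Fi24C.OutUV
import Cfsg.Agent.Fi24C.OutU_0
import Cfsg.Agent.Fi24C.OutU_1
import Cfsg.Agent.Fi24C.OutU_2
import Cfsg.Agent.Fi24C.OutU_3
import Cfsg.Agent.Fi24C.OutU_4
import Cfsg.Agent.Fi24C.OutU_5
import Cfsg.Agent.Fi24C.OutU_6
import Cfsg.Agent.Fi24C.OutU_7
import Cfsg.Agent.Fi24C.OutU_8

set_option autoImplicit false
set_option Elab.async false
set_option maxRecDepth 100000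
set_option linter.all false

namespace Cfsg.Agent.Fi24C
open Cfsg.Agent.CGT

theorem cu_sound {G : Type*} [Group G] {φ : G →* Equiv.Perm ℕ} {γ : ℕ → G}
    (M : Model φ γ 19 m_ns m_ts) : ChainSound φ (gp γ [0, 2, 4, 6, 8, 10, 12, 14, 16, 18, 20]) 19 [] cu_ls :=
  ⟨Level.ok_sound' M cu_l0_ok,
   Level.ok_sound' M cu_l1_ok,
   Level.ok_sound' M cu_l2_ok,
   Level.ok_sound' M cu_l3_ok,
   Level.ok_sound' M cu_l4_ok,
   Level.okT_sound M cu_l5_ok, trivial⟩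
theorem cu_cent {G : Type*} [Group G] {φ : G →* Equiv.Perm ℕ} {γ : ℕ → G}
    (C : Cert φ γ 19 m_ns m_ts [0, 2, 4, 6, 8, 10, 12, 14, 16, 18, 20] c_ls) : Cent γ cu_S.u cu_S.Cl 13 :=
  have X := (C.rechain (cu_sound C.M) (by decide +kernel)).exact
  have A := Srch.auxB_sound (S := cu_S) C.M (K := ⊤) le_top rfl cu_aux
  have F := fun {tr : Tr} {R : ℕ} => Srch.found_of_run (S := cu_S) C.M C.base (by decide +kernel) X A (tr := tr) (R := R)
  Cent.of_found (S := cu_S) C.M X rfl ((F cu_r0).or ((F cu_r1).or ((F cu_r2).or ((F cu_r3).or ((F cu_r4).or ((F cu_r5).or ((F cu_r6).or ((F cu_r7).or ((F cu_r8).or ((F cu_r9).or ((F cu_r10).or ((F cu_r11).or ((F cu_r12).or ((F cu_r13).or ((F cu_r14).or ((F cu_r15).or ((F cu_r16).or ((F cu_r17).or ((F cu_r18).or ((F cu_r19).or ((F cu_r20).or ((F cu_r21).or ((F cu_r22).or ((F cu_r23).or ((F cu_r24).or ((F cu_r25).or ((F cu_r26).or ((F cu_r27).or ((F cu_r28).or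 ((F cu_r29).or ((F cu_r30).or ((F cu_r31).or ((F cu_r32).or ((F cu_r33).or ((F cu_r34).or ((F cu_r35).or ((F cu_r36).or ((F cu_r37).or ((F cu_r38).or ((F cu_r39).or ((F cu_r40).or ((F cu_r41).or ((F cu_r42).or ((F cu_r43).or ((F cu_r44).or ((F cu_r45).or ((F cu_r46).or ((F cu_r47).or ((F cu_r48).or ((F cu_r49).or ((F cu_r50).or ((F cu_r51).or ((F cu_r52).or ((F cu_r53).or ((F cu_r54).or ((F cu_r55).or ((F cu_r56).or ((F cu_r57).or ((F cu_r58).or ((F cu_r59).or ((F cu_r60).or ((F cu_r61).or ((F cu_r62).or ((F cu_r63).or ((F cu_r64).or ((F cu_r65).or ((F cu_r66).or ((F cu_r67).or ((F cu_r68).or ((F cu_r69).or ((F cu_r70).or ((F cu_r71).or ((F cu_r72).or ((F cu_r73).or ((F cu_r74).or ((F cu_r75).or ((F cu_r76).or ((F cu_r77).or ((F cu_r78).or ((F cu_r79).or ((F cu_r80).or ((F cu_r81).or ((F cu_r82).or (F cu_r83))))))))))))))))))))))))))))))))))))))))))))))))))))))))))))))))))))))))))))))))))))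 cu_cov

end Cfsg.Agent.Fi24C
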