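import Cfsg.Agent.Fi24C.OutXL3
import Cfsg.Agent.Fi24C.OutXV
import Cfsg.Agent.Fi24C.OutX_0
import Cfsg.Agent.Fi24C.OutX_1
import Cfsg.Agent.Fi24C.OutX_2

set_option autoImplicit false
set_option Elab.async false
set_option maxRecDepth 100000
set_option linter.all false

namespace Cfsg.Agent.Fi24C
open Cfsg.Agent.CGT

theorem cx_sound {G : Type*} [Group G] {φ : G →* Equiv.Perm ℕ} {γ : ℕ → G}
    (M : Model φ γ 19 m_ns m_ts) : ChainSound φ (gp γ [0, 2, 4, 6, 8, 10, 12, 14, 16, 18, 20]) 19 [] cx_ls :=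
  ⟨Level.ok_sound' M cx_l0_ok,
   Level.ok_sound' M cx_l1_ok,
   Level.ok_sound' M cx_l2_ok,
   Level.ok_sound' M cx_l3_ok,
   Level.okT_sound M cx_l4_ok,
   Level.okT_sound M cx_l5_ok,
   Level.okT_sound M cx_l6_ok, trivial⟩
theorem cx_cent {G : Type*} [Group G] {φ : G →* Equiv.Perm ℕ} {γ : ℕ → G}
    (C : Cert φ γ 19 m_ns m_ts [0, 2, 4, 6, 8, 10, 12, 14, 16, 18, 20] c_ls) : Cent γ cx_S.u cx_S.Cl 28 :=
  have X := (C.rechain (cx_sound C.M) (by decide +kernel)).exact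
  have A := Srch.auxB_sound (S := cx_S) C.M (K := ⊤) le_top rfl cx_aux
  have F := fun {tr : Tr} {R : ℕ} => Srch.found_of_run (S := cx_S) C.M C.base (by decide +kernel) X A (tr := tr) (R := R)
  Cent.of_found (S := cx_S) C.M X rfl ((F cx_r0).or ((F cx_r1).or ((F cx_r2).or ((F cx_r3).or ((F cx_r4).or ((F cx_r5).or ((F cx_r6).or ((F cx_r7).or ((F cx_r8).or ((F cx_r9).or ((F cx_r10).or ((F cx_r11).or ((F cx_r12).or ((F cx_r13).or ((F cx_r14).or ((F cx_r15).or ((F cx_r16).or ((F cx_r17).or ((F cx_r18).or ((F cx_r19).or ((F cx_r20).or ((F cx_r21).or ((F cx_r22).or ((F cx_r23).or ((F cx_r24).or (F cx_r25)))))))))))))))))))))))))) cx_cov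

end Cfsg.Agent.Fi24C
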