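import Cfsg.Agent.Fi24C.TabsD3

set_option autoImplicit false
set_option Elab.async false
set_option maxRecDepth 100000
set_option linter.all false

namespace Cfsg.Agent.Fi24C
open Cfsg.Agent.CGT

theorem m_t18_b : Tab.beq (mkTab 19 11 m_ns 18) m_t18 = true := by decide +kernel
theorem m_t20_b : Tab.beq (mkTab 19 11 m_ns 20) m_t20 = true := by decide +kernel

end Cfsg.Agent.Fi24C
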