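import Cfsg.Agent.Fi24C.Tabs_0
import Cfsg.Agent.Fi24C.Tabs_1

set_option autoImplicit false
set_option Elab.async false
set_option maxRecDepth 100000
set_option linter.all false

namespace Cfsg.Agent.Fi24C
open Cfsg.Agent.CGT

theorem m_p : Holds (lp m_ns) II := ((holdsB_sound m_v m_p0).append ((holdsB_sound m_v m_p1).append ((holdsB_sound m_v m_p2).append ((holdsB_sound m_v m_p3).append ((holdsB_sound m_v m_p4).append ((holdsB_sound m_v m_p5).append ((holdsB_sound m_v m_p6).append ((holdsB_sound m_v m_p7).append ((holdsB_sound m_v m_p8).append (holdsB_sound m_v m_p9))))))))))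
theorem m_ts_ok : TabsOK 19 (lp m_ns) m_ts :=
  TabsFrom.ok ⟨TabOK.of_beq m_v m_t0_b,
    TabOK.of_beq m_v m_t1_b,
    TabOK.of_beq m_v m_t2_b,
    TabOK.next (j := 1) (TabOK.of_beq m_v m_t2_b) m_p (by decide +kernel),
    TabOK.of_beq m_v m_t4_b,
    TabOK.next (j := 2) (TabOK.of_beq m_v m_t4_b) m_p (by decide +kernel),
    TabOK.of_beq m_v m_t6_b,
    TabOK.next (j := 3) (TabOK.of_beq m_v m_t6_b) m_p (by decide +kernel),
    TabOK.of_beq m_v m_t8_b,
    TabOK.next (j := 4) (TabOK.of_beq m_v m_t8_b) m_p (by decide +kernel),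
    TabOK.of_beq m_v m_t10_b,
    TabOK.next (j := 5) (TabOK.of_beq m_v m_t10_b) m_p (by decide +kernel),
    TabOK.of_beq m_v m_t12_b,
    TabOK.next (j := 6) (TabOK.of_beq m_v m_t12_b) m_p (by decide +kernel),
    TabOK.of_beq m_v m_t14_b,
    TabOK.next (j := 7) (TabOK.of_beq m_v m_t14_b) m_p (by decide +kernel),
    TabOK.of_beq m_v m_t16_b,
    TabOK.next (j := 8) (TabOK.of_beq m_v m_t16_b) m_p (by decide +kernel),
    TabOK.of_beq m_v m_t18_b,
    TabOK.next (j := 9) (TabOK.of_beq m_v m_t18_b) m_p (by decide +kernel),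
    TabOK.of_beq m_v m_t20_b,
    TabOK.next (j := 10) (TabOK.of_beq m_v m_t20_b) m_p (by decide +kernel),
    Nat.le_of_ble_eq_true (by decide +kernel)⟩

end Cfsg.Agent.Fi24C
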