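import Cfsg.Agent.Fi24C.TabsD3

set_option autoImplicit false
set_option Elab.async false
set_option maxRecDepth 100000
set_option linter.all false

namespace Cfsg.Agent.Fi24C
open Cfsg.Agent.CGT

theorem m_p0 : holdsB 19 m_ns [[2, 2]] = true := by decide +kernel
theorem m_p1 : holdsB 19 m_ns [[4, 4]] = true := by decide +kernel
theorem m_p2 : holdsB 19 m_ns [[6, 6]] = true := by decide +kernel
theorem m_p3 : holdsB 19 m_ns [[8, 8]] = true := by decide +kernel
theorem m_p4 : holdsB 19 m_ns [[10, 10]] = true := by decide +kernel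
theorem m_p5 : holdsB 19 m_ns [[12, 12]] = true := by decide +kernel
theorem m_p6 : holdsB 19 m_ns [[14, 14]] = true := by decide +kernel
theorem m_p7 : holdsB 19 m_ns [[16, 16]] = true := by decide +kernel
theorem m_p8 : holdsB 19 m_ns [[18, 18]] = true := by decide +kernel
theorem m_p9 : holdsB 19 m_ns [[20, 20]] = true := by decide +kernel
theorem m_t0_b : Tab.beq (mkTab 19 11 m_ns 0) m_t0 = true := by decide +kernel
theorem m_t1_b : Tab.beq (mkTab 19 11 m_ns 1) m_t1 = true := by decide +kernel
theorem m_t2_b : Tab.beq (mkTab 19 11 m_ns 2) m_t2 = true := by decide +kernel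
theorem m_t4_b : Tab.beq (mkTab 19 11 m_ns 4) m_t4 = true := by decide +kernel
theorem m_t6_b : Tab.beq (mkTab 19 11 m_ns 6) m_t6 = true := by decide +kernel
theorem m_t8_b : Tab.beq (mkTab 19 11 m_ns 8) m_t8 = true := by decide +kernel
theorem m_t10_b : Tab.beq (mkTab 19 11 m_ns 10) m_t10 = true := by decide +kernel
theorem m_t12_b : Tab.beq (mkTab 19 11 m_ns 12) m_t12 = true := by decide +kernel
theorem m_t14_b : Tab.beq (mkTab 19 11 m_ns 14) m_t14 = true := by decide +kernel
theorem m_t16_b : Tab.beq (mkTab 19 11 m_ns 16) m_t16 = true := by decide +kernel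

end Cfsg.Agent.Fi24C
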